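import Groth.Agent.L22.Nakai.Finite
import Groth.Agent.L18.ProjSpaceUP
import Groth.Agent.L18.AmpleGG
import Groth.Agent.L18.AmplePull
import Groth.Agent.L00.SteinNorm
import Groth.Agent.L00.ProperNorm
import Groth.Agent.L16.Connected.Stein
import Groth.Agent.L19.NormalSections
import Groth.Agent.L22.VeryAmple.Over
import Groth.Agent.L16.ProjSpace.AmpleIff
import Groth.Prelude.Def_Neron

/-!
# The contraction given by a globally generated invertible module
-/

set_option autoImplicit false
set_option backward.isDefEq.respectTransparency false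
set_option linter.style.haveILetI false
set_option linter.unusedSectionVars false
universe u

open CategoryTheory CategoryTheory.Limits AlgebraicGeometry TopologicalSpace

noncomputable section

namespace Groth.L13.CurveContr

/-- The Stein factor of the map given by a globally generated invertible module. -/
theorem exists_stein {R : Type u} [CommRing R] [IsNoetherianRing R] (X : Over (Spec (CommRingCat.of R)))
    [IsIntegral X.left] [IsProper X.hom] (hnor : ∀ x : X.left, IsIntegrallyClosed (X.left.presheaf.stalk x))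
    {L : X.left.Modules} (hL : PicF.IsInvertible L) (hgg : Curv2.IsGloballyGenerated L) :
    ∃ (Y : Over (Spec (CommRingCat.of R))) (f : X ⟶ Y) (M : Y.left.Modules),
      IsIntegral Y.left ∧ (∀ q : Y.left, IsIntegrallyClosed (Y.left.presheaf.stalk q)) ∧
      Neron.IsProjectiveOver R Y ∧ IsProper f.left ∧ Surjective f.left ∧
      (∀ U, IsIso (f.left.app U)) ∧ CohB1.IsAmple M ∧ Nonempty ((Scheme.Modules.pullback f.left).obj M ≅ L) := by
  haveI : IsLocallyNoetherian X.left := LocallyOfFiniteType.isLocallyNoetherian X.hom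
  haveI : CompactSpace X.left := QuasiCompact.compactSpace_of_compactSpace X.hom
  obtain ⟨N, s, hs⟩ := Groth.L22.Nakai.exists_generatedBy
    (fun x => Groth.L18.Ample.exists_genLocus_mem_of_gg hL hgg x)
  -- make sure the target has positive dimension
  let s' : Fin (N + 1 + 1) → Γ(L, ⊤) := Fin.cases (s 0) s
  have hs' : ProjUP.GeneratedBy L s' := fun x => top_le_iff.1 <| (hs x).ge.trans <| Submodule.span_mono <| by
    rintro _ ⟨i, rfl⟩
    exact ⟨i.succ, by simp [s']⟩
  obtain ⟨φ, hφ, τ, -⟩ := Groth.L18.PUP.exists_hom X.hom L hL s' hs'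
  haveI : IsProper (Groth.L18.PUP.pr (N + 1) R) := inferInstance
  haveI : IsProper (φ ≫ Groth.L18.PUP.pr (N + 1) R) := by rw [hφ]; infer_instance
  haveI : IsProper φ := IsProper.of_comp φ (Groth.L18.PUP.pr (N + 1) R)
  haveI : IsLocallyNoetherian (Groth.L18.PUP.P (N + 1) R) :=
    LocallyOfFiniteType.isLocallyNoetherian (Groth.L18.PUP.pr (N + 1) R)
  haveI := Groth.L00.ProperNorm.isFinite_fromNormalization φ
  let Y : Over (Spec (CommRingCat.of R)) := Over.mk (φ.fromNormalization ≫ Groth.L18.PUP.pr (N + 1) R)
  let f : X ⟶ Y := Over.homMk φ.toNormalization (by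
    show φ.toNormalization ≫ φ.fromNormalization ≫ _ = _
    rw [φ.toNormalization_fromNormalization_assoc, hφ])
  let M := (Scheme.Modules.pullback φ.fromNormalization).obj (Groth.L18.PUP.O1 (N + 1) R)
  haveI : Nontrivial R := (RingHom.domain_nontrivial (ProjUP.toGlobal X.hom))
  have hO : CohB1.IsAmple (Groth.L18.PUP.O1 (N + 1) R) :=
    (Groth.L16.ProjSpace.isAmple_twistProjSpace_iff (R := R) (n := N + 1) (by omega) 1).2 one_pos
  have hM : CohB1.IsAmple M := Groth.L18.Ample.isAmple_pullback_of_isAffineHom φ.fromNormalization hO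
  haveI hYp : IsProper Y.hom := inferInstanceAs (IsProper (φ.fromNormalization ≫ Groth.L18.PUP.pr (N + 1) R))
  have hproj : Neron.IsProjectiveOver R Y := by
    obtain ⟨n₀, hn₀⟩ := Groth.L22.VeryAmple.exists_forall_isRelVeryAmplePn (q := Y.hom) hM
    obtain ⟨n, i, hi, hiY, -⟩ := hn₀ n₀ le_rfl
    refine ⟨n, i, ?_, hiY⟩
    haveI : IsProper (CohB1.ProjSpaceOver.toBase n (Spec (CommRingCat.of R))) :=
      MorphismProperty.pullback_snd (P := @IsProper) _ _ inferInstance
    haveI := hi
    haveI : IsProper (i ≫ CohB1.ProjSpaceOver.toBase n (Spec (CommRingCat.of R))) :=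
      (show i ≫ CohB1.ProjSpaceOver.toBase n (Spec (CommRingCat.of R)) = Y.hom from hiY) ▸ hYp
    haveI : IsProper i := IsProper.of_comp i (CohB1.ProjSpaceOver.toBase n (Spec (CommRingCat.of R)))
    exact IsClosedImmersion.of_isPreimmersion _ i.isClosedMap.isClosed_range
  haveI : IsProper f.left := Groth.L16.Connected.isProper_toNormalization φ
  refine ⟨Y, f, M, inferInstanceAs (IsIntegral φ.normalization), fun q =>
    (Groth.L19.NormalSec.isNormalScheme_normalization φ hnor q).2, hproj, inferInstance, ⟨?_⟩,
    Groth.L00.SteinNorm.isIso_toNormalization_app φ, hM,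
    ⟨(Scheme.Modules.pullbackComp φ.toNormalization φ.fromNormalization).app _ ≪≫
      (Scheme.Modules.pullbackCongr φ.toNormalization_fromNormalization).app _ ≪≫ τ⟩⟩
  refine Set.range_eq_univ.1 ?_
  rw [← f.left.isClosedMap.isClosed_range.closure_eq]
  exact φ.toNormalization.denseRange.closure_range

end Groth.L13.CurveContr
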