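import Groth.Agent.L13.CurveContr.Generic
import Groth.Agent.L13.CurveContr.Semiample
import Groth.Agent.L05.GeomMult.Components
import Groth.Agent.L02.Misc.STD
import Groth.Agent.L19.Topology
import Groth.Agent.L13.RatSing.Birat

/-!
# Contracting the curves on which a globally generated module is trivial
-/

set_option autoImplicit false
set_option backward.isDefEq.respectTransparency false
set_option linter.style.haveILetI false
set_option linter.unusedSectionVars false
universe u

open CategoryTheory CategoryTheory.Limits AlgebraicGeometry TopologicalSpace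

noncomputable section

namespace Groth.L13.CurveContr

variable {R : Type u} [CommRing R] [IsDomain R] [IsDiscreteValuationRing R]
  (X : Over (Spec (CommRingCat.of R))) [IsProper X.hom] [IsIntegral X.left] [Flat X.hom]

theorem mem_special_of_vertComp (E : ArSurf.VertComp R X) (c : E.curve.left) :
    X.hom (E.ι c) = IsLocalRing.closedPoint R := by
  rw [← Scheme.Hom.comp_apply, E.w, Scheme.Hom.comp_apply]
  refine PrimeSpectrum.ext ?_
  generalize E.curve.hom c = t
  show Ideal.comap (IsLocalRing.residue R) t.asIdeal = IsLocalRing.maximalIdeal R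
  rw [(Ideal.eq_bot_or_top t.asIdeal).resolve_right t.2.ne_top]
  exact Ideal.mk_ker

theorem exists_contraction (hnor : ∀ x : X.left, IsIntegrallyClosed (X.left.presheaf.stalk x))
    (hdim : topologicalKrullDim X.left = 2) {r : ℕ} (Γ : Fin r → ArSurf.VertComp R X)
    {L : X.left.Modules} (hL : PicF.IsInvertible L) (hgg : Curv2.IsGloballyGenerated L)
    (hdeg : 0 < ArSurf.curveDeg (FractionRing R) ((Neron.genericFibre R).obj X).left
      ((Scheme.Modules.pullback (pullback.fst X.hom (Neron.genPt R))).obj L))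
    (htriv : ∀ E : ArSurf.VertComp R X,
      Nonempty ((Scheme.Modules.pullback E.ι).obj L ≅ Coh.structureModule E.curve.left) ↔
        ∃ i, Set.range (E.ι.base : E.curve.left → X.left) = Set.range (Γ i).ι.base) :
    ∃ (Y : Over (Spec (CommRingCat.of R))) (f : X ⟶ Y) (M : Y.left.Modules),
      IsIntegral Y.left ∧ (∀ q : Y.left, IsIntegrallyClosed (Y.left.presheaf.stalk q)) ∧
      topologicalKrullDim Y.left = 2 ∧ Flat Y.hom ∧ Neron.IsProjectiveOver R Y ∧
      IsProper f.left ∧ (∀ U, IsIso (f.left.app U)) ∧ CohB1.IsAmple M ∧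
      Nonempty ((Scheme.Modules.pullback f.left).obj M ≅ L) ∧
      (∀ i, ∃ y : Y.left, IsClosed ({y} : Set Y.left) ∧
        Set.range (((Γ i).ι ≫ f.left).base : (Γ i).curve.left → Y.left) = {y}) ∧
      f.left.base ⁻¹' (f.left.base '' ⋃ i, Set.range (Γ i).ι.base) = ⋃ i, Set.range (Γ i).ι.base ∧
      ∀ V : Y.left.Opens, (V : Set Y.left) ∩ f.left.base '' (⋃ i, Set.range (Γ i).ι.base) = ∅ →
        IsIso (f.left ∣_ V) := by
  classical
  haveI : IsLocallyNoetherian X.left := LocallyOfFiniteType.isLocallyNoetherian X.hom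
  obtain ⟨Y, f, M, hYi, hYn, hYproj, hfp, hfs, hO, hMa, ⟨τ⟩⟩ := exists_stein X hnor hL hgg
  haveI := hYi
  haveI := hfp
  haveI := hfs
  haveI : IsProper Y.hom := by
    obtain ⟨n, i, hi, hiY⟩ := hYproj
    haveI := hi
    haveI : IsProper (CohB1.ProjSpaceOver.toBase n (Spec (CommRingCat.of R))) :=
      MorphismProperty.pullback_snd (P := @IsProper) _ _ inferInstance
    exact hiY ▸ inferInstance
  haveI : IsLocallyNoetherian Y.left := LocallyOfFiniteType.isLocallyNoetherian Y.hom
  have hMi : PicF.IsInvertible M := hMa.1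
  obtain ⟨hgen, a, ha, hane⟩ := generic_fibre X hdim f hMi τ hdeg
  -- curves with trivial module are the contracted ones
  have hconst : ∀ E : ArSurf.VertComp R X, (∀ c, f.left (E.ι c) = f.left (Models.genPtOf R X E)) ↔
      ∃ i, Set.range (E.ι.base : E.curve.left → X.left) = Set.range (Γ i).ι.base := by
    intro E
    rw [← htriv E]
    haveI := E.isIntegral
    haveI := E.isClosedImmersion
    haveI := Groth.L05.InterPair.isProper_curve E
    constructor
    · intro h
      have hsub : Set.range (E.ι ≫ f.left) ⊆ ({f.left (Models.genPtOf R X E)} : Set Y.left) := by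
        rintro _ ⟨c, rfl⟩
        exact h c
      obtain ⟨e⟩ := Groth.L13.PairBlow.nonempty_pullback_trivial hsub
        (Groth.L12.FinCov.isFinLocFreeOfRank_one_of_isInvertible hMi)
      exact ⟨(Scheme.Modules.pullback E.ι).mapIso τ.symm ≪≫ (Scheme.Modules.pullbackComp E.ι f.left).app M ≪≫ e⟩
    · rintro ⟨t⟩ c
      haveI : IsProper E.curve.hom :=
        inferInstanceAs (IsProper (E.curve.left ↘ Spec (CommRingCat.of (IsLocalRing.ResidueField R))))
      exact constant_of_pullback_trivial E.curve.hom E.dim_eq (E.ι ≫ f.left) hMa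
        (((Scheme.Modules.pullbackComp E.ι f.left).app M).symm ≪≫ (Scheme.Modules.pullback E.ι).mapIso τ ≪≫ t) c
  obtain ⟨n, Γs, hΓs, -⟩ := Groth.L05.GeomMult.exists_componentList hdim
  -- the image of a contracted curve is a closed point
  have himg : ∀ i, ∃ y : Y.left, IsClosed ({y} : Set Y.left) ∧
      Set.range (((Γ i).ι ≫ f.left).base : (Γ i).curve.left → Y.left) = {y} := fun i => by
    haveI := (Γ i).isClosedImmersion
    haveI := (Γ i).isIntegral
    have h := (hconst (Γ i)).2 ⟨i, rfl⟩
    have hr : Set.range (((Γ i).ι ≫ f.left).base : (Γ i).curve.left → Y.left) =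
        {f.left (Models.genPtOf R X (Γ i))} := by
      ext y
      exact ⟨fun ⟨c, hc⟩ => hc ▸ h c, fun hy => ⟨genericPoint (Γ i).curve.left, hy.symm⟩⟩
    exact ⟨_, hr ▸ ((Γ i).ι ≫ f.left).isClosedMap.isClosed_range, hr⟩
  set S := ⋃ i, Set.range ((Γ i).ι.base : (Γ i).curve.left → X.left) with hS
  have hinS : ∀ i, ∀ z ∈ Set.range ((Γ i).ι.base : (Γ i).curve.left → X.left), z ∈ S := fun i z hz =>
    Set.mem_iUnion.2 ⟨i, hz⟩
  -- a curve with infinitely many points in one fibre is contracted
  have hcurve : ∀ (k : Fin n) (y : Y.left),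
      (f.left ⁻¹' {y} ∩ Set.range (Γs k).ι.base).Infinite →
        ∃ i, Set.range ((Γs k).ι.base : (Γs k).curve.left → X.left) = Set.range (Γ i).ι.base := by
    intro k y hinf
    haveI := (Γs k).isClosedImmersion
    haveI := (Γs k).isIntegral
    haveI := Groth.L05.InterPair.isProper_curve (Γs k)
    haveI := Groth.L21.RR.isNoetherian_of_proper (X := (Γs k).curve.left) (IsLocalRing.ResidueField R)
    refine (hconst (Γs k)).1 ((constant_or_finite (isClosed_of_ne_genericPoint (Γs k).dim_eq.le)
      ((Γs k).ι ≫ f.left) ((Γs k).ι ≫ f.left).isClosedMap).resolve_right fun hfin => hinf ?_)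
    refine ((hfin y).image (Γs k).ι.base).subset ?_
    rintro _ ⟨hy, c, rfl⟩
    exact ⟨c, hy, rfl⟩
  -- the infinite fibres
  have hbad : ∀ y : Y.left, (f.left ⁻¹' {y}).Infinite → y ∈ f.left.base '' S := by
    intro y hinf
    have hy : Y.hom y = IsLocalRing.closedPoint R := by
      by_contra hy
      exact hinf (hgen y hy)
    obtain ⟨k, hk⟩ : ∃ k, (f.left ⁻¹' {y} ∩ Set.range (Γs k).ι.base).Infinite := by
      by_contra hall
      push Not at hall
      refine hinf ((Set.finite_iUnion hall).subset fun x hx => ?_)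
      obtain ⟨k, hk⟩ := exists_component_mem hΓs (x := x) (by
        show X.hom x = IsLocalRing.closedPoint R
        rw [← Over.w f, Scheme.Hom.comp_apply, show f.left x = y from hx, hy])
      exact Set.mem_iUnion.2 ⟨k, hx, hk⟩
    obtain ⟨i, hi⟩ := hcurve k y hk
    obtain ⟨x, hx, hxk⟩ := hk.nonempty
    exact ⟨x, hinS i x (hi ▸ hxk), hx⟩
  have hinfS : ∀ y ∈ f.left.base '' S, (f.left ⁻¹' {y}).Infinite := by
    rintro _ ⟨x, hx, rfl⟩ hfin
    obtain ⟨i, c, rfl⟩ := Set.mem_iUnion.1 hx
    haveI := (Γ i).isClosedImmersion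
    haveI := (Γ i).isIntegral
    haveI := Groth.L05.InterPair.isProper_curve (Γ i)
    have h := (hconst (Γ i)).2 ⟨i, rfl⟩
    have hcf : (Set.univ : Set (Γ i).curve.left).Finite := by
      refine (hfin.preimage (Γ i).ι.isClosedEmbedding.injective.injOn).subset fun z _ => ?_
      exact (h z).trans (h c).symm
    haveI : Finite (Γ i).curve.left := Set.finite_univ_iff.1 hcf
    haveI : JacobsonSpace (Γ i).curve.left :=
      LocallyOfFiniteType.jacobsonSpace ((Γ i).curve.left ↘ Spec (CommRingCat.of (IsLocalRing.ResidueField R)))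
    haveI : DiscreteTopology (Γ i).curve.left := inferInstance
    haveI : Subsingleton (Γ i).curve.left := by
      refine ⟨fun p q => ?_⟩
      have hp := (genericPoint_specializes p).eq
      have hq := (genericPoint_specializes q).eq
      exact hp.symm.trans hq
    have h0 : topologicalKrullDim (Γ i).curve.left ≤ 0 := by
      refine Order.krullDim_nonpos_iff_forall_isMax.2 fun A B hAB => ?_
      obtain ⟨a, ha⟩ := A.isIrreducible.1
      exact fun b _ => (Subsingleton.elim b a) ▸ ha
    rw [(Γ i).dim_eq] at h0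
    exact not_lt.2 h0 (by norm_num)
  have hpre : f.left.base ⁻¹' (f.left.base '' S) = S := by
    refine Set.Subset.antisymm (fun x hx => ?_) (Set.subset_preimage_image _ _)
    by_contra hxS
    have hinf := hinfS _ hx
    obtain ⟨x₀, hx₀, hfx₀⟩ := hx
    obtain ⟨i₀, hi₀⟩ := Set.mem_iUnion.1 hx₀
    obtain ⟨y₀, hy₀c, hy₀⟩ := himg i₀
    have hyx : f.left x = y₀ := by
      obtain ⟨c, rfl⟩ := hi₀
      rw [← hfx₀]
      exact hy₀.le ⟨c, rfl⟩
    have hys : Y.hom (f.left x) = IsLocalRing.closedPoint R := by
      rw [← hfx₀, ← Scheme.Hom.comp_apply, Over.w f]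
      obtain ⟨c, rfl⟩ := hi₀
      exact mem_special_of_vertComp X (Γ i₀) c
    have hfin : ∀ k, x ∈ Set.range (Γs k).ι.base → (f.left ⁻¹' {f.left x} ∩ Set.range (Γs k).ι.base).Finite := by
      intro k hxk
      by_contra hk
      obtain ⟨i, hi⟩ := hcurve k _ hk
      exact hxS (hinS i x (hi ▸ hxk))
    let T := f.left ⁻¹' {f.left x}
    have hTc : IsClosed T := (hyx ▸ hy₀c).preimage f.left.continuous
    let U : Set X.left := (⋃ k ∈ {k | x ∉ Set.range (Γs k).ι.base}, Set.range (Γs k).ι.base)ᶜ
    have hU : IsOpen U := (isOpen_compl_iff).2 ((Set.toFinite _).isClosed_biUnion fun k _ =>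
      haveI := (Γs k).isClosedImmersion; (Γs k).ι.isClosedEmbedding.isClosed_range)
    have hxU : x ∈ U := by simp [U]
    have hTU : (T ∩ U).Finite := by
      refine ((Set.toFinite {k | x ∈ Set.range (Γs k).ι.base}).biUnion fun k hk => hfin k hk).subset
        fun z hz => ?_
      obtain ⟨k, hk⟩ := exists_component_mem hΓs (x := z) (by
        show X.hom z = IsLocalRing.closedPoint R
        rw [← Over.w f, Scheme.Hom.comp_apply, show f.left z = f.left x from hz.1, hys])
      refine Set.mem_biUnion (x := k) ?_ ⟨hz.1, hk⟩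
      by_contra hxk
      exact hz.2 (Set.mem_biUnion hxk hk)
    have hclosed : ∀ z ∈ T ∩ U, IsClosed ({z} : Set X.left) := fun z hz => by
      obtain ⟨k, hk⟩ := exists_component_mem hΓs (x := z) (by
        show X.hom z = IsLocalRing.closedPoint R
        rw [← Over.w f, Scheme.Hom.comp_apply, show f.left z = f.left x from hz.1, hys])
      have hxk : x ∈ Set.range (Γs k).ι.base := by
        by_contra hxk
        exact hz.2 (Set.mem_biUnion hxk hk)
      haveI := (Γs k).isClosedImmersion
      haveI := (Γs k).isIntegral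
      obtain ⟨c, rfl⟩ := hk
      by_cases hc : c = genericPoint (Γs k).curve.left
      · exfalso
        subst hc
        obtain ⟨c', hc'⟩ := hxk
        refine hxS ?_
        obtain ⟨i, hi⟩ := (hconst (Γs k)).1 fun d => by
          have h1 := ((genericPoint_specializes d).map (Γs k).ι.continuous).mem_closed hTc hz.1
          exact h1.trans (show f.left x = f.left _ from hz.1.symm)
        exact hinS i x (hi ▸ ⟨c', hc'⟩)
      · have := (Γs k).ι.isClosedEmbedding.isClosedMap _ (isClosed_of_ne_genericPoint (Γs k).dim_eq.le c hc)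
        rwa [Set.image_singleton] at this
    haveI := Groth.L16.Connected.geometricallyConnected_fiber f.left hO (f.left x)
    haveI : ConnectedSpace ↥(Limits.pullback (f.left.fiberToSpecResidueField (f.left x)) (𝟙 _)) :=
      GeometricallyConnected.geometrically_connectedSpace (f := f.left.fiberToSpecResidueField (f.left x)) _ _ _
        (IsPullback.of_hasPullback _ (𝟙 _))
    haveI : ConnectedSpace ↥(f.left.fiber (f.left x)) :=
      (Limits.pullback.fst (f.left.fiberToSpecResidueField (f.left x)) (𝟙 _)).homeomorph.surjective.connectedSpace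
        (Limits.pullback.fst (f.left.fiberToSpecResidueField (f.left x)) (𝟙 _)).continuous
    obtain ⟨w, hw⟩ : x ∈ Set.range (f.left.fiberι (f.left x)) := by rw [f.left.range_fiberι]; rfl
    refine hinf (Groth.L16.Connected.finite_preimage_of_isolated f.left (f.left x) w ?_)
    have hrest : IsClosed ((T ∩ U) \ {x}) := by
      rw [← Set.biUnion_of_singleton ((T ∩ U) \ {x})]
      exact (hTU.subset Set.sdiff_subset).isClosed_biUnion fun z hz => hclosed z hz.1
    have hopen : IsOpen (U \ ((T ∩ U) \ {x})) := hU.sdiff hrest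
    refine ((f.left.fiberι (f.left x)).isEmbedding.isInducing.isOpen_iff).2 ⟨_, hopen, ?_⟩
    ext z
    have hzT : f.left.fiberι (f.left x) z ∈ T := by
      show f.left.fiberι (f.left x) z ∈ f.left ⁻¹' {f.left x}
      rw [← f.left.range_fiberι]
      exact ⟨z, rfl⟩
    simp only [Set.mem_preimage, Set.mem_sdiff, Set.mem_inter_iff, Set.mem_singleton_iff]
    constructor
    · rintro ⟨hzU, hzr⟩
      refine (f.left.fiberι (f.left x)).isEmbedding.injective ?_
      rw [hw]
      by_contra hne
      exact hzr ⟨⟨hzT, hzU⟩, hne⟩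
    · rintro rfl
      exact ⟨hw.symm ▸ hxU, fun h => h.2 hw⟩
  obtain ⟨V₀, hV₀, hV₀iso⟩ := Groth.L16.Connected.exists_isIso_restrict_finite_fibres f.left hO
  haveI := hV₀iso
  have hVle : ∀ V : Y.left.Opens, (V : Set Y.left) ∩ f.left.base '' S = ∅ → V ≤ V₀ := fun V hV y hy => by
    rw [hV₀]
    by_contra hinf
    exact Set.eq_empty_iff_forall_notMem.1 hV y ⟨hy, hbad y hinf⟩
  haveI : IsDominant f.left := inferInstance
  haveI : Flat Y.hom := by
    haveI : IsSchemeTheoreticallyDominant f.left := IsSchemeTheoreticallyDominant.of_isDominant f.left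
    haveI : Flat (f.left ≫ Y.hom) := by rw [Over.w f]; infer_instance
    exact Groth.L02.STD.flat_of_dominant R f.left Y.hom
  have hdimY : topologicalKrullDim Y.left = 2 := by
    refine le_antisymm ((Groth.L19.topologicalKrullDim_le_of_surjective_specializing
      f.left.surjective f.left.isClosedMap.specializingMap).trans hdim.le) ?_
    obtain ⟨d, had, hd⟩ := exists_specializes_special X a
    have hgf : f.left (genericPoint X.left) ⤳ f.left a := (genericPoint_specializes a).map f.left.continuous
    have h1 := Groth.L03.BlowPt.Factor.dim_add_one_le hgf hane.symm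
    have h2 := Groth.L03.BlowPt.Factor.dim_add_one_le (had.map f.left.continuous) fun e => ha (by
      rw [← Over.w f, Scheme.Hom.comp_apply, e, ← Scheme.Hom.comp_apply, Over.w f, hd])
    have h0 : 0 ≤ ringKrullDim (Y.left.presheaf.stalk (f.left (genericPoint X.left))) :=
      ringKrullDim_nonneg_of_nontrivial
    refine le_trans ?_ (h2.trans (Groth.L15.CohFlat.ringKrullDim_stalk_le _))
    calc (2 : WithBot ℕ∞) = 0 + 1 + 1 := by norm_num
      _ ≤ _ := by gcongr; exact le_trans (by gcongr) h1
  exact ⟨Y, f, M, hYi, hYn, hdimY, inferInstance, hYproj, hfp, hO, hMa, ⟨τ⟩, himg, hpre,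
    fun V hV => Groth.L13.RatSing.isIso_restrict_le f.left (hVle V hV)⟩

end Groth.L13.CurveContr
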