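import Groth.Agent.L13.CurveContr.Setup
import Groth.Agent.L13.CurveContr.Main
import Groth.Agent.L05.InterPair.Twist
import Groth.Agent.L05.InterPair.Classes
import Mathlib.LinearAlgebra.Matrix.ToLinearEquiv

/-!
# Artin's contractibility criterion
-/

set_option autoImplicit false
set_option backward.isDefEq.respectTransparency false
set_option linter.style.haveILetI false
set_option linter.unusedSectionVars false
universe u

open CategoryTheory CategoryTheory.Limits AlgebraicGeometry TopologicalSpace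

noncomputable section

namespace Groth.L13.CurveContr

open Groth.L05.InterPair Groth.L21.RR
open Groth.L00.Tensor (tensorIso tensorAssoc tensorComm tensorUnitRight tensorUnitLeft)

/-- A negative definite matrix with non-negative off-diagonal entries has a positive anti-solution. -/
theorem exists_pos_solution {r : ℕ} (Q : Fin r → Fin r → ℤ)
    (hneg : ∀ a : Fin r → ℤ, a ≠ 0 → ∑ p : Fin r × Fin r, a p.1 * a p.2 * Q p.1 p.2 < 0)
    (hoff : ∀ i j, i ≠ j → 0 ≤ Q i j) (b : Fin r → ℤ) (hb : ∀ i, 0 < b i) :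
    ∃ (n : ℕ) (a : Fin r → ℕ), 0 < n ∧ (∀ i, 0 < a i) ∧ ∀ i, (n : ℤ) * b i + ∑ j, (a j : ℤ) * Q i j = 0 := by
  classical
  let A : Matrix (Fin r) (Fin r) ℤ := Matrix.of Q
  have hdet : A.det ≠ 0 := fun h => by
    obtain ⟨v, hv, hAv⟩ := Matrix.exists_mulVec_eq_zero_iff.2 h
    refine (hneg v hv).ne ?_
    rw [Fintype.sum_prod_type]
    refine Finset.sum_eq_zero fun i _ => ?_
    have h' : ∑ j, Q i j * v j = 0 := congr_fun hAv i
    rw [show ∑ j, v i * v j * Q i j = v i * ∑ j, Q i j * v j by
      rw [Finset.mul_sum]; exact Finset.sum_congr rfl fun j _ => by ring, h', mul_zero]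
  let w : Fin r → ℤ := -(A.det.sign • A.adjugate.mulVec b)
  have hw : ∀ i, (A.det.natAbs : ℤ) * b i + ∑ j, w j * Q i j = 0 := fun i => by
    have h : A.mulVec w = -(A.det.sign • A.det • b) := by
      rw [Matrix.mulVec_neg, Matrix.mulVec_smul, Matrix.mulVec_mulVec, Matrix.mul_adjugate, Matrix.smul_mulVec,
        Matrix.one_mulVec]
    have h' : ∑ j, Q i j * w j = -(A.det.sign * (A.det * b i)) := by
      have := congr_fun h i
      simpa [Matrix.mulVec, dotProduct, A] using! this
    rw [show ∑ j, w j * Q i j = ∑ j, Q i j * w j from Finset.sum_congr rfl fun j _ => mul_comm _ _, h',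
      ← mul_assoc, Int.sign_mul_self_eq_natAbs]
    ring
  have hn : 0 < A.det.natAbs := Int.natAbs_pos.2 hdet
  -- positivity
  let q : Fin r → ℤ := fun i => max (-w i) 0
  have hq : q = 0 := by
    by_contra hq0
    have h1 := hneg q hq0
    let p : Fin r → ℤ := fun i => max (w i) 0
    have hpq : ∀ i, p i - q i = w i := fun i => by simp only [p, q]; omega
    have h2 : 0 ≤ ∑ x : Fin r × Fin r, q x.1 * p x.2 * Q x.1 x.2 := Finset.sum_nonneg fun x _ => by
      by_cases h : x.1 = x.2
      · have : q x.1 * p x.2 = 0 := by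
          rw [h]
          simp only [p, q]
          rcases le_total 0 (w x.2) with h' | h'
          · rw [max_eq_right (show -w x.2 ≤ 0 by omega), zero_mul]
          · rw [max_eq_right h', mul_zero]
        rw [this, zero_mul]
      · exact mul_nonneg (mul_nonneg (le_max_right _ _) (le_max_right _ _)) (hoff _ _ h)
    have h3 : ∑ x : Fin r × Fin r, q x.1 * w x.2 * Q x.1 x.2 ≤ 0 := by
      rw [Fintype.sum_prod_type]
      refine Finset.sum_nonpos fun i _ => ?_
      rw [show ∑ j, q i * w j * Q i j = q i * ∑ j, w j * Q i j by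
        rw [Finset.mul_sum]; exact Finset.sum_congr rfl fun j _ => mul_assoc _ _ _]
      refine mul_nonpos_of_nonneg_of_nonpos (le_max_right _ _) ?_
      have := hw i
      have := mul_pos (Int.natCast_pos.2 hn) (hb i)
      linarith
    have h4 : ∑ x : Fin r × Fin r, q x.1 * w x.2 * Q x.1 x.2 =
        (∑ x : Fin r × Fin r, q x.1 * p x.2 * Q x.1 x.2) - ∑ x : Fin r × Fin r, q x.1 * q x.2 * Q x.1 x.2 := by
      rw [← Finset.sum_sub_distrib]
      exact Finset.sum_congr rfl fun x _ => by rw [← hpq x.2]; ring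
    linarith
  have hw0 : ∀ i, 0 ≤ w i := fun i => by
    have h : max (-w i) 0 = 0 := congr_fun hq i
    omega
  refine ⟨A.det.natAbs, fun i => (w i).toNat, hn, fun i => ?_, fun i => ?_⟩
  · show 0 < (w i).toNat
    by_contra hi
    have hi' : w i = 0 := by have := hw0 i; omega
    have h := hw i
    have h5 : 0 ≤ ∑ j, w j * Q i j := Finset.sum_nonneg fun j _ => by
      by_cases hij : i = j
      · subst hij; rw [hi', zero_mul]
      · exact mul_nonneg (hw0 j) (hoff i j hij)
    have := mul_pos (Int.natCast_pos.2 hn) (hb i)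
    linarith
  · have h := hw i
    simp only [Int.toNat_of_nonneg (hw0 _)]
    exact h

/-- A twist trivial on the divisor by which it is twisted is generated by its sections. -/
theorem exists_generating_on {Z : Scheme.{u}} {I : Z.IdealSheafData} {N P : Z.Modules}
    (hP : PicF.IsInvertible P) (h1 : Subsingleton (Coh.HH Z N 1)) (e : CohB1.tensorMod (ClSub.idealMod I) P ≅ N)
    (htriv : Nonempty I.subscheme → Nonempty ((Scheme.Modules.pullback I.subschemeι).obj P ≅ Coh.structureModule I.subscheme)) :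
    ∃ φ : Coh.structureModule Z ⟶ P, ∀ x ∈ (I.support : Set Z), Function.Surjective (st φ x) := by
  by_cases hne : Nonempty I.subscheme
  swap
  · refine ⟨0, fun x hx => absurd ?_ hne⟩
    rw [← I.range_subschemeι] at hx
    exact ⟨hx.choose⟩
  obtain ⟨t⟩ := htriv hne
  obtain ⟨S, hS, e₁, e₂, -, ⟨e₃⟩⟩ :=
    Groth.L13.PairBlow.exists_seq I (Groth.L16.Existence.isFinLocFree_of_isInvertible hP)
  let e₃' : S.X₃ ≅ ClSub.quotMod I := e₃ ≪≫ (Scheme.Modules.pushforward I.subschemeι).mapIso t
  haveI := Groth.L14.LocHilbLift.subsingleton_HH_of_iso (e₁ ≪≫ e).symm 1 h1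
  obtain ⟨ψ, hψ⟩ := Groth.L12.GenusZero.exists_lift hS (ClSub.toSubscheme I ≫ e₃'.inv)
  haveI := hS.epi_g
  haveI : Epi (ClSub.toSubscheme I) := (Groth.L21.RR.shortExact_idealSeq I).epi_g
  refine ⟨ψ ≫ e₂.hom, fun x hx => ?_⟩
  have hπ := Groth.L12.GenusZero.surjective_st_of_epi (e₂.inv ≫ S.g) x
  haveI : Nontrivial (S.X₃.presheaf.stalk x) := by
    haveI : Nontrivial ((ClSub.quotMod I).presheaf.stalk x) :=
      not_subsingleton_iff_nontrivial.1 (Groth.L22.CurveAmple.mem_support_quotMod I hx)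
    exact (Groth.L12.GenusZero.surjective_st_of_epi e₃'.hom x).nontrivial
  obtain ⟨g, hg⟩ := exists_frame_stalk hP x
  refine Groth.L12.GenusZero.surjective_st_of_quotient _ (e₂.inv ≫ S.g) g hg.2 hπ ?_
  have heq : (ψ ≫ e₂.hom) ≫ e₂.inv ≫ S.g = ClSub.toSubscheme I ≫ e₃'.inv := by
    rw [Category.assoc, e₂.hom_inv_id_assoc, hψ]
  rw [heq]
  exact Groth.L12.GenusZero.surjective_st_of_epi _ x

theorem isGloballyGenerated_of_twist {Z : Scheme.{u}} [IsIntegral Z] {I : Z.IdealSheafData} {N P : Z.Modules}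
    (hN : PicF.IsInvertible N) (hgg : Curv2.IsGloballyGenerated N) (hP : PicF.IsInvertible P)
    (h1 : Subsingleton (Coh.HH Z N 1)) (e : CohB1.tensorMod (ClSub.idealMod I) P ≅ N)
    (htriv : Nonempty I.subscheme → Nonempty ((Scheme.Modules.pullback I.subschemeι).obj P ≅ Coh.structureModule I.subscheme)) :
    Curv2.IsGloballyGenerated P := by
  refine isGloballyGenerated_of_sections fun x => ?_
  by_cases hx : x ∈ (I.support : Set Z)
  · obtain ⟨φ, hφ⟩ := exists_generating_on hP h1 e htriv
    exact ⟨φ, hφ x hx⟩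
  obtain ⟨φ, hφ⟩ := Groth.L18.Ample.exists_genLocus_mem_of_gg hN hgg x
  obtain ⟨S, hS, e₁, e₂, -, ⟨e₃⟩⟩ :=
    Groth.L13.PairBlow.exists_seq I (Groth.L16.Existence.isFinLocFree_of_isInvertible hP)
  haveI : Subsingleton (S.X₃.presheaf.stalk x) := by
    by_contra h
    refine hx ?_
    rw [← Scheme.IdealSheafData.range_subschemeι]
    refine Groth.L16.CohClosedPush.support_push_subset (i := I.subschemeι)
      ((Scheme.Modules.pullback I.subschemeι).obj P) fun hs => h ?_
    haveI := hs
    exact (Groth.L12.GenusZero.surjective_st_of_epi e₃.inv x).subsingleton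
  refine ⟨φ ≫ (e₁ ≪≫ e).inv ≫ S.f ≫ e₂.hom, fun v => ?_⟩
  obtain ⟨w, hw⟩ := Groth.L12.GenusZero.surjective_st_of_epi e₂.hom x v
  obtain ⟨u', hu⟩ := ((Groth.L03.SurfAdj.exact_st hS x).1 w).1 (Subsingleton.elim _ _)
  obtain ⟨t, ht⟩ := Groth.L12.GenusZero.surjective_st_of_epi (e₁ ≪≫ e).inv x u'
  obtain ⟨p, hp⟩ := (mem_genLocus_iff hN φ x).1 hφ t
  exact ⟨p, by simp only [st_comp, hp, ht, hu, hw]⟩

variable {R : Type u} [CommRing R] [IsDomain R] [IsDiscreteValuationRing R]
  {X : Over (Spec (CommRingCat.of R))} (hX : ArSurf.IsArithSurface R X) {r : ℕ} (Γ : Fin r → ArSurf.VertComp R X)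
  (hΓ : Function.Injective fun i => Set.range ((Γ i).ι.base : (Γ i).curve.left → X.left))
  (L : Fin r → X.left.Modules) (hL : ∀ j, ClSub.IsInverseOf (L j) (ClSub.idealMod (Γ j).ι.ker))
  (hneg : ∀ a : Fin r → ℤ, a ≠ 0 →
    (Finset.univ : Finset (Fin r × Fin r)).sum (fun p => a p.1 * a p.2 * ArSurf.inter R X (L p.2) (Γ p.1)) < 0)
  (hpic : ∀ (Z : Scheme.{u}) (z : Z ⟶ X.left) [IsClosedImmersion z], BlowUp.IsEffCartierIdeal z.ker →
    Nonempty Z → Set.range z.base ⊆ (⋃ i, Set.range (Γ i).ι.base) →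
    ∀ N : Z.Modules, PicF.IsInvertible N →
      (∀ (i : Fin r) (g : (Γ i).curve.left ⟶ Z), g ≫ z = (Γ i).ι →
        ArSurf.curveDeg (IsLocalRing.ResidueField R) (Γ i).curve.left ((Scheme.Modules.pullback g).obj N) = 0) →
      Nonempty (N ≅ Coh.structureModule Z))

include hX hΓ hL hneg in
/-- An effective divisor on the curves cancelling the degrees of an ample module. -/
theorem exists_cancelling (A : X.left.Modules) (hA : CohB1.IsAmple A) :
    ∃ (n : ℕ) (a : Fin r → ℕ), 0 < n ∧ (∀ i, 0 < a i) ∧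
      ∀ i, (n : ℤ) * ArSurf.inter R X A (Γ i) + ∑ j, (a j : ℤ) * ArSurf.inter R X (L j) (Γ i) = 0 := by
  haveI : IsProper X.hom := Groth.L05.RelMinExists.isProper_of_projective hX.2.2.2.2
  haveI : IsLocallyNoetherian X.left := LocallyOfFiniteType.isLocallyNoetherian X.hom
  haveI := hX.2.1
  haveI := hX.2.2.2.1
  refine exists_pos_solution (fun i j => ArSurf.inter R X (L j) (Γ i)) hneg (fun i j hij => ?_) _
    fun i => inter_pos_of_ample X (Γ i) hA
  have hη : Models.genPtOf R X (Γ i) ∉ ((Γ j).ι.ker.support : Set X.left) := fun h => hij (hΓ (by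
    have hk := congrArg (fun I : X.left.IdealSheafData => (I.support : Set X.left)) (eq_of_mem_support hX.1 hX.2.2.1 h)
    simp only [Scheme.Hom.support_ker] at hk
    haveI := (Γ i).isClosedImmersion
    haveI := (Γ j).isClosedImmersion
    rwa [(Γ i).ι.isClosedEmbedding.isClosed_range.closure_eq,
      (Γ j).ι.isClosedEmbedding.isClosed_range.closure_eq] at hk))
  show 0 ≤ ArSurf.inter R X (L j) (Γ i)
  rw [inter_eq_finrank (Γ i) (isEffCartier_of_surface hX.1 hX.2.2.1 (Γ j)) hη (hL j)]
  exact Int.natCast_nonneg _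

/-- The divisor `∑ aᵢ Γᵢ`. -/
abbrev divI (a : Fin r → ℕ) : X.left.IdealSheafData := ∏ i, (Γ i).ι.ker ^ a i

theorem support_divI_subset (a : Fin r → ℕ) :
    ((divI Γ a).support : Set X.left) ⊆ ⋃ i, Set.range (Γ i).ι.base := by
  classical
  suffices h : ∀ s : Finset (Fin r), ((∏ i ∈ s, (Γ i).ι.ker ^ a i).support : Set X.left) ⊆
      ⋃ i, Set.range (Γ i).ι.base from h Finset.univ
  intro s
  induction s using Finset.induction_on with
  | empty => simp
  | insert i s hi ih =>
    rw [Finset.prod_insert hi, Scheme.IdealSheafData.support_mul]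
    rintro x (hx | hx)
    · rcases Nat.eq_zero_or_pos (a i) with h0 | h0
      · rw [h0, pow_zero] at hx; simp at hx
      · rw [Scheme.IdealSheafData.support_pow _ _ h0.ne', Scheme.Hom.support_ker] at hx
        haveI := (Γ i).isClosedImmersion
        exact Set.mem_iUnion.2 ⟨i, (Γ i).ι.isClosedEmbedding.isClosed_range.closure_eq.le hx⟩
    · exact ih hx

theorem range_subset_support_divI {a : Fin r → ℕ} {i : Fin r} (hi : 0 < a i) :
    Set.range (Γ i).ι.base ⊆ ((divI Γ a).support : Set X.left) := by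
  classical
  intro x hx
  rw [divI, ← Finset.mul_prod_erase Finset.univ _ (Finset.mem_univ i), Scheme.IdealSheafData.support_mul]
  refine Or.inl ?_
  rw [Scheme.IdealSheafData.support_pow _ _ hi.ne', Scheme.Hom.support_ker]
  exact subset_closure hx

include hX hL in
theorem inter_multiTwist' (a : Fin r → ℕ) (E : ArSurf.VertComp R X) :
    BlowUp.IsEffCartierIdeal (divI Γ a) ∧
      ClSub.IsInverseOf (FGA.multiTwist L a) (ClSub.idealMod (divI Γ a)) ∧
      ArSurf.inter R X (FGA.multiTwist L a) E = ∑ j, (a j : ℤ) * ArSurf.inter R X (L j) E := by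
  haveI : IsProper X.hom := Groth.L05.RelMinExists.isProper_of_projective hX.2.2.2.2
  haveI : IsLocallyNoetherian X.left := LocallyOfFiniteType.isLocallyNoetherian X.hom
  haveI := hX.2.1
  haveI := hX.2.2.2.1
  have hc : ∀ j, BlowUp.IsEffCartierIdeal (Γ j).ι.ker := fun j => isEffCartier_of_surface hX.1 hX.2.2.1 (Γ j)
  have hD : BlowUp.IsEffCartierIdeal (divI Γ a) := isEffCartier_prod _ fun j _ => isEffCartier_pow (hc j) _
  have hT := isInverseOf_multiTwist hc hL a
  refine ⟨hD, hT, ?_⟩
  rw [inter_eq_neg_negDeg E hD hT, negDeg_prod E _ fun j _ => isEffCartier_pow (hc j) _, ← Finset.sum_neg_distrib]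
  refine Finset.sum_congr rfl fun j _ => ?_
  rw [negDeg_pow E (hc j), inter_eq_neg_negDeg E (hc j) (hL j)]
  ring

include hX hL hpic in
/-- The twist of a module by the cancelling divisor. -/
theorem exists_twist (a : Fin r → ℕ) (ha : ∀ i, 0 < a i) {N : X.left.Modules} (hN : PicF.IsInvertible N)
    (h1 : Subsingleton (Coh.HH X.left N 1)) (hgg : Curv2.IsGloballyGenerated N)
    (hdeg : ∀ i, ArSurf.inter R X N (Γ i) + ∑ j, (a j : ℤ) * ArSurf.inter R X (L j) (Γ i) = 0) :
    PicF.IsInvertible (CohB1.tensorMod N (FGA.multiTwist L a)) ∧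
      Curv2.IsGloballyGenerated (CohB1.tensorMod N (FGA.multiTwist L a)) ∧
      (∃ φ : Coh.structureModule X.left ⟶ CohB1.tensorMod N (FGA.multiTwist L a),
        ∀ i, ∀ x ∈ Set.range (Γ i).ι.base, x ∈ CohB1.genLocus _ φ) ∧
      ∀ i, Nonempty ((Scheme.Modules.pullback (Γ i).ι).obj (CohB1.tensorMod N (FGA.multiTwist L a)) ≅
        Coh.structureModule (Γ i).curve.left) := by
  haveI : IsProper X.hom := Groth.L05.RelMinExists.isProper_of_projective hX.2.2.2.2
  haveI : IsLocallyNoetherian X.left := LocallyOfFiniteType.isLocallyNoetherian X.hom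
  haveI := hX.2.1
  haveI := hX.2.2.2.1
  set T := FGA.multiTwist L a
  set D := divI Γ a
  have hD : BlowUp.IsEffCartierIdeal D := isEffCartier_prod _ fun j _ =>
    isEffCartier_pow (isEffCartier_of_surface hX.1 hX.2.2.1 (Γ j)) _
  have hT : ClSub.IsInverseOf T (ClSub.idealMod D) :=
    isInverseOf_multiTwist (fun j => isEffCartier_of_surface hX.1 hX.2.2.1 (Γ j)) hL a
  have hTi := isInvertible_of_cartier hD hT
  have hP : PicF.IsInvertible (CohB1.tensorMod N T) := Groth.L18.GenLoc.isInvertible_tensor hN hTi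
  let e : CohB1.tensorMod (ClSub.idealMod D) (CohB1.tensorMod N T) ≅ N :=
    tensorComm _ _ ≪≫ tensorAssoc N T _ ≪≫ tensorIso (Iso.refl N) hT.some ≪≫ tensorUnitRight N
  have hlift : ∀ i, ∃ g : (Γ i).curve.left ⟶ D.subscheme, g ≫ D.subschemeι = (Γ i).ι := fun i => by
    haveI := (Γ i).isClosedImmersion
    refine ⟨IsClosedImmersion.lift D.subschemeι (Γ i).ι ?_, IsClosedImmersion.lift_fac _ _ _⟩
    rw [Scheme.IdealSheafData.ker_subschemeι]
    intro U
    have hle : D ≤ (Γ i).ι.ker ^ a i := by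
      classical
      intro V
      rw [show D = (Γ i).ι.ker ^ a i * ∏ j ∈ Finset.univ.erase i, (Γ j).ι.ker ^ a j from
        (Finset.mul_prod_erase Finset.univ _ (Finset.mem_univ i)).symm, Scheme.IdealSheafData.ideal_mul, Pi.mul_apply]
      exact Ideal.mul_le_left
    refine (hle U).trans ?_
    rw [Scheme.IdealSheafData.ideal_pow, Pi.pow_apply]
    exact Ideal.pow_le_self (ha i).ne'
  have htriv : Nonempty D.subscheme →
      Nonempty ((Scheme.Modules.pullback D.subschemeι).obj (CohB1.tensorMod N T) ≅ Coh.structureModule D.subscheme) := by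
    intro hne
    refine hpic D.subscheme D.subschemeι (by rw [Scheme.IdealSheafData.ker_subschemeι]; exact hD) hne
      (by rw [Scheme.IdealSheafData.range_subschemeι]; exact support_divI_subset Γ a) _
      (Groth.L18.Ample.isInvertible_pullback _ hP) fun i g hg => ?_
    haveI := isProper_curve (Γ i)
    refine (curveDeg_congr _ (Γ i).dim_eq ((Scheme.Modules.pullbackComp g D.subschemeι).app (CohB1.tensorMod N T) ≪≫
      (Scheme.Modules.pullbackCongr hg).app _)).trans ?_
    show ArSurf.inter R X (CohB1.tensorMod N T) (Γ i) = 0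
    rw [inter_tensor (Γ i) hN hTi, (inter_multiTwist' hX Γ L hL a (Γ i)).2.2]
    exact hdeg i
  obtain ⟨φ, hφ⟩ := exists_generating_on hP h1 e htriv
  refine ⟨hP, isGloballyGenerated_of_twist hN hgg hP h1 e htriv, ⟨φ, fun i x hx =>
    (mem_genLocus_iff hP φ x).2 (hφ x (range_subset_support_divI Γ (ha i) hx))⟩, fun i => ?_⟩
  obtain ⟨g, hg⟩ := hlift i
  haveI := (Γ i).isIntegral
  obtain ⟨t⟩ := htriv ⟨g (genericPoint (Γ i).curve.left)⟩
  exact ⟨(Scheme.Modules.pullbackCongr hg.symm).app _ ≪≫ ((Scheme.Modules.pullbackComp g D.subschemeι).app _).symm ≪≫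
    (Scheme.Modules.pullback g).mapIso t ≪≫ Groth.L29.LocFree.pullbackUnitIso g⟩

include hX in
/-- High twists of a module by an ample one. -/
theorem exists_good_power (A : X.left.Modules) (hA : CohB1.IsAmple A) {M : X.left.Modules} (hM : PicF.IsInvertible M) :
    ∃ d₀ : ℕ, ∀ d, d₀ ≤ d → PicF.IsInvertible (CohB1.tensorMod (CohB1.tensorPow A d) M) ∧
      Subsingleton (Coh.HH X.left (CohB1.tensorMod (CohB1.tensorPow A d) M) 1) ∧
      Curv2.IsGloballyGenerated (CohB1.tensorMod (CohB1.tensorPow A d) M) := by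
  haveI : IsProper X.hom := Groth.L05.RelMinExists.isProper_of_projective hX.2.2.2.2
  haveI : IsLocallyNoetherian X.left := LocallyOfFiniteType.isLocallyNoetherian X.hom
  letI : X.left.Over (Spec (CommRingCat.of R)) := ⟨X.hom⟩
  haveI : IsProper (X.left ↘ Spec (CommRingCat.of R)) := inferInstanceAs (IsProper X.hom)
  obtain ⟨d₀, hd₀⟩ := Groth.L16.Existence.exists_vanishing_of_isAmple (A := R) hA
    (Groth.L16.ProperFinite.isCoh_of_isInvertible hM)
  obtain ⟨d₁, -, hd₁⟩ := Groth.L18.Ample.exists_forall_isAmple_gg hA hM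
  exact ⟨d₀ + d₁, fun d hd => ⟨Groth.L18.GenLoc.isInvertible_tensor (Groth.L18.Ample.isInvertible_tensorPow hA.1 d) hM,
    hd₀ d (by omega) 1 one_pos, (hd₁ d (by omega)).2⟩⟩

include hX hΓ hL hneg hpic in
theorem exists_artin_module :
    ∃ P : X.left.Modules, PicF.IsInvertible P ∧ Curv2.IsGloballyGenerated P ∧
      0 < ArSurf.curveDeg (FractionRing R) ((Neron.genericFibre R).obj X).left
        ((Scheme.Modules.pullback (pullback.fst X.hom (Neron.genPt R))).obj P) ∧
      ∀ E : ArSurf.VertComp R X,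
        Nonempty ((Scheme.Modules.pullback E.ι).obj P ≅ Coh.structureModule E.curve.left) ↔
          ∃ i, Set.range (E.ι.base : E.curve.left → X.left) = Set.range (Γ i).ι.base := by
  haveI : IsProper X.hom := Groth.L05.RelMinExists.isProper_of_projective hX.2.2.2.2
  haveI : IsLocallyNoetherian X.left := LocallyOfFiniteType.isLocallyNoetherian X.hom
  haveI := hX.2.1
  haveI := hX.2.2.2.1
  have hdim := hX.2.2.1
  obtain ⟨A, hA⟩ := exists_ample hX.2.2.2.2
  obtain ⟨n, a, hn, ha, hna⟩ := exists_cancelling hX Γ hΓ L hL hneg A hA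
  obtain ⟨d₀, hd₀⟩ := exists_good_power hX A hA (Groth.L18.Ample.isInvertible_structureModule X.left)
  let k := d₀ + 1
  obtain ⟨hNi, hN1, hNgg⟩ := hd₀ (k * n) (by
    have : k ≤ k * n := Nat.le_mul_of_pos_right k hn
    omega)
  set N := CohB1.tensorMod (CohB1.tensorPow A (k * n)) (Coh.structureModule X.left)
  let a' : Fin r → ℕ := fun i => k * a i
  have hNE : ∀ E, ArSurf.inter R X N E = (k : ℤ) * n * ArSurf.inter R X A E := fun E => by
    rw [inter_congr E (tensorUnitRight _), inter_tensorPow E hA.1]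
    push_cast
    ring
  obtain ⟨hP, hgg, -, htr⟩ := exists_twist hX Γ L hL hpic a' (fun i => Nat.mul_pos (Nat.succ_pos _) (ha i))
    hNi hN1 hNgg fun i => by
      have h := congrArg ((k : ℤ) * ·) (hna i)
      simp only [mul_add, Finset.mul_sum, mul_zero] at h
      rw [hNE, ← h]
      simp only [a', Nat.cast_mul, mul_assoc]
  have hkn : (0 : ℤ) < (k : ℤ) * n := by exact_mod_cast Nat.mul_pos (Nat.succ_pos d₀) hn
  refine ⟨_, hP, hgg, ?_, fun E => ⟨?_, ?_⟩⟩
  · let Z := ((Neron.genericFibre R).obj X).left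
    let j : Z ⟶ X.left := pullback.fst X.hom (Neron.genPt R)
    haveI : IsIntegral Z := isIntegral_genericFibre X
    haveI : IsProper (Z ↘ Spec (CommRingCat.of (FractionRing R))) :=
      MorphismProperty.pullback_snd (P := @IsProper) X.hom (Neron.genPt R) inferInstance
    rcases Nat.eq_zero_or_pos r with hr0 | hr0
    · subst hr0
      -- no curves: the ample power
      obtain ⟨c, Γc, hcomp, -⟩ := Groth.L05.GeomMult.exists_componentList (X := X) hdim
      have hne : ∃ E : ArSurf.VertComp R X, True := by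
        obtain ⟨d, -, hd'⟩ := exists_specializes_special X (genericPoint X.left)
        obtain ⟨i, -⟩ := exists_component_mem hcomp (show d ∈ Models.specialFibreSet R X from hd')
        exact ⟨Γc i, trivial⟩
      obtain ⟨E₀, -⟩ := hne
      have hd : topologicalKrullDim Z = 1 := dim_genericFibre X hdim E₀
      obtain ⟨hD, hT, -⟩ := inter_multiTwist' hX Γ L hL a' E₀
      have hη : j (genericPoint Z) ∉ (divI Γ a').support := fun h => by
        obtain ⟨i, -⟩ := Set.mem_iUnion.1 (support_divI_subset Γ a' h)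
        exact Fin.elim0 i
      show 0 < ArSurf.curveDeg (FractionRing R) Z ((Scheme.Modules.pullback j).obj _)
      rw [curveDeg_pullback_tensor (FractionRing R) hd j hNi (isInvertible_of_cartier hD hT),
        curveDeg_pullback_tensor (FractionRing R) hd j (Groth.L18.Ample.isInvertible_tensorPow hA.1 _)
          (Groth.L18.Ample.isInvertible_structureModule X.left),
        curveDeg_pullback_tensorPow (FractionRing R) hd j hA.1]
      have h0 := curveDeg_pullback_inverse_nonneg (FractionRing R) hd j hD hη hT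
      have h1 : ArSurf.curveDeg (FractionRing R) Z ((Scheme.Modules.pullback j).obj (Coh.structureModule X.left)) = 0 :=
        (curveDeg_congr _ hd (Groth.L29.LocFree.pullbackUnitIso j)).trans (curveDeg_unit _ hd)
      have h2 := mul_pos hkn (curveDeg_generic_pos X hdim E₀ hA)
      push_cast
      rw [h1]
      linarith
    · let E₀ := Γ ⟨0, hr0⟩
      have hd : topologicalKrullDim Z = 1 := dim_genericFibre X hdim E₀
      obtain ⟨hD, hT, -⟩ := inter_multiTwist' hX Γ L hL a' E₀
      have hη : j (genericPoint Z) ∉ (divI Γ a').support := fun h => by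
        obtain ⟨i, c, hc⟩ := Set.mem_iUnion.1 (support_divI_subset Γ a' h)
        have h2 : X.hom (j (genericPoint Z)) ∈ Set.range (Neron.genPt R) := by
          show j (genericPoint Z) ∈ X.hom ⁻¹' Set.range (Neron.genPt R)
          rw [← Scheme.Pullback.range_fst]
          exact ⟨_, rfl⟩
        exact ne_closedPoint_of_mem h2 (hc ▸ mem_special_of_vertComp X (Γ i) c)
      show 0 < ArSurf.curveDeg (FractionRing R) Z ((Scheme.Modules.pullback j).obj _)
      rw [curveDeg_pullback_tensor (FractionRing R) hd j hNi (isInvertible_of_cartier hD hT),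
        curveDeg_pullback_tensor (FractionRing R) hd j (Groth.L18.Ample.isInvertible_tensorPow hA.1 _)
          (Groth.L18.Ample.isInvertible_structureModule X.left),
        curveDeg_pullback_tensorPow (FractionRing R) hd j hA.1]
      have h0 := curveDeg_pullback_inverse_nonneg (FractionRing R) hd j hD hη hT
      have h1 : ArSurf.curveDeg (FractionRing R) Z ((Scheme.Modules.pullback j).obj (Coh.structureModule X.left)) = 0 :=
        (curveDeg_congr _ hd (Groth.L29.LocFree.pullbackUnitIso j)).trans (curveDeg_unit _ hd)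
      have h2 := mul_pos hkn (curveDeg_generic_pos X hdim E₀ hA)
      push_cast
      rw [h1]
      linarith
  · rintro ⟨s⟩
    haveI := E.isClosedImmersion
    by_contra hne
    push Not at hne
    obtain ⟨hD, hT, -⟩ := inter_multiTwist' hX Γ L hL a' E
    have hη : Models.genPtOf R X E ∉ ((divI Γ a').support : Set X.left) := fun h => by
      obtain ⟨i, hi⟩ := Set.mem_iUnion.1 (support_divI_subset Γ a' h)
      haveI := (Γ i).isClosedImmersion
      have hk := congrArg (fun I : X.left.IdealSheafData => (I.support : Set X.left))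
        (eq_of_mem_support hX.1 hdim (Γ := E) (Γ' := Γ i) (by rw [Scheme.Hom.support_ker]; exact subset_closure hi))
      simp only [Scheme.Hom.support_ker] at hk
      exact hne i (by rwa [E.ι.isClosedEmbedding.isClosed_range.closure_eq,
        (Γ i).ι.isClosedEmbedding.isClosed_range.closure_eq] at hk)
    have h0 : ArSurf.inter R X (CohB1.tensorMod N (FGA.multiTwist L a')) E = 0 := by
      haveI := isProper_curve E
      rw [ArSurf.inter, curveDeg_congr _ E.dim_eq s]
      exact curveDeg_unit _ E.dim_eq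
    rw [inter_tensor E hNi (isInvertible_of_cartier hD hT), hNE, inter_eq_finrank E hD hη hT] at h0
    have h2 := mul_pos hkn (inter_pos_of_ample X E hA)
    linarith [Int.natCast_nonneg (Module.finrank (IsLocalRing.ResidueField R)
      (Coh.HH E.curve.left (ClSub.quotMod ((divI Γ a').comap E.ι)) 0))]
  · rintro ⟨i, hi⟩
    obtain ⟨s⟩ := htr i
    haveI := E.isClosedImmersion
    haveI := (Γ i).isClosedImmersion
    have hk : E.ι.ker = (Γ i).ι.ker := eq_of_mem_support hX.1 hdim (by
      rw [Scheme.Hom.support_ker]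
      exact subset_closure (hi.le ⟨genericPoint E.curve.left, rfl⟩))
    let θ := IsClosedImmersion.lift (Γ i).ι E.ι hk.ge
    have hθ : θ ≫ (Γ i).ι = E.ι := IsClosedImmersion.lift_fac _ _ _
    exact ⟨(Scheme.Modules.pullbackCongr hθ.symm).app _ ≪≫ ((Scheme.Modules.pullbackComp θ (Γ i).ι).app _).symm ≪≫
      (Scheme.Modules.pullback θ).mapIso s ≪≫ Groth.L29.LocFree.pullbackUnitIso θ⟩

/-- Restrictions to the locus where a section generates are trivial. -/
def restrictGenIso {Z : Scheme.{u}} {P : Z.Modules} (φ : Coh.structureModule Z ⟶ P) {W : Z.Opens}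
    (hW : W ≤ CohB1.genLocus P φ) : (Scheme.Modules.pullback W.ι).obj P ≅ Coh.structureModule W.toScheme :=
  haveI : IsIso ((Scheme.Modules.restrictFunctor W.ι).map φ) :=
    (Groth.L18.GenLoc.isIso_restrict_iff_isFrame φ W).2 (by
      have := (Groth.L18.GenLoc.isFrame_genLocus φ).mono hW
      rwa [Groth.L18.Frame.rs_rs] at this)
  ((Scheme.Modules.restrictFunctorIsoPullback W.ι).app P).symm ≪≫
    (asIso ((Scheme.Modules.restrictFunctor W.ι).map φ)).symm ≪≫
    (Scheme.Modules.restrictFunctorIsoPullback W.ι).app _ ≪≫ Groth.L29.LocFree.pullbackUnitIso W.ι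

include hX hΓ hL hneg hpic in
theorem exists_open_trivial (M : X.left.Modules) (hM : PicF.IsInvertible M)
    (hM0 : ∀ i, ArSurf.inter R X M (Γ i) = 0) :
    ∃ W : X.left.Opens, (∀ i, Set.range ((Γ i).ι.base : (Γ i).curve.left → X.left) ⊆ (W : Set X.left)) ∧
      Nonempty (M.restrict W.ι ≅ Coh.structureModule (W : Scheme.{u})) := by
  haveI : IsProper X.hom := Groth.L05.RelMinExists.isProper_of_projective hX.2.2.2.2
  haveI : IsLocallyNoetherian X.left := LocallyOfFiniteType.isLocallyNoetherian X.hom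
  haveI := hX.2.1
  haveI := hX.2.2.2.1
  obtain ⟨A, hA⟩ := exists_ample hX.2.2.2.2
  obtain ⟨n, a, hn, ha, hna⟩ := exists_cancelling hX Γ hΓ L hL hneg A hA
  have hO := Groth.L18.Ample.isInvertible_structureModule X.left
  obtain ⟨d₀, hd₀⟩ := exists_good_power hX A hA hO
  obtain ⟨d₁, hd₁⟩ := exists_good_power hX A hA hM
  let k := d₀ + d₁ + 1
  have hk : d₀ ≤ k * n ∧ d₁ ≤ k * n := by
    have : k ≤ k * n := Nat.le_mul_of_pos_right k hn
    omega
  obtain ⟨hNi, hN1, hNgg⟩ := hd₀ _ hk.1
  obtain ⟨hNi', hN1', hNgg'⟩ := hd₁ _ hk.2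
  let a' : Fin r → ℕ := fun i => k * a i
  have ha' : ∀ i, 0 < a' i := fun i => Nat.mul_pos (Nat.succ_pos _) (ha i)
  have hkey : ∀ i, ((k * n : ℕ) : ℤ) * ArSurf.inter R X A (Γ i) +
      ∑ j, (a' j : ℤ) * ArSurf.inter R X (L j) (Γ i) = 0 := fun i => by
    have h := congrArg ((k : ℤ) * ·) (hna i)
    simp only [mul_add, Finset.mul_sum, mul_zero] at h
    rw [← h]
    simp only [a', Nat.cast_mul, mul_assoc]
  obtain ⟨hP, -, ⟨φ, hφ⟩, -⟩ := exists_twist hX Γ L hL hpic a' ha' hNi hN1 hNgg fun i => by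
    rw [inter_tensor (Γ i) (Groth.L18.Ample.isInvertible_tensorPow hA.1 _) hO, inter_unit, add_zero,
      inter_tensorPow (Γ i) hA.1]
    exact hkey i
  obtain ⟨hP', -, ⟨φ', hφ'⟩, -⟩ := exists_twist hX Γ L hL hpic a' ha' hNi' hN1' hNgg' fun i => by
    rw [inter_tensor (Γ i) (Groth.L18.Ample.isInvertible_tensorPow hA.1 _) hM, hM0, add_zero,
      inter_tensorPow (Γ i) hA.1]
    exact hkey i
  let W := CohB1.genLocus _ φ ⊓ CohB1.genLocus _ φ'
  refine ⟨W, fun i x hx => ⟨hφ i x hx, hφ' i x hx⟩, ⟨?_⟩⟩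
  let B := CohB1.tensorPow A (k * n)
  let T := FGA.multiTwist L a'
  let P := CohB1.tensorMod (CohB1.tensorMod B (Coh.structureModule X.left)) T
  let eP : CohB1.tensorMod (CohB1.tensorMod B M) T ≅ CohB1.tensorMod M P :=
    tensorIso (tensorComm B M) (Iso.refl T) ≪≫ tensorAssoc M B T ≪≫
      tensorIso (Iso.refl M) (tensorIso (tensorUnitRight B).symm (Iso.refl T))
  let π := Scheme.Modules.pullback W.ι
  exact (Scheme.Modules.restrictFunctorIsoPullback W.ι).app M ≪≫ (tensorUnitRight _).symm ≪≫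
    tensorIso (Iso.refl _) (restrictGenIso φ inf_le_left).symm ≪≫
    Groth.L29.DC.PullTensor.pullTensor W.ι M P ≪≫ π.mapIso eP.symm ≪≫ restrictGenIso φ' inf_le_right

end Groth.L13.CurveContr
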