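import Groth.Prelude.Def_ModelsG
import Groth.Agent.L18.CurveBasic
import Groth.Agent.L21.RR.TopVanish
import Groth.Agent.L18.AmpleOps
import Groth.Agent.L18.AmplePull
import Groth.Agent.L16.Connected.ZMTIso

/-!
# Maps from curves: constant or finite
-/

set_option autoImplicit false
set_option backward.isDefEq.respectTransparency false
set_option linter.style.haveILetI false
set_option linter.unusedSectionVars false
universe u

open CategoryTheory CategoryTheory.Limits AlgebraicGeometry TopologicalSpace

noncomputable section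

namespace Groth.L13.CurveContr

/-- A closed map from an integral scheme of dimension at most one is constant or has finite fibres. -/
theorem constant_or_finite {C W : Scheme.{u}} [IsIntegral C] [NoetherianSpace C]
    (hcl : ∀ c : C, c ≠ genericPoint C → IsClosed ({c} : Set C)) (g : C ⟶ W) (hg : IsClosedMap g) :
    (∀ c, g c = g (genericPoint C)) ∨ ∀ w, (g ⁻¹' {w}).Finite := by
  by_cases hη : IsClosed ({g (genericPoint C)} : Set W)
  · exact Or.inl fun c => hη.closure_eq.subset ((genericPoint_specializes c).map g.continuous).mem_closure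
  refine Or.inr fun w => ?_
  by_cases hw : IsClosed ({w} : Set W)
  · exact Groth.L18.Curve.finite_of_forall_isClosed (hw.preimage g.continuous) fun c hc => hcl c fun e =>
      hη (by rw [← e, show g c = w from hc]; exact hw)
  · refine (Set.finite_singleton (genericPoint C)).subset fun c hc => ?_
    by_contra hne
    refine hw ?_
    have h := hg _ (hcl c hne)
    rwa [Set.image_singleton, show g c = w from hc] at h

theorem isClosed_of_ne_genericPoint {C : Scheme.{u}} [IsIntegral C] (hd : topologicalKrullDim C ≤ 1) (c : C)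
    (hc : c ≠ genericPoint C) : IsClosed ({c} : Set C) := by
  haveI : T0Space C.toTopCat := inferInstanceAs (T0Space C)
  exact isClosed_of_closure_subset fun z hz =>
    (((Groth.L21.RR.Top.spec_of_dim_le_one (X := C.toTopCat) hd _ c z (genericPoint_specializes c)
      (specializes_iff_mem_closure.2 hz))).resolve_left hc.symm).symm

/-- A morphism from a proper curve pulling back an ample module to the trivial one is constant. -/
theorem constant_of_pullback_trivial {k : Type u} [Field k] {C W : Scheme.{u}} (p : C ⟶ Spec (CommRingCat.of k))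
    [IsProper p] [IsIntegral C] (hd : topologicalKrullDim C = 1) (g : C ⟶ W) [IsProper g] {M : W.Modules}
    (hM : CohB1.IsAmple M) (t : (Scheme.Modules.pullback g).obj M ≅ Coh.structureModule C) :
    ∀ c, g c = g (genericPoint C) := by
  haveI : IsLocallyNoetherian C := LocallyOfFiniteType.isLocallyNoetherian p
  haveI : CompactSpace C := QuasiCompact.compactSpace_of_compactSpace p
  haveI : AlgebraicGeometry.IsNoetherian C := {}
  refine (constant_or_finite (isClosed_of_ne_genericPoint hd.le) g g.isClosedMap).resolve_right fun hfin => ?_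
  haveI : LocallyQuasiFinite g := LocallyQuasiFinite.of_finite_preimage_singleton g hfin
  haveI : IsFinite g := IsFinite.of_isProper_of_locallyQuasiFinite g
  haveI : C.IsQuasiAffine := Groth.L18.Ample.isQuasiAffine_of_isAmple_structureModule
    (Groth.L18.Ample.isAmple_of_iso t (Groth.L18.Ample.isAmple_pullback_of_isAffineHom g hM))
  have hF : IsField Γ(C, ⊤) := AlgebraicGeometry.isField_of_universallyClosed (K := k) p
  haveI : Subsingleton (Spec Γ(C, ⊤)) := by
    letI := hF.toField
    exact inferInstanceAs (Subsingleton (PrimeSpectrum Γ(C, ⊤)))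
  haveI : Subsingleton C := C.toSpecΓ.isOpenEmbedding.injective.subsingleton
  have h0 : topologicalKrullDim C ≤ 0 := by
    refine Order.krullDim_nonpos_iff_forall_isMax.2 fun A B hAB => ?_
    obtain ⟨a, ha⟩ := A.isIrreducible.1
    exact fun b _ => (Subsingleton.elim b a) ▸ ha
  rw [hd] at h0
  exact not_lt.2 h0 (by norm_num)

/-- The components of the closed fibre cover it. -/
theorem exists_component_mem {R : Type u} [CommRing R] [IsDomain R] [IsDiscreteValuationRing R]
    {X : Over (Spec (CommRingCat.of R))} {n : ℕ} {Γs : Fin n → ArSurf.VertComp R X}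
    (hΓ : Models.IsComponentList R X Γs) {x : X.left} (hx : x ∈ Models.specialFibreSet R X) :
    ∃ i, x ∈ Set.range ((Γs i).ι.base : (Γs i).curve.left → X.left) := by
  let T := Models.specialFibreSet R X
  let C : Set X.left := Subtype.val '' irreducibleComponent (⟨x, hx⟩ : T)
  have hC : C ∈ Models.fibreComponents R X := by
    refine ⟨⟨isIrreducible_irreducibleComponent.image _ continuous_subtype_val.continuousOn, ?_⟩, ?_⟩
    · rintro _ ⟨a, -, rfl⟩
      exact a.2
    · rintro S ⟨hS, hST⟩ hle
      intro s hs
      let S' : Set T := Subtype.val ⁻¹' S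
      have hS' : IsIrreducible S' := by
        refine ⟨⟨⟨s, hST hs⟩, hs⟩, fun a b ha hb ⟨p, hp, hpa⟩ ⟨q, hq, hqb⟩ => ?_⟩
        obtain ⟨a', ha', rfl⟩ := isOpen_induced_iff.1 ha
        obtain ⟨b', hb', rfl⟩ := isOpen_induced_iff.1 hb
        obtain ⟨r, hr, hr'⟩ := hS.2 a' b' ha' hb' ⟨p.1, hp, hpa⟩ ⟨q.1, hq, hqb⟩
        exact ⟨⟨r, hST hr⟩, hr, hr'⟩
      have hsub : irreducibleComponent (⟨x, hx⟩ : T) ⊆ S' := fun a ha => hle ⟨a, ha, rfl⟩
      have he := eq_irreducibleComponent (hS'.2) hsub
      exact ⟨⟨s, hST hs⟩, he ▸ (show (⟨s, hST hs⟩ : T) ∈ S' from hs), rfl⟩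
  obtain ⟨i, hi⟩ := hΓ.2.ge hC
  exact ⟨i, hi.ge ⟨⟨x, hx⟩, mem_irreducibleComponent, rfl⟩⟩

end Groth.L13.CurveContr
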