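import Groth.Agent.L13.CurveContr.Degree
import Groth.Agent.L16.ProjSpace.Sections
import Mathlib.RingTheory.Ideal.Cotangent

/-!
# Dimensions: cotangent spaces and sections on the projective line
-/

set_option autoImplicit false
set_option backward.isDefEq.respectTransparency false
set_option linter.style.haveILetI false
set_option linter.unusedSectionVars false
universe u

open CategoryTheory CategoryTheory.Limits AlgebraicGeometry TopologicalSpace

noncomputable section

namespace Groth.L13.CurveContr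

/-- The cotangent space of a localisation at a maximal ideal, read off from a semilinear description. -/
theorem finrank_cotangent_of_semilinear {A O : Type u} [CommRing A] [CommRing O] [IsLocalRing O] [Algebra A O]
    (p : Ideal A) [p.IsMaximal] [IsLocalization.AtPrime O p] {κ : Type u} [Field κ] {G : Type u} [AddCommGroup G]
    [Module κ G] (ρ : A →+* κ) (hρ : Function.Surjective ρ) (hker : RingHom.ker ρ = p) (ψ : ↥p →+ G)
    (hψ : Function.Surjective ψ) (hlin : ∀ (a : A) (x : ↥p), ψ (a • x) = ρ a • ψ x)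
    (hψker : ∀ x : ↥p, ψ x = 0 ↔ (x : A) ∈ p * p) :
    Module.finrank (IsLocalRing.ResidueField O) (IsLocalRing.CotangentSpace O) = Module.finrank κ G := by
  classical
  set M := IsLocalRing.maximalIdeal O
  have hmem : ∀ a, algebraMap A O a ∈ M ↔ a ∈ p := fun a => IsLocalization.AtPrime.to_map_mem_maximal_iff O p a
  have hmap : Ideal.map (algebraMap A O) p = M := IsLocalization.AtPrime.map_eq_maximalIdeal p O
  -- inverses modulo the prime
  have hinv : ∀ s : p.primeCompl, ∃ t : A, (s : A) * t - 1 ∈ p := by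
    intro s
    obtain ⟨t, i, hi, hst⟩ := Ideal.IsMaximal.exists_inv ‹p.IsMaximal› s.2
    exact ⟨t, by rw [show (s : A) * t - 1 = -i by linear_combination hst]; exact neg_mem hi⟩
  let θ : ↥p →+ M.Cotangent :=
    AddMonoidHom.mk' (fun x => M.toCotangent ⟨algebraMap A O x, (hmem _).2 x.2⟩) fun x y => by
      rw [← map_add]
      exact congrArg M.toCotangent (Subtype.ext (map_add (algebraMap A O) _ _))
  have hθ : Function.Surjective θ := fun v => by
    obtain ⟨⟨b, hb⟩, rfl⟩ := M.toCotangent_surjective v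
    obtain ⟨⟨a, s⟩, has⟩ := IsLocalization.surj p.primeCompl b
    obtain ⟨t, ht⟩ := hinv s
    have ha : a ∈ p := (hmem a).1 (by rw [← has]; exact Ideal.mul_mem_right _ _ hb)
    refine ⟨⟨a * t, Ideal.mul_mem_right _ _ ha⟩, (M.toCotangent_eq).2 ?_⟩
    show algebraMap A O (a * t) - b ∈ M ^ 2
    rw [map_mul, ← has, mul_assoc, ← map_mul, show b * algebraMap A O ((s : A) * t) - b =
      b * algebraMap A O ((s : A) * t - 1) by rw [map_sub, map_one]; ring, pow_two]
    exact Ideal.mul_mem_mul hb ((hmem _).2 ht)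
  have hθker : ∀ x, θ x = 0 ↔ (x : A) ∈ p * p := fun x => by
    refine (M.toCotangent_eq_zero _).trans ⟨fun h => ?_, fun h => ?_⟩
    · change algebraMap A O x ∈ M ^ 2 at h
      rw [← hmap, ← Ideal.map_pow, IsLocalization.algebraMap_mem_map_algebraMap_iff p.primeCompl] at h
      obtain ⟨s, hs, hsx⟩ := h
      obtain ⟨t, ht⟩ := hinv ⟨s, hs⟩
      rw [pow_two] at hsx
      have h1 : (x : A) * (s * t - 1) ∈ p * p := Ideal.mul_mem_mul x.2 ht
      have h2 : s * (x : A) * t ∈ p * p := Ideal.mul_mem_right _ _ hsx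
      rw [show (x : A) = s * (x : A) * t - (x : A) * (s * t - 1) by ring]
      exact sub_mem h2 h1
    · show algebraMap A O x ∈ M ^ 2
      rw [← hmap, ← Ideal.map_pow, pow_two]
      exact Ideal.mem_map_of_mem _ h
  have hker' : ψ.ker = θ.ker := AddSubgroup.ext fun x => (hψker x).trans (hθker x).symm
  let j : G ≃+ M.Cotangent :=
    (QuotientAddGroup.quotientKerEquivOfSurjective ψ hψ).symm.trans
      ((QuotientAddGroup.quotientAddEquivOfEq hker').trans (QuotientAddGroup.quotientKerEquivOfSurjective θ hθ))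
  have hj : ∀ x, j (ψ x) = θ x := fun x => by
    have h : (QuotientAddGroup.quotientKerEquivOfSurjective ψ hψ).symm (ψ x) = QuotientAddGroup.mk x :=
      (AddEquiv.symm_apply_eq _).2 rfl
    show QuotientAddGroup.quotientKerEquivOfSurjective θ hθ (QuotientAddGroup.quotientAddEquivOfEq hker'
      ((QuotientAddGroup.quotientKerEquivOfSurjective ψ hψ).symm (ψ x))) = _
    rw [h]
    rfl
  let res : A →+* IsLocalRing.ResidueField O := (IsLocalRing.residue O).comp (algebraMap A O)
  have hres : ∀ a, res a = 0 ↔ ρ a = 0 := fun a => by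
    rw [← RingHom.mem_ker (f := ρ), hker, ← hmem]
    exact IsLocalRing.residue_eq_zero_iff _
  let i : κ →+* IsLocalRing.ResidueField O := ρ.liftOfSurjective hρ ⟨res, fun a ha => (hres a).2 ha⟩
  have hi : ∀ a, i (ρ a) = res a := fun a => RingHom.liftOfRightInverse_comp_apply _ _ _ _ _
  have hib : Function.Bijective i := by
    refine ⟨i.injective, fun w => ?_⟩
    obtain ⟨b, rfl⟩ := IsLocalRing.residue_surjective w
    obtain ⟨⟨a, s⟩, has⟩ := IsLocalization.surj p.primeCompl b
    obtain ⟨t, ht⟩ := hinv s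
    refine ⟨ρ (a * t), ?_⟩
    rw [hi]
    show IsLocalRing.residue O (algebraMap A O (a * t)) = _
    rw [map_mul (algebraMap A O), ← has, mul_assoc, ← map_mul (algebraMap A O), map_mul]
    have h1 : res ((s : A) * t - 1) = 0 := (hres _).2 ((RingHom.mem_ker (f := ρ)).1 (hker.ge ht))
    rw [map_sub, map_one, sub_eq_zero] at h1
    show IsLocalRing.residue O b * res ((s : A) * t) = _
    rw [h1, mul_one]
  refine (congrArg Cardinal.toNat (rank_eq_of_equiv_equiv (R := κ) (R' := IsLocalRing.ResidueField O) i j hib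
    fun c g => ?_)).symm
  obtain ⟨a, rfl⟩ := hρ c
  obtain ⟨x, rfl⟩ := hψ g
  rw [← hlin, hj, hj, hi]
  show M.toCotangent ⟨algebraMap A O (a * x), _⟩ = algebraMap A O a • M.toCotangent ⟨algebraMap A O x, _⟩
  rw [← map_smul]
  exact congrArg M.toCotangent (Subtype.ext (map_mul (algebraMap A O) a x))

open Groth.L05.InterPair Groth.L21.RR

variable {R : Type u} [CommRing R] [IsDomain R] [IsDiscreteValuationRing R]
  {X : Over (Spec (CommRingCat.of R))} [IsProper X.hom] [IsLocallyNoetherian X.left] (E : ArSurf.VertComp R X)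

local notation "κ" => IsLocalRing.ResidueField R

/-- Dimension of the sections of a module of non-negative degree over the constants. -/
theorem finrank_sections_mul (hP1 : IsP1 E) {N : E.curve.left.Modules} (hN : PicF.IsInvertible N)
    (h : 0 ≤ ArSurf.curveDeg κ E.curve.left N) (hF : IsField Γ(E.curve.left, ⊤)) :
    letI := hF.toField
    letI : Algebra κ Γ(E.curve.left, ⊤) := (Coh.toGlobal E.curve.hom).toAlgebra
    ((Module.finrank κ Γ(E.curve.left, ⊤) * Module.finrank Γ(E.curve.left, ⊤) Γ(N, ⊤) : ℕ) : ℤ) =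
      ArSurf.curveDeg κ E.curve.left N + (Module.finrank κ Γ(E.curve.left, ⊤) : ℤ) := by
  letI := hF.toField
  letI : Algebra κ Γ(E.curve.left, ⊤) := (Coh.toGlobal E.curve.hom).toAlgebra
  letI : Module κ Γ(N, ⊤) := Module.compHom _ (algebraMap κ Γ(E.curve.left, ⊤))
  haveI : IsScalarTower κ Γ(E.curve.left, ⊤) Γ(N, ⊤) := IsScalarTower.of_algebraMap_smul fun c g => rfl
  haveI := isProper_curve E
  have hh : ∀ (M : E.curve.left.Modules),
      Module.finrank κ (Coh.HH E.curve.left M 0) =
        letI : Module κ Γ(M, ⊤) := Module.compHom _ (algebraMap κ Γ(E.curve.left, ⊤))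
        Module.finrank κ Γ(M, ⊤) := fun M => by
    letI : Module κ Γ(M, ⊤) := Module.compHom _ (algebraMap κ Γ(E.curve.left, ⊤))
    exact LinearEquiv.finrank_eq
      { e0 M with map_smul' := fun c x => e0_smul κ M c x }
  rw [Module.finrank_mul_finrank, curveDeg_eq_euler κ E.dim_eq, euler_eq κ E.dim_eq.le, euler_eq κ E.dim_eq.le]
  have hN1 : Groth.L21.RR.h κ 1 N = 0 := by
    haveI := (subsingleton_h1_of_nonneg E hP1 hN h).1
    exact Module.finrank_zero_of_subsingleton
  have hO1 : Groth.L21.RR.h κ 1 (Coh.structureModule E.curve.left) = 0 := by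
    haveI := subsingleton_h1_structure E hP1
    exact Module.finrank_zero_of_subsingleton
  rw [hN1, hO1]
  simp only [Groth.L21.RR.h, hh]
  have hs : (letI : Module κ Γ(Coh.structureModule E.curve.left, ⊤) :=
      Module.compHom _ (algebraMap κ Γ(E.curve.left, ⊤))
    Module.finrank κ Γ(Coh.structureModule E.curve.left, ⊤)) = Module.finrank κ Γ(E.curve.left, ⊤) := rfl
  rw [hs]
  push_cast
  ring

/-- The constants on a projective line over a field. -/
theorem finrank_constants {k' : Type u} [Field k'] [Algebra κ k'] (e : E.curve.left ≅ CohB1.ProjSpace 1 k')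
    (he : e.hom ≫ CohB1.ProjSpace.toSpec 1 k' ≫ Spec.map (CommRingCat.ofHom (algebraMap κ k')) = E.curve.hom) :
    IsField Γ(E.curve.left, ⊤) ∧
      (letI : Algebra κ Γ(E.curve.left, ⊤) := (Coh.toGlobal E.curve.hom).toAlgebra
       Module.finrank κ Γ(E.curve.left, ⊤) = Module.finrank κ k') := by
  letI : Algebra κ Γ(E.curve.left, ⊤) := (Coh.toGlobal E.curve.hom).toAlgebra
  let g : k' →+* Γ(E.curve.left, ⊤) := e.hom.appTop.hom.comp (Coh.toGlobal (CohB1.ProjSpace.toSpec 1 k'))
  have hg : Function.Bijective g :=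
    (ConcreteCategory.bijective_of_isIso e.hom.appTop).comp
      (Groth.L16.ProjSpace.toGlobal_bijective (n := 1) (R := k'))
  let ge := RingEquiv.ofBijective g hg
  refine ⟨ge.symm.toMulEquiv.isField (Field.toIsField k'), ?_⟩
  refine (LinearEquiv.finrank_eq ({ ge with map_smul' := fun c x => ?_ } : k' ≃ₗ[κ] Γ(E.curve.left, ⊤))).symm
  show g (c • x) = (show Γ(E.curve.left, ⊤) from Coh.toGlobal E.curve.hom c) * g x
  rw [Algebra.smul_def, map_mul]
  congr 1
  rw [← he]
  simp only [g, Coh.toGlobal, RingHom.comp_apply, Scheme.Hom.comp_appTop, CommRingCat.hom_comp]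
  exact congrArg (fun z => e.hom.appTop ((CohB1.ProjSpace.toSpec 1 k').appTop z))
    congr($(Scheme.ΓSpecIso_inv_naturality (CommRingCat.ofHom (algebraMap κ k'))) c)

end Groth.L13.CurveContr
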