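import Groth.Agent.L13.CurveContr.Generic
import Groth.Agent.L05.GeomMult.Components
import Groth.Agent.L05.InterPair.Main
import Groth.Agent.L22.Big.Nef

/-!
# Degrees of ample modules on a fibred surface
-/

set_option autoImplicit false
set_option backward.isDefEq.respectTransparency false
set_option linter.style.haveILetI false
set_option linter.unusedSectionVars false
universe u

open CategoryTheory CategoryTheory.Limits AlgebraicGeometry TopologicalSpace

noncomputable section

namespace Groth.L13.CurveContr

variable {R : Type u} [CommRing R] [IsDomain R] [IsDiscreteValuationRing R]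
  (X : Over (Spec (CommRingCat.of R))) [IsProper X.hom] [IsIntegral X.left] [Flat X.hom]

theorem isIntegral_genericFibre : IsIntegral (pullback X.hom (Neron.genPt R) : Scheme.{u}) := by
  obtain ⟨ϖ, hϖ⟩ := IsDiscreteValuationRing.exists_irreducible R
  haveI := Groth.L18.AppIso.isLocalizationAway_fractionRing hϖ
  haveI : IsOpenImmersion (Neron.genPt R) := IsOpenImmersion.of_isLocalization (S := FractionRing R) ϖ
  obtain ⟨η', -⟩ : genericPoint X.left ∈ Set.range (pullback.fst X.hom (Neron.genPt R)) := by
    rw [Scheme.Pullback.range_fst]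
    exact genericPoint_ne_closedPoint X
  haveI : Nonempty (pullback X.hom (Neron.genPt R) : Scheme.{u}) := ⟨η'⟩
  exact isIntegral_of_isOpenImmersion (pullback.fst X.hom (Neron.genPt R))

theorem dim_genericFibre_le (hdim : topologicalKrullDim X.left = 2) :
    topologicalKrullDim (↥(pullback X.hom (Neron.genPt R) : Scheme.{u})) ≤ 1 := by
  haveI := isIntegral_genericFibre X
  refine iSup_le fun l => ?_
  by_contra hl
  have hlen : 2 ≤ l.length := by
    by_contra h
    exact hl (by exact_mod_cast (show l.length ≤ 1 by omega))
  let i₀ : Fin (l.length + 1) := ⟨0, by omega⟩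
  let i₁ : Fin (l.length + 1) := ⟨1, by omega⟩
  let i₂ : Fin (l.length + 1) := ⟨2, by omega⟩
  have h01 : l i₀ < l i₁ := l.strictMono (show i₀ < i₁ from Fin.mk_lt_mk.2 Nat.zero_lt_one)
  have h12 : l i₁ < l i₂ := l.strictMono (show i₁ < i₂ from Fin.mk_lt_mk.2 Nat.one_lt_two)
  obtain ⟨z₁, hz₁⟩ := QuasiSober.sober (l i₁).isIrreducible (l i₁).isClosed
  have hne : z₁ ≠ genericPoint (↥(pullback X.hom (Neron.genPt R) : Scheme.{u})) := fun h =>
    h12.not_ge fun w _ => by
      rw [← SetLike.mem_coe, ← hz₁.def, h]
      exact (genericPoint_specializes w).mem_closure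
  have hcl := isClosed_generic X hdim z₁ hne
  refine h01.not_ge fun w hw => ?_
  obtain ⟨z₀, hz₀⟩ := (l i₀).isIrreducible.nonempty
  rw [← SetLike.mem_coe, ← hz₁.def, hcl.closure_eq, Set.mem_singleton_iff] at hw
  have : z₀ ∈ (l i₁ : Set _) := h01.le hz₀
  rw [← hz₁.def, hcl.closure_eq, Set.mem_singleton_iff] at this
  rw [hw, ← this]
  exact hz₀

theorem dim_fiber_genPt {p : Spec (CommRingCat.of R)} (hp : p ∈ Set.range (Neron.genPt R)) :
    topologicalKrullDim ↥(X.hom.fiber p) = topologicalKrullDim (↥(pullback X.hom (Neron.genPt R) : Scheme.{u})) := by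
  have hj : Topology.IsEmbedding (pullback.fst X.hom (Neron.genPt R)) := by
    obtain ⟨ϖ, hϖ⟩ := IsDiscreteValuationRing.exists_irreducible R
    haveI := Groth.L18.AppIso.isLocalizationAway_fractionRing hϖ
    haveI : IsOpenImmersion (Neron.genPt R) := IsOpenImmersion.of_isLocalization (S := FractionRing R) ϖ
    exact (pullback.fst X.hom (Neron.genPt R)).isOpenEmbedding.isEmbedding
  have hr : Set.range (pullback.fst X.hom (Neron.genPt R)) = X.hom ⁻¹' {p} := by
    rw [Scheme.Pullback.range_fst]
    congr 1
    refine Set.Subset.antisymm ?_ (Set.singleton_subset_iff.2 hp)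
    haveI : Subsingleton (Spec (CommRingCat.of (FractionRing R))) :=
      inferInstanceAs (Subsingleton (PrimeSpectrum (FractionRing R)))
    exact fun q hq => Set.subsingleton_range (Neron.genPt R) hq hp
  exact IsHomeomorph.topologicalKrullDim_eq _
    (((X.hom.fiberHomeo p).trans (Homeomorph.setCongr hr.symm)).trans hj.toHomeomorph.symm).isHomeomorph

theorem dim_genericFibre (hdim : topologicalKrullDim X.left = 2) (E : ArSurf.VertComp R X) :
    topologicalKrullDim (↥(pullback X.hom (Neron.genPt R) : Scheme.{u})) = 1 := by
  haveI := isIntegral_genericFibre X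
  haveI : IsNoetherianRing (CommRingCat.of R) := inferInstanceAs (IsNoetherianRing R)
  haveI : IsDomain (CommRingCat.of R) := inferInstanceAs (IsDomain R)
  refine le_antisymm (dim_genericFibre_le X hdim) ?_
  · let S := Spec (CommRingCat.of R)
    have hY : topologicalKrullDim S = 1 :=
      (PrimeSpectrum.topologicalKrullDim_eq_ringKrullDim R).trans (IsDiscreteValuationRing.ringKrullDim_eq_one R)
    have hgen : X.hom (genericPoint X.left) = genericPoint S := by
      obtain ⟨x', hx', hx''⟩ := Flat.generalizingMap X.hom (genericPoint_specializes (X.hom (genericPoint X.left)))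
      rw [(hx'.antisymm (genericPoint_specializes x')).eq] at hx''
      exact hx''
    have hp : DenseRange X.hom.base := by
      refine dense_iff_closure_eq.2 (Set.eq_univ_of_univ_subset ?_)
      rw [← (genericPoint_spec S).def]
      exact closure_mono (Set.singleton_subset_iff.2 ⟨_, hgen⟩)
    let y : S := IsLocalRing.closedPoint R
    haveI := E.isIntegral
    haveI := E.isClosedImmersion
    have hEy : ∀ c, X.hom (E.ι c) = y := fun c => by
      rw [← Scheme.Hom.comp_apply, E.w, Scheme.Hom.comp_apply]
      refine PrimeSpectrum.ext ?_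
      generalize E.curve.hom c = t
      show Ideal.comap (IsLocalRing.residue R) t.asIdeal = IsLocalRing.maximalIdeal R
      rw [(Ideal.eq_bot_or_top t.asIdeal).resolve_right t.2.ne_top]
      exact Ideal.mk_ker
    obtain ⟨c, hc⟩ : ∃ c : E.curve.left, c ≠ genericPoint E.curve.left := by
      by_contra hall
      push Not at hall
      haveI : Subsingleton E.curve.left := ⟨fun a b => (hall a).trans (hall b).symm⟩
      have h0 : topologicalKrullDim E.curve.left ≤ 0 := by
        refine Order.krullDim_nonpos_iff_forall_isMax.2 fun A B hAB => ?_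
        obtain ⟨a, ha⟩ := A.isIrreducible.1
        exact fun b _ => (Subsingleton.elim b a) ▸ ha
      rw [E.dim_eq] at h0
      exact not_lt.2 h0 (by norm_num)
    obtain ⟨a, ha⟩ : E.ι (genericPoint E.curve.left) ∈ Set.range (X.hom.fiberι y) := by
      rw [X.hom.range_fiberι]; exact hEy _
    obtain ⟨b, hb⟩ : E.ι c ∈ Set.range (X.hom.fiberι y) := by
      rw [X.hom.range_fiberι]; exact hEy _
    have hab : a ⤳ b := (X.hom.fiberι y).isEmbedding.isInducing.specializes_iff.1 (by
      rw [ha, hb]; exact (genericPoint_specializes c).map E.ι.continuous)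
    have hbW : b ∈ irreducibleComponent a := hab.mem_closed isClosed_irreducibleComponent mem_irreducibleComponent
    have h1 : 1 ≤ topologicalKrullDim (irreducibleComponent a) :=
      Groth.L05.GeomMult.one_le_dim_of_specializes (a := (⟨a, mem_irreducibleComponent⟩ : irreducibleComponent a))
        (b := ⟨b, hbW⟩) (Topology.IsInducing.subtypeVal.specializes_iff.1 hab) fun e => hc (by
          have h' : b = a := congrArg Subtype.val e
          refine E.ι.isClosedEmbedding.injective ?_
          rw [← hb, ← ha, h'])
    rw [Groth.Agent.S4702.result X.hom hY hp y ⟨_, hEy c⟩ _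
      (irreducibleComponent_mem_irreducibleComponents a)] at h1
    refine h1.trans (le_of_eq ?_)
    exact dim_fiber_genPt X (hgen ▸ genericPoint_ne_closedPoint X)

theorem curveDeg_generic_pos (hdim : topologicalKrullDim X.left = 2) (E : ArSurf.VertComp R X)
    {A : X.left.Modules} (hA : CohB1.IsAmple A) :
    0 < ArSurf.curveDeg (FractionRing R) ((Neron.genericFibre R).obj X).left
      ((Scheme.Modules.pullback (pullback.fst X.hom (Neron.genPt R))).obj A) := by
  haveI : IsAffineHom (pullback.fst X.hom (Neron.genPt R)) :=
    MorphismProperty.pullback_fst (P := @IsAffineHom) _ _ inferInstance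
  let Z := ((Neron.genericFibre R).obj X).left
  haveI : IsProper (Z ↘ Spec (CommRingCat.of (FractionRing R))) :=
    MorphismProperty.pullback_snd (P := @IsProper) X.hom (Neron.genPt R) inferInstance
  haveI : IsIntegral Z := isIntegral_genericFibre X
  have hd : topologicalKrullDim Z = 1 := dim_genericFibre X hdim E
  have h := Groth.L22.Big.altT_ample_pos (FractionRing R) (X := Z) (n := 1)
    (Groth.L18.Ample.isAmple_pullback_of_isAffineHom (pullback.fst X.hom (Neron.genPt R)) hA)
    (hd.trans Nat.cast_one.symm)
  rw [← Groth.L05.InterPair.curveDeg_eq_altT (FractionRing R) hd] at h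
  exact_mod_cast h

theorem inter_pos_of_ample (E : ArSurf.VertComp R X) {A : X.left.Modules} (hA : CohB1.IsAmple A) :
    0 < ArSurf.inter R X A E := by
  haveI : IsLocallyNoetherian X.left := LocallyOfFiniteType.isLocallyNoetherian X.hom
  haveI := E.isClosedImmersion
  haveI := Groth.L05.InterPair.isProper_curve E
  have h := Groth.L22.Big.altT_ample_pos (IsLocalRing.ResidueField R) (X := E.curve.left) (n := 1)
    (Groth.L18.Ample.isAmple_pullback_of_isAffineHom E.ι hA) (E.dim_eq.trans Nat.cast_one.symm)
  rw [← Groth.L05.InterPair.curveDeg_eq_altT (IsLocalRing.ResidueField R) E.dim_eq] at h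
  exact_mod_cast h

end Groth.L13.CurveContr
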