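import Groth.Agent.L12.GenusZero.Mult
import Groth.Agent.L13.PairBlow.Basic
import Groth.Agent.L07.DiffOpSheaf
import Groth.Agent.L14.LocHilb.Lift.PushHom

/-!
# The conormal space of a contracted curve as an ideal cotangent space
-/

set_option autoImplicit false
set_option backward.isDefEq.respectTransparency false
set_option linter.style.haveILetI false
set_option linter.unusedSectionVars false
universe u

open CategoryTheory CategoryTheory.Limits AlgebraicGeometry TopologicalSpace Opposite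

noncomputable section

namespace Groth.L13.CurveContr

open Groth.Agent.L19.IdealInvertible (io io_inj)
open Groth.L13.PointBlow (mulI mulI_tens)
open Groth.L18.GenLoc (tens)
open Groth.L21.RR (e0)
open Groth.L16.CohLinear (hmap exact_hmap_hmap exact_hmap_delta)

variable {E Z : Scheme.{u}} (l : E ⟶ Z) [IsClosedImmersion l]

/-- The restriction sequence along a closed immersion, twisted by a module. -/
theorem exists_seq_closed {M : Z.Modules} (hM : FlatMod.IsFinLocFree M) :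
    ∃ S : ShortComplex Z.Modules, S.ShortExact ∧
      ∃ (e₁ : S.X₁ ≅ CohB1.tensorMod (ClSub.idealMod l.ker) M) (e₂ : S.X₂ ≅ M),
        S.f = e₁.hom ≫ mulI l.ker M ≫ e₂.inv ∧
        Nonempty (S.X₃ ≅ (Scheme.Modules.pushforward l).obj ((Scheme.Modules.pullback l).obj M)) := by
  obtain ⟨S, hS, e₁, e₂, hf, ⟨e₃⟩⟩ := Groth.L13.PairBlow.exists_seq l.ker hM
  let q₀ : E ⟶ l.ker.subscheme := l.toImage
  haveI : IsIso q₀ := inferInstanceAs (IsIso l.toImage)
  have hq : q₀ ≫ l.ker.subschemeι = l := Scheme.Hom.toImage_imageι l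
  let G := (Scheme.Modules.pullback l.ker.subschemeι).obj M
  haveI := Groth.L07.DiffOpSheaf.isIso_unit_of_isIso q₀ G
  exact ⟨S, hS, e₁, e₂, hf, ⟨e₃ ≪≫ (Scheme.Modules.pushforward l.ker.subschemeι).mapIso
    (asIso ((Scheme.Modules.pullbackPushforwardAdjunction q₀).unit.app G) ≪≫
      (Scheme.Modules.pushforward q₀).mapIso ((Scheme.Modules.pullbackComp q₀ l.ker.subschemeι).app M ≪≫
        (Scheme.Modules.pullbackCongr hq).app M)) ≪≫
    (Scheme.Modules.pushforwardComp q₀ l.ker.subschemeι).app _ ≪≫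
    (Scheme.Modules.pushforwardCongr hq).app _⟩⟩

theorem app_eq_zero_iff (a : Γ(Z, ⊤)) :
    l.appTop a = 0 ↔ l.ker.subschemeι.app ⊤ a = 0 := by
  have h : l.appTop a = l.toImage.appTop (l.ker.subschemeι.appTop a) := by
    conv_lhs => rw [show l = l.toImage ≫ l.ker.subschemeι from (Scheme.Hom.toImage_imageι l).symm]
    rfl
  rw [h]
  haveI : IsIso l.toImage.appTop := inferInstance
  exact ⟨fun h' => (ConcreteCategory.bijective_of_isIso l.toImage.appTop).1 (h'.trans (map_zero _).symm),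
    fun h' => by
      rw [show l.ker.subschemeι.appTop a = 0 from h', map_zero]⟩

theorem io_add (J : Z.IdealSheafData) {V : Z.Opens} (a b : Γ(ClSub.idealMod J, V)) :
    io J V (a + b) = io J V a + io J V b :=
  map_add ((ClSub.idealModι J).app V).hom a b

theorem io_smul (J : Z.IdealSheafData) {V : Z.Opens} (c : Γ(Z, V)) (a : Γ(ClSub.idealMod J, V)) :
    io J V (c • a) = c * io J V a :=
  Scheme.Modules.Hom.app_smul (ClSub.idealModι J) c a

/-- The conormal sections of a contracted curve are the cotangent space of its ideal of functions. -/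
theorem exists_cotangent (h2 : Groth.L12.GenusZero.RightExact Z)
    (hI : PicF.IsInvertible (ClSub.idealMod l.ker)) (hgg : Curv2.IsGloballyGenerated (ClSub.idealMod l.ker))
    [CompactSpace Z] [IsIntegral Z]
    (hO1 : Subsingleton (Coh.HH Z (Coh.structureModule Z) 1))
    (h1 : Subsingleton (Coh.HH Z (ClSub.idealMod l.ker) 1))
    (h11 : Subsingleton (Coh.HH Z (CohB1.tensorMod (ClSub.idealMod l.ker) (ClSub.idealMod l.ker)) 1)) :
    Function.Surjective l.appTop ∧
    ∃ ψ : ↥(RingHom.ker l.appTop.hom) →+ Γ((Scheme.Modules.pullback l).obj (ClSub.idealMod l.ker), ⊤),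
      Function.Surjective ψ ∧
      (∀ (b : Γ(Z, ⊤)) (x : ↥(RingHom.ker l.appTop.hom)), ψ (b • x) = (show Γ(E, ⊤) from l.appTop b) • ψ x) ∧
      ∀ x : ↥(RingHom.ker l.appTop.hom), ψ x = 0 ↔ (x : Γ(Z, ⊤)) ∈ RingHom.ker l.appTop.hom * RingHom.ker l.appTop.hom := by
  classical
  set I := l.ker
  set N := ClSub.idealMod I
  set m := RingHom.ker l.appTop.hom
  constructor
  · intro v
    have hS := Groth.L21.RR.shortExact_idealSeq I
    obtain ⟨v', hv'⟩ := (ConcreteCategory.bijective_of_isIso l.toImage.appTop).2 v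
    haveI : Subsingleton (Coh.HH Z (Groth.L21.RR.idealSeq I).X₁ 1) := h1
    obtain ⟨t, ht⟩ := (exact_hmap_delta hS 0 ((e0 _).symm
      (show Γ(ClSub.quotMod I, ⊤) from (show Γ(I.subscheme, I.subschemeι ⁻¹ᵁ ⊤) from v')))).1
      (Subsingleton.elim _ _)
    have h := congrArg (e0 _) ht
    rw [AddEquiv.apply_symm_apply, Groth.L21.RR.e0_hmap] at h
    refine ⟨show Γ(Z, ⊤) from e0 _ t, ?_⟩
    rw [show l = l.toImage ≫ I.subschemeι from (Scheme.Hom.toImage_imageι l).symm]
    refine Eq.trans ?_ hv'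
    exact congrArg l.toImage.appTop h
  · obtain ⟨S, hS, e₁, e₂, hf, ⟨e₃⟩⟩ :=
      exists_seq_closed l (Groth.L16.Existence.isFinLocFree_of_isInvertible hI)
    haveI : Subsingleton (Coh.HH Z S.X₁ 1) := Groth.L14.LocHilbLift.subsingleton_HH_of_iso e₁.symm 1 h11
    let G := (Scheme.Modules.pullback l).obj N
    let g : N ⟶ (Scheme.Modules.pushforward l).obj G := e₂.inv ≫ S.g ≫ e₃.hom
    have hmem : ∀ a : Γ(Z, ⊤), a ∈ m ↔ ∃ n : Γ(N, ⊤), io I ⊤ n = a := fun a => by
      rw [RingHom.mem_ker, show l.appTop.hom a = l.appTop a from rfl, app_eq_zero_iff]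
      exact (Groth.L18.IdealModule.exact_sections I ⊤).2 a
    choose n hn using fun x : ↥m => (hmem x.1).1 x.2
    have hnadd : ∀ x y, n (x + y) = n x + n y := fun x y => io_inj I ⊤ (by
      rw [hn, io_add, hn, hn]; rfl)
    have hnsmul : ∀ (b : Γ(Z, ⊤)) x, n (b • x) = b • n x := fun b x => io_inj I ⊤ (by
      rw [hn, io_smul, hn]; rfl)
    let ψ : ↥m →+ Γ(G, ⊤) :=
      AddMonoidHom.mk' (fun x => (show Γ(G, l ⁻¹ᵁ ⊤) from g.app ⊤ (n x))) fun x y => by
        rw [hnadd, map_add]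
    have hprod : ∀ v : Γ(CohB1.tensorMod N N, ⊤), io I ⊤ ((mulI I N).app ⊤ v) ∈ m * m := by
      intro v
      obtain ⟨r, φ, hφ⟩ := Groth.L12.GenusZero.exists_fin_generators hI fun z => by
        obtain ⟨s, hs⟩ := Groth.L18.Ample.exists_genLocus_mem_of_gg hI hgg z
        exact ⟨s, (Groth.L21.RR.mem_genLocus_iff hI s z).1 hs⟩
      have hv : v ∈ AddSubgroup.closure {t | ∃ (a : N.val.obj (op ⊤)) (s : N.val.obj (op ⊤)),
          t = SecTwist.tmul N N ⊤ a s} := by
        rw [Groth.L12.GenusZero.span_tmul h2 hI φ hφ (Groth.L18.Ample.isInvertible_structureModule Z) hO1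
          (Groth.L00.Tensor.tensorUnitLeft N)]
        trivial
      induction hv using AddSubgroup.closure_induction with
      | mem t ht =>
        obtain ⟨a, s, rfl⟩ := ht
        rw [show SecTwist.tmul N N ⊤ a s = tens N N ⊤ a s from rfl, mulI_tens]
        rw [io_smul]
        exact Ideal.mul_mem_mul ((hmem _).2 ⟨a, rfl⟩) ((hmem _).2 ⟨s, rfl⟩)
      | zero => rw [map_zero]; exact (congrArg (· ∈ m * m) (map_zero _)).mpr (zero_mem _)
      | add x y _ _ hx hy => rw [map_add]; exact (congrArg (· ∈ m * m) (map_add _ _ _)).mpr (add_mem hx hy)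
      | neg x _ hx => rw [map_neg]; exact (congrArg (· ∈ m * m) (map_neg _ _)).mpr (neg_mem hx)
    refine ⟨ψ, fun v => ?_, fun b x => ?_, fun x => ⟨fun hx => ?_, fun hx => ?_⟩⟩
    · obtain ⟨w, hw⟩ := (ConcreteCategory.bijective_of_isIso (e₃.hom.app ⊤)).2
        (show Γ((Scheme.Modules.pushforward l).obj G, ⊤) from (show Γ(G, l ⁻¹ᵁ ⊤) from v))
      obtain ⟨t, ht⟩ := (exact_hmap_delta hS 0 ((e0 _).symm w)).1 (Subsingleton.elim _ _)
      have h := congrArg (e0 _) ht
      rw [AddEquiv.apply_symm_apply, Groth.L21.RR.e0_hmap] at h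
      let n₀ : Γ(N, ⊤) := e₂.hom.app ⊤ (e0 _ t)
      refine ⟨⟨io I ⊤ n₀, (hmem _).2 ⟨n₀, rfl⟩⟩, ?_⟩
      have hnn : n ⟨io I ⊤ n₀, (hmem _).2 ⟨n₀, rfl⟩⟩ = n₀ := io_inj I ⊤ (hn _)
      show g.app ⊤ (n _) = _
      rw [hnn]
      refine Eq.trans ?_ hw
      rw [← h]
      show (e₂.inv ≫ S.g ≫ e₃.hom).app ⊤ (e₂.hom.app ⊤ (e0 _ t)) = _
      rw [← ConcreteCategory.comp_apply, ← Scheme.Modules.Hom.comp_app, e₂.hom_inv_id_assoc]
      rfl
    · show g.app ⊤ (n (b • x)) = _
      rw [hnsmul, Scheme.Modules.Hom.app_smul]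
      rfl
    · have h0 : S.g.app ⊤ (e₂.inv.app ⊤ (n x)) = 0 :=
        (ConcreteCategory.bijective_of_isIso (e₃.hom.app ⊤)).1 ((show e₃.hom.app ⊤ (S.g.app ⊤ (e₂.inv.app ⊤ (n x))) = 0
          from hx).trans (map_zero _).symm)
      obtain ⟨t, ht⟩ := (exact_hmap_hmap hS 0 ((e0 _).symm (e₂.inv.app ⊤ (n x)))).1 ((e0 _).injective (by
        rw [Groth.L21.RR.e0_hmap, AddEquiv.apply_symm_apply, map_zero]; exact h0))
      have h := congrArg (e0 _) ht
      rw [AddEquiv.apply_symm_apply, Groth.L21.RR.e0_hmap, hf] at h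
      have h' : (mulI I N).app ⊤ (e₁.hom.app ⊤ (e0 _ t)) = n x :=
        (ConcreteCategory.bijective_of_isIso (e₂.inv.app ⊤)).1 h
      have := hprod (e₁.hom.app ⊤ (e0 _ t))
      rwa [h', hn] at this
    · have hkey : ∀ a ∈ m, ∀ s ∈ m, ∀ h, ψ ⟨a * s, h⟩ = 0 := by
        intro a ha s hs h
        show g.app ⊤ (n ⟨a * s, h⟩) = 0
        obtain ⟨a', ha'⟩ := (hmem a).1 ha
        obtain ⟨s', hs'⟩ := (hmem s).1 hs
        have hns : n ⟨a * s, h⟩ = (mulI I N).app ⊤ (tens N N ⊤ a' s') := io_inj I ⊤ (by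
          rw [hn, mulI_tens, io_smul, ha', hs'])
        rw [hns, ← ConcreteCategory.comp_apply, ← Scheme.Modules.Hom.comp_app]
        have hz : mulI I N ≫ g = 0 := by
          have : mulI I N ≫ e₂.inv = e₁.inv ≫ S.f := by rw [hf, e₁.inv_hom_id_assoc]
          rw [show g = e₂.inv ≫ S.g ≫ e₃.hom from rfl, ← Category.assoc, this, Category.assoc,
            S.zero_assoc, zero_comp, comp_zero]
        rw [hz]
        rfl
      obtain ⟨x, hxm⟩ := x
      change x ∈ m * m at hx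
      have : ∃ h, ψ ⟨x, h⟩ = 0 := by
        refine Submodule.mul_induction_on hx (fun a ha s hs => ⟨Ideal.mul_mem_right _ _ ha, hkey a ha s hs _⟩) ?_
        rintro a b ⟨ha, ha0⟩ ⟨hb, hb0⟩
        refine ⟨add_mem ha hb, ?_⟩
        rw [show (⟨a + b, add_mem ha hb⟩ : ↥m) = ⟨a, ha⟩ + ⟨b, hb⟩ from rfl, map_add, ha0, hb0, add_zero]
      exact this.2

end Groth.L13.CurveContr
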