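import Groth.Agent.L13.CurveContr.Nef
import Groth.Agent.L13.CurveContr.Cotangent
import Groth.Agent.L12.GenusZero.Local
import Groth.Agent.L12.GenusZero.Mult
import Groth.Agent.L13.PairBlow.Descend
import Groth.Agent.L13.PairBlow.Contract
import Groth.Agent.L17.ThickBasic
import Groth.Agent.L13.CurveContr.Ample
import Groth.Agent.L05.RelMinExists.Main
import Groth.Agent.L05.GeomMult.Basic

/-!
# The conormal module of a contracted projective line
-/

set_option autoImplicit false
set_option backward.isDefEq.respectTransparency false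
set_option linter.style.haveILetI false
set_option linter.unusedSectionVars false
set_option maxHeartbeats 2000000
universe u

open CategoryTheory CategoryTheory.Limits AlgebraicGeometry TopologicalSpace Opposite

noncomputable section

namespace Groth.L13.CurveContr

open Groth.L17.BC (fV fV_fromSpec)

variable {R : Type u} [CommRing R] [IsDomain R] [IsDiscreteValuationRing R]
  {X : Over (Spec (CommRingCat.of R))} [IsProper X.hom] [IsIntegral X.left] [Flat X.hom]

theorem fibre_dim_base_le (hdim : topologicalKrullDim X.left = 2) (p : Spec (CommRingCat.of R)) :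
    topologicalKrullDim ↥(X.hom.fiber p) ≤ 1 := by
  rw [IsHomeomorph.topologicalKrullDim_eq _ (X.hom.fiberHomeo p).isHomeomorph]
  rcases eq_closedPoint_or p with rfl | hp
  · refine Groth.L05.GeomMult.dim_le_one_of_proper_closed hdim
      ((IsLocalRing.isClosed_singleton_closedPoint R).preimage X.hom.continuous) fun h => ?_
    exact ne_closedPoint_of_mem (genericPoint_ne_closedPoint X) (h.ge (Set.mem_univ (genericPoint X.left)))
  · rw [← IsHomeomorph.topologicalKrullDim_eq _ (X.hom.fiberHomeo p).isHomeomorph]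
    exact (dim_fiber_genPt X hp).le.trans (dim_genericFibre_le X hdim)

theorem subsingleton_h1_fibre (hdim : topologicalKrullDim X.left = 2) {Y : Over (Spec (CommRingCat.of R))}
    [IsProper Y.hom] (f : X ⟶ Y) [IsProper f.left] (y : Y.left) (hy : IsClosed ({y} : Set Y.left))
    (hsingle : ∀ y', y' ≠ y → (f.left ⁻¹' {y'}).Subsingleton)
    {L : X.left.Modules} (hL : PicF.IsInvertible L) (hL1 : Subsingleton (Coh.HH X.left L 1))
    {M : Y.left.Modules} (hM : PicF.IsInvertible M) (τ : (Scheme.Modules.pullback f.left).obj M ≅ L) (y' : Y.left) :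
    Subsingleton (Coh.HH (f.left.fiber y') (Coh.structureModule (f.left.fiber y')) 1) := by
  haveI : IsLocallyNoetherian X.left := LocallyOfFiniteType.isLocallyNoetherian X.hom
  haveI : IsLocallyNoetherian Y.left := LocallyOfFiniteType.isLocallyNoetherian Y.hom
  by_cases h : y' = y
  · subst h
    -- the closed fibre is a closed subscheme on which `L` is trivial
    haveI : IsClosedImmersion (f.left.fiberι y') := IsClosedImmersion.of_isPreimmersion _ (by
      rw [f.left.range_fiberι]; exact hy.preimage f.left.continuous)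
    obtain ⟨S, hS, e₁, e₂, -, ⟨e₃⟩⟩ :=
      exists_seq_closed (f.left.fiberι y') (Groth.L16.Existence.isFinLocFree_of_isInvertible hL)
    have hsub : Set.range (f.left.fiberι y' ≫ f.left) ⊆ ({y'} : Set Y.left) := by
      rintro _ ⟨c, rfl⟩
      exact f.left.range_fiberι y' |>.le ⟨c, rfl⟩
    obtain ⟨e⟩ := Groth.L13.PairBlow.nonempty_pullback_trivial hsub
      (Groth.L12.FinCov.isFinLocFreeOfRank_one_of_isInvertible hM)
    let eG : (Scheme.Modules.pullback (f.left.fiberι y')).obj L ≅ Coh.structureModule (f.left.fiber y') :=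
      (Scheme.Modules.pullback _).mapIso τ.symm ≪≫
        (Scheme.Modules.pullbackComp (f.left.fiberι y') f.left).app M ≪≫ e
    letI : X.left.Over (Spec (CommRingCat.of R)) := ⟨X.hom⟩
    haveI : IsProper (X.left ↘ Spec (CommRingCat.of R)) := inferInstanceAs (IsProper X.hom)
    have h2 := Groth.L12.GenusZero.rightExact_over (X := X.left) (A := R) (fibre_dim_base_le hdim)
    haveI := hS.epi_g
    haveI : Coh.IsQCoh ((Scheme.Modules.pushforward (f.left.fiberι y')).obj
        ((Scheme.Modules.pullback (f.left.fiberι y')).obj L)) := by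
      haveI : IsLocallyNoetherian (f.left.fiber y') := LocallyOfFiniteType.isLocallyNoetherian (f.left.fiberι y')
      exact (Groth.L16.CohClosedPush.isCoh_push (f.left.fiberι y')
        (Groth.L16.ProperFinite.isCoh_of_isInvertible (Groth.L18.Ample.isInvertible_pullback _ hL))).1
    haveI : Subsingleton (Coh.HH X.left L 1) := hL1
    haveI : Subsingleton (Coh.HH X.left S.X₂ 1) := Groth.L14.LocHilbLift.subsingleton_HH_of_iso e₂.symm 1 hL1
    haveI : Subsingleton (Coh.HH X.left ((Scheme.Modules.pushforward (f.left.fiberι y')).obj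
        ((Scheme.Modules.pullback (f.left.fiberι y')).obj L)) 1) :=
      Groth.L12.GenusZero.subsingleton_of_epi h2 (e₂.inv ≫ S.g ≫ e₃.hom)
        (Groth.L21.Extend.isQCoh_of_isInvertible hL) inferInstance
    refine Groth.L14.LocHilbLift.subsingleton_HH_of_iso eG 1 ?_
    exact (Groth.L16.PushEdge.pushEdge_bijective_of_locAcyclic (f.left.fiberι y') _
      (Groth.L10.TopCoh.locAcyclic_of_isClosedEmbedding (X := (f.left.fiber y').toTopCat) (Y := X.left.toTopCat)
        (f.left.fiberι y').base (f.left.fiberι y').isClosedEmbedding _) 1).2.subsingleton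
  · haveI : Subsingleton ↥(f.left.fiber y') := by
      haveI : Subsingleton ↥(f.left ⁻¹' {y'}) := (Set.subsingleton_coe _).2 (hsingle y' h)
      exact (f.left.fiberHomeo y').injective.subsingleton
    letI : (f.left.fiber y').Over (Spec (CommRingCat.of (Y.left.residueField y'))) := ⟨f.left.fiberToSpecResidueField y'⟩
    haveI : IsProper (f.left.fiber y' ↘ Spec (CommRingCat.of (Y.left.residueField y'))) :=
      MorphismProperty.pullback_snd (P := @IsProper) _ _ inferInstance
    haveI := Groth.L21.RR.isNoetherian_of_proper (X := f.left.fiber y') (Y.left.residueField y')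
    have hd0 : topologicalKrullDim ↥(f.left.fiber y') ≤ ((0 : ℕ) : WithBot ℕ∞) := by
      rw [Nat.cast_zero]
      refine Order.krullDim_nonpos_iff_forall_isMax.2 fun A B hAB => ?_
      obtain ⟨a, ha⟩ := A.isIrreducible.1
      exact fun b _ => (Subsingleton.elim b a) ▸ ha
    exact Groth.L22.Inter.subsingleton_HH_of_dim hd0 _ one_pos

theorem exists_conormal (hdim : topologicalKrullDim X.left = 2) (E : ArSurf.VertComp R X) (hP1 : IsP1 E)
    (hcart : BlowUp.IsEffCartierIdeal E.ι.ker)
    (hdegN : 0 ≤ ArSurf.inter R X (ClSub.idealMod E.ι.ker) E)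
    {Y : Over (Spec (CommRingCat.of R))} [IsProper Y.hom] (f : X ⟶ Y) [IsProper f.left] (y : Y.left)
    (hy : IsClosed ({y} : Set Y.left)) (hfib : f.left ⁻¹' {y} = Set.range E.ι.base)
    (hiso : IsIso (f.left ∣_ (⟨{y}ᶜ, hy.isOpen_compl⟩ : Y.left.Opens)))
    {L : X.left.Modules} (hL : PicF.IsInvertible L) (hL1 : Subsingleton (Coh.HH X.left L 1))
    {M : Y.left.Modules} (hM : PicF.IsInvertible M) (τ : (Scheme.Modules.pullback f.left).obj M ≅ L) :
    ∃ (V : Y.left.Opens) (_ : IsAffineOpen V) (_ : y ∈ V) (l : E.curve.left ⟶ (f.left ⁻¹ᵁ V).toScheme),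
      l ≫ (f.left ⁻¹ᵁ V).ι = E.ι ∧
      Nonempty ((Scheme.Modules.pullback l).obj (ClSub.idealMod l.ker) ≅
        (Scheme.Modules.pullback E.ι).obj (ClSub.idealMod E.ι.ker)) ∧
      Function.Surjective l.appTop ∧
      ∃ ψ : ↥(RingHom.ker l.appTop.hom) →+ Γ((Scheme.Modules.pullback l).obj (ClSub.idealMod l.ker), ⊤),
        Function.Surjective ψ ∧
        (∀ (b : Γ((f.left ⁻¹ᵁ V).toScheme, ⊤)) (x : ↥(RingHom.ker l.appTop.hom)),
          ψ (b • x) = (show Γ(E.curve.left, ⊤) from l.appTop b) • ψ x) ∧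
        ∀ x : ↥(RingHom.ker l.appTop.hom), ψ x = 0 ↔
          (x : Γ((f.left ⁻¹ᵁ V).toScheme, ⊤)) ∈ RingHom.ker l.appTop.hom * RingHom.ker l.appTop.hom := by
  classical
  haveI := E.isClosedImmersion
  haveI := E.isIntegral
  haveI : IsLocallyNoetherian X.left := LocallyOfFiniteType.isLocallyNoetherian X.hom
  haveI : IsLocallyNoetherian Y.left := LocallyOfFiniteType.isLocallyNoetherian Y.hom
  haveI := Groth.L05.InterPair.isProper_curve E
  obtain ⟨e₀, he₀⟩ : ∃ x : X.left, x ∈ Set.range E.ι.base := ⟨_, genericPoint E.curve.left, rfl⟩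
  -- fibres
  have hsingle : ∀ y', y' ≠ y → (f.left ⁻¹' {y'}).Subsingleton := by
    intro y' hy' a ha b hb
    haveI := hiso
    exact Groth.L05.RelMinExists.eq_of_isIso_restrict' f.left (⟨{y}ᶜ, hy.isOpen_compl⟩ : Y.left.Opens)
      (show f.left a ∈ _ from fun h => hy' ((show f.left a = y' from ha) ▸ h))
      ((show f.left a = y' from ha).trans (show f.left b = y' from hb).symm)
  have hdimf : ∀ y', topologicalKrullDim ↥(f.left.fiber y') ≤ 1 := fun y' => by
    rw [IsHomeomorph.topologicalKrullDim_eq _ (f.left.fiberHomeo y').isHomeomorph]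
    by_cases h : y' = y
    · subst h
      rw [hfib, ← IsHomeomorph.topologicalKrullDim_eq _ E.ι.isClosedEmbedding.isEmbedding.toHomeomorph.isHomeomorph]
      exact E.dim_eq.le
    · haveI : Subsingleton ↥(f.left ⁻¹' {y'}) := (Set.subsingleton_coe _).2 (hsingle y' h)
      refine le_trans ?_ zero_le_one
      refine Order.krullDim_nonpos_iff_forall_isMax.2 fun A B hAB => ?_
      obtain ⟨a, ha⟩ := A.isIrreducible.1
      exact fun b _ => (Subsingleton.elim b a) ▸ ha
  have hH1 := subsingleton_h1_fibre hdim f y hy hsingle hL hL1 hM τ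
  obtain ⟨_, ⟨V, hV, rfl⟩, hyV, -⟩ :=
    Y.left.isBasis_affineOpens.exists_subset_of_mem_open (Set.mem_univ y) isOpen_univ
  replace hV : IsAffineOpen V := hV
  haveI : IsNoetherianRing Γ(Y.left, V) := IsLocallyNoetherian.component_noetherian ⟨V, hV⟩
  let U := f.left ⁻¹ᵁ V
  have hEU : Set.range E.ι.base ⊆ Set.range U.ι := by
    rw [Scheme.Opens.range_ι, ← hfib]
    exact fun x hx => show f.left x ∈ V from (show f.left x = y from hx).symm ▸ hyV
  let l : E.curve.left ⟶ U.toScheme := IsOpenImmersion.lift U.ι E.ι hEU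
  have hl : l ≫ U.ι = E.ι := IsOpenImmersion.lift_fac _ _ _
  haveI : IsClosedImmersion (l ≫ U.ι) := hl.symm ▸ E.isClosedImmersion
  haveI : IsClosedImmersion l := IsClosedImmersion.of_comp l U.ι
  have hpb : IsPullback l (𝟙 E.curve.left) U.ι E.ι :=
    IsPullback.of_iso_pullback ⟨by rw [hl, Category.id_comp]⟩
      { hom := pullback.lift l (𝟙 _) (by rw [hl, Category.id_comp])
        inv := pullback.snd U.ι E.ι
        hom_inv_id := pullback.lift_snd _ _ _
        inv_hom_id := by
          apply pullback.hom_ext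
          · rw [Category.assoc, pullback.lift_fst, Category.id_comp, ← cancel_mono U.ι, Category.assoc, hl]
            exact pullback.condition.symm
          · rw [Category.assoc, pullback.lift_snd, Category.comp_id, Category.id_comp] }
      (pullback.lift_fst _ _ _) (pullback.lift_snd _ _ _)
  obtain ⟨ρ⟩ := Groth.L13.PairBlow.nonempty_restrict_idealMod U.ι E.ι.ker
  rw [← Groth.L17.Thick.ker_of_isPullback hpb] at ρ
  let ρ' : (Scheme.Modules.pullback U.ι).obj (ClSub.idealMod E.ι.ker) ≅ ClSub.idealMod l.ker :=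
    ((Scheme.Modules.restrictFunctorIsoPullback U.ι).app _).symm ≪≫ ρ
  let ρE : (Scheme.Modules.pullback l).obj (ClSub.idealMod l.ker) ≅
      (Scheme.Modules.pullback E.ι).obj (ClSub.idealMod E.ι.ker) :=
    (Scheme.Modules.pullback l).mapIso ρ'.symm ≪≫ (Scheme.Modules.pullbackComp l U.ι).app _ ≪≫
      (Scheme.Modules.pullbackCongr hl).app _
  have hIi := (Groth.Agent.L19.IdealInvertible.isEffCartier_iff _).2 hcart
  have hN : PicF.IsInvertible (ClSub.idealMod l.ker) :=
    Groth.L18.Ample.isInvertible_of_iso ρ' (Groth.L18.Ample.isInvertible_pullback U.ι hIi)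
  -- a section on the curve
  have hNE := Groth.L18.Ample.isInvertible_pullback l hN
  have hggE : Curv2.IsGloballyGenerated ((Scheme.Modules.pullback l).obj (ClSub.idealMod l.ker)) :=
    Groth.L18.Ample.isGloballyGenerated_of_iso ρE.symm
      (subsingleton_h1_of_nonneg E hP1 (Groth.L18.Ample.isInvertible_pullback E.ι hIi) hdegN).2
  obtain ⟨σ, hσ⟩ := Groth.L18.Ample.exists_genLocus_mem_of_gg hNE hggE (genericPoint E.curve.left)
  have hσ0 : σ ≠ 0 := by
    rintro rfl
    have hsurj := (Groth.L21.RR.mem_genLocus_iff hNE _ _).1 hσ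
    obtain ⟨e, he⟩ := Groth.L21.RR.exists_frame_stalk hNE (genericPoint E.curve.left)
    obtain ⟨r, hr⟩ := hsurj e
    have he0 : e = 0 := by rw [← hr, Groth.L21.RR.st, Functor.map_zero]; rfl
    exact one_ne_zero (α := E.curve.left.presheaf.stalk (genericPoint E.curve.left)) (he.1 (by simp [he0]))
  letI : U.toScheme.Over (Spec (CommRingCat.of Γ(Y.left, V))) := ⟨fV f.left hV⟩
  haveI : IsProper (U.toScheme ↘ Spec (CommRingCat.of Γ(Y.left, V))) := Groth.L12.GenusZero.isProper_fV f.left hV
  haveI : Nonempty U.toScheme := ⟨l (genericPoint E.curve.left)⟩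
  haveI : IsIntegral U.toScheme := isIntegral_of_isOpenImmersion U.ι
  haveI : CompactSpace U.toScheme :=
    QuasiCompact.compactSpace_of_compactSpace (U.toScheme ↘ Spec (CommRingCat.of Γ(Y.left, V)))
  have hd : ∀ p, topologicalKrullDim ↥((U.toScheme ↘ Spec (CommRingCat.of Γ(Y.left, V))).fiber p) ≤ 1 :=
    Groth.L12.GenusZero.fiber_dim_fV f.left hV fun y' _ => hdimf y'
  have hO1 : Subsingleton (Coh.HH U.toScheme (Coh.structureModule U.toScheme) 1) :=
    Groth.L12.GenusZero.subsingleton_h1_over f.left hV (fun y' _ => hdimf y') fun y' _ => hH1 y'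
  have hstr : ∀ x : U.toScheme, hV.fromSpec ((fV f.left hV) x) = f.left (U.ι x) := fun x => by
    rw [← Scheme.Hom.comp_apply, fV_fromSpec]; rfl
  have hnef : Groth.L12.GenusZero.NefOver Γ(Y.left, V) (ClSub.idealMod l.ker) := by
    refine nefOver_of_contracted l E.dim_eq hN σ hσ0 (hV.primeIdealOf ⟨y, hyV⟩) (fun p hp a ha b hb => ?_)
      fun x hx => ?_
    · refine U.ι.isOpenEmbedding.injective (hsingle (hV.fromSpec p) (fun h => hp ?_) ?_ ?_)
      · exact hV.fromSpec.isOpenEmbedding.injective (h.trans (hV.fromSpec_primeIdealOf ⟨y, hyV⟩).symm)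
      · exact (hstr a).symm.trans (congrArg hV.fromSpec ha)
      · exact (hstr b).symm.trans (congrArg hV.fromSpec hb)
    · obtain ⟨c, hc⟩ : U.ι x ∈ Set.range E.ι.base := by
        rw [← hfib]
        exact ((hstr x).symm.trans (congrArg hV.fromSpec hx)).trans (hV.fromSpec_primeIdealOf ⟨y, hyV⟩)
      exact ⟨c, U.ι.isOpenEmbedding.injective (by rw [← Scheme.Hom.comp_apply, hl]; exact hc)⟩
  have h1 := Groth.L12.GenusZero.subsingleton_h1 hd hO1 hN hnef
  have hgg := Groth.L12.GenusZero.isGloballyGenerated_of_nef hd hO1 hN hnef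
  have h2 := Groth.L12.GenusZero.rightExact_over hd
  obtain ⟨r, φ, hφ⟩ := Groth.L12.GenusZero.exists_fin_generators hN fun z => by
    obtain ⟨s, hs⟩ := Groth.L18.Ample.exists_genLocus_mem_of_gg hN hgg z
    exact ⟨s, (Groth.L21.RR.mem_genLocus_iff hN s z).1 hs⟩
  have h11 := Groth.L12.GenusZero.subsingleton_h1_tensor_gen h2 hN φ hφ hN h1
  obtain ⟨hsurj, hψ⟩ := exists_cotangent l h2 hN hgg hO1 h1 h11
  exact ⟨V, hV, hyV, l, hl, ⟨ρE⟩, hsurj, hψ⟩

end Groth.L13.CurveContr
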