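import Groth.Agent.L13.CurveContr.Twist
import Groth.Agent.L13.CurveContr.Ample
import Groth.Agent.L05.InterPair.Negative
import Groth.Agent.L03.BlowPt.PullDiv
import Groth.Agent.L16.Existence.AmpleVanish
import Groth.Agent.L22.VeryAmple.Sections
import Groth.Agent.L05.RelMinExists.Main

/-!
# A globally generated module trivial exactly on a projective line of negative self-intersection
-/

set_option autoImplicit false
set_option backward.isDefEq.respectTransparency false
set_option linter.style.haveILetI false
set_option linter.unusedSectionVars false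
universe u

open CategoryTheory CategoryTheory.Limits AlgebraicGeometry TopologicalSpace

noncomputable section

namespace Groth.L13.CurveContr

open Groth.L05.InterPair
open Groth.L00.Tensor (tensorIso tensorComm tensorUnitRight)

variable {R : Type u} [CommRing R] [IsDomain R] [IsDiscreteValuationRing R]

theorem exists_ample {X : Over (Spec (CommRingCat.of R))} (hproj : Neron.IsProjectiveOver R X) :
    ∃ A : X.left.Modules, CohB1.IsAmple A := by
  haveI := Groth.L05.RelMinExists.isProper_of_projective hproj
  obtain ⟨n, i, hi, hiX⟩ := hproj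
  haveI := hi
  exact ⟨_, Groth.L22.VeryAmple.isAmple_of_isRelVeryAmplePn (q := X.hom)
    (M := (Scheme.Modules.pullback i).obj (Twist.twistOver n _ 1)) ⟨n, i, inferInstance, hiX, ⟨Iso.refl _⟩⟩⟩

section Degree

variable (k : Type u) [Field k] {Z X : Scheme.{u}} [Z.Over (Spec (CommRingCat.of k))]
  [IsProper (Z ↘ Spec (CommRingCat.of k))] (hd : topologicalKrullDim Z = 1) (j : Z ⟶ X)

include hd in
theorem curveDeg_pullback_tensor {A B : X.Modules} (hA : PicF.IsInvertible A) (hB : PicF.IsInvertible B) :
    ArSurf.curveDeg k Z ((Scheme.Modules.pullback j).obj (CohB1.tensorMod A B)) =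
      ArSurf.curveDeg k Z ((Scheme.Modules.pullback j).obj A) +
        ArSurf.curveDeg k Z ((Scheme.Modules.pullback j).obj B) := by
  rw [curveDeg_congr k hd (Groth.L29.DC.PullTensor.pullTensor j A B).symm]
  exact curveDeg_tensor k hd (Groth.L18.Ample.isInvertible_pullback j hA)
    (Groth.L18.Ample.isInvertible_pullback j hB)

include hd in
theorem curveDeg_pullback_tensorPow {A : X.Modules} (hA : PicF.IsInvertible A) (n : ℕ) :
    ArSurf.curveDeg k Z ((Scheme.Modules.pullback j).obj (CohB1.tensorPow A n)) =
      n * ArSurf.curveDeg k Z ((Scheme.Modules.pullback j).obj A) := by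
  induction n with
  | zero =>
    rw [Nat.cast_zero, zero_mul]
    exact (curveDeg_congr k hd (Groth.L29.LocFree.pullbackUnitIso j)).trans (curveDeg_unit k hd)
  | succ n ih =>
    rw [show CohB1.tensorPow A (n + 1) = CohB1.tensorMod (CohB1.tensorPow A n) A from rfl,
      curveDeg_pullback_tensor k hd j (Groth.L18.Ample.isInvertible_tensorPow hA n) hA, ih]
    push_cast
    ring

include hd in
theorem curveDeg_pullback_inverse_nonneg [IsIntegral Z] [IsIntegral X] {C : X.IdealSheafData}
    (hC : BlowUp.IsEffCartierIdeal C) (hη : j (genericPoint Z) ∉ C.support) {L : X.Modules}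
    (hL : ClSub.IsInverseOf L (ClSub.idealMod C)) :
    0 ≤ ArSurf.curveDeg k Z ((Scheme.Modules.pullback j).obj L) := by
  obtain ⟨hC', ⟨α⟩⟩ := Groth.L03.BlowPt.nonempty_pullback_idealMod j hC hη
  obtain ⟨e⟩ := hL
  rw [curveDeg_inverse_idealMod k hd hC' ⟨tensorIso (Iso.refl _) α.symm ≪≫
    Groth.L29.DC.PullTensor.pullTensor j L (ClSub.idealMod C) ≪≫
    (Scheme.Modules.pullback j).mapIso e ≪≫ Groth.L29.LocFree.pullbackUnitIso j⟩]
  exact Int.natCast_nonneg _

end Degree

variable {X : Over (Spec (CommRingCat.of R))} (hX : ArSurf.IsArithSurface R X) (E : ArSurf.VertComp R X)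
  (hP1 : IsP1 E) {LE : X.left.Modules} (hLE : ClSub.IsInverseOf LE (ClSub.idealMod E.ι.ker))
  (hneg : ArSurf.inter R X LE E < 0)

include hX hP1 hLE hneg in
theorem exists_contracting_module :
    ∃ L : X.left.Modules, PicF.IsInvertible L ∧ Subsingleton (Coh.HH X.left L 1) ∧
      Curv2.IsGloballyGenerated L ∧
      0 < ArSurf.curveDeg (FractionRing R) ((Neron.genericFibre R).obj X).left
        ((Scheme.Modules.pullback (pullback.fst X.hom (Neron.genPt R))).obj L) ∧
      ∀ E' : ArSurf.VertComp R X,
        Nonempty ((Scheme.Modules.pullback E'.ι).obj L ≅ Coh.structureModule E'.curve.left) ↔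
          ∃ _i : Fin 1, Set.range (E'.ι.base : E'.curve.left → X.left) = Set.range E.ι.base := by
  haveI : IsProper X.hom := Groth.L05.RelMinExists.isProper_of_projective hX.2.2.2.2
  haveI : IsLocallyNoetherian X.left := LocallyOfFiniteType.isLocallyNoetherian X.hom
  haveI := hX.2.1
  haveI := hX.2.2.2.1
  have hdim := hX.2.2.1
  have hcart := isEffCartier_of_surface hX.1 hdim E
  have hLEi := isInvertible_of_cartier hcart hLE
  obtain ⟨A, hA⟩ := exists_ample hX.2.2.2.2
  letI : X.left.Over (Spec (CommRingCat.of R)) := ⟨X.hom⟩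
  haveI : IsProper (X.left ↘ Spec (CommRingCat.of R)) := inferInstanceAs (IsProper X.hom)
  obtain ⟨d₀, hd₀⟩ := Groth.L16.Existence.exists_vanishing_of_isAmple (A := R) hA
    (Groth.L16.ProperFinite.isCoh_of_isInvertible (Groth.L18.Ample.isInvertible_structureModule X.left))
  obtain ⟨n₁, hn₁⟩ := Groth.L22.VeryAmple.exists_gg_powers hA
  let D := (-ArSurf.inter R X LE E).toNat
  have hD : (D : ℤ) = -ArSurf.inter R X LE E := Int.toNat_of_nonneg (by omega)
  have hDpos : 0 < D := by omega
  let t := d₀ + n₁ + 1
  let N := D * t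
  have hN : d₀ ≤ N ∧ n₁ ≤ N := by
    have : t ≤ N := Nat.le_mul_of_pos_left t hDpos
    omega
  let LH := CohB1.tensorPow A N
  have hLHi : PicF.IsInvertible LH := Groth.L18.Ample.isInvertible_tensorPow hA.1 N
  have h1 : Subsingleton (Coh.HH X.left LH 1) :=
    Groth.L14.LocHilbLift.subsingleton_HH_of_iso (tensorUnitRight LH) 1 (hd₀ N hN.1 1 one_pos)
  have hgg : Curv2.IsGloballyGenerated LH := by
    obtain ⟨σ, _, u, hu⟩ := hn₁ N hN.2
    refine Groth.L21.RR.isGloballyGenerated_of_sections fun x => ?_
    obtain ⟨m, hm⟩ := hu x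
    exact ⟨u m, (Groth.L21.RR.mem_genLocus_iff hLHi (u m) x).1 hm⟩
  have hAE := inter_pos_of_ample X E hA
  let r := t * (ArSurf.inter R X A E).toNat
  have hr : ArSurf.inter R X LH E + (r : ℤ) * ArSurf.inter R X LE E = 0 := by
    rw [inter_tensorPow E hA.1]
    simp only [N, r, Nat.cast_mul, Int.toNat_of_nonneg hAE.le, hD]
    ring
  obtain ⟨htrivE, hggL⟩ := isGloballyGenerated_twist E hcart hLE hP1 hneg.le hLHi h1 hgg r hr
  refine ⟨_, isInvertible_twist E hcart hLE hLHi r,
    subsingleton_h1_twist E hcart hLE hP1 hneg.le hLHi h1 r hr.ge, hggL, ?_, fun E' => ?_⟩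
  · let Z := ((Neron.genericFibre R).obj X).left
    let j : Z ⟶ X.left := pullback.fst X.hom (Neron.genPt R)
    haveI : IsIntegral Z := isIntegral_genericFibre X
    haveI : IsProper (Z ↘ Spec (CommRingCat.of (FractionRing R))) :=
      MorphismProperty.pullback_snd (P := @IsProper) X.hom (Neron.genPt R) inferInstance
    have hd : topologicalKrullDim Z = 1 := dim_genericFibre X hdim E
    have hη : j (genericPoint Z) ∉ E.ι.ker.support := by
      intro hmem
      haveI := E.isClosedImmersion
      obtain ⟨c, hc⟩ : j (genericPoint Z) ∈ Set.range E.ι := by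
        rw [← E.ι.isClosedEmbedding.isClosed_range.closure_eq, ← Scheme.Hom.support_ker]
        exact hmem
      have h2 : X.hom (j (genericPoint Z)) ∈ Set.range (Neron.genPt R) := by
        show j (genericPoint Z) ∈ X.hom ⁻¹' Set.range (Neron.genPt R)
        rw [← Scheme.Pullback.range_fst]
        exact ⟨_, rfl⟩
      refine ne_closedPoint_of_mem h2 ?_
      rw [← hc, ← Scheme.Hom.comp_apply, E.w, Scheme.Hom.comp_apply]
      refine PrimeSpectrum.ext ?_
      generalize E.curve.hom c = q
      show Ideal.comap (IsLocalRing.residue R) q.asIdeal = IsLocalRing.maximalIdeal R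
      rw [(Ideal.eq_bot_or_top q.asIdeal).resolve_right q.2.ne_top]
      exact Ideal.mk_ker
    have h0 := curveDeg_pullback_inverse_nonneg (FractionRing R) hd j hcart hη hLE
    show 0 < ArSurf.curveDeg (FractionRing R) Z ((Scheme.Modules.pullback j).obj _)
    rw [curveDeg_pullback_tensor (FractionRing R) hd j hLHi (Groth.L18.Ample.isInvertible_tensorPow hLEi r),
      curveDeg_pullback_tensorPow (FractionRing R) hd j hA.1,
      curveDeg_pullback_tensorPow (FractionRing R) hd j hLEi]
    have hAK : 0 < ArSurf.curveDeg (FractionRing R) Z ((Scheme.Modules.pullback j).obj A) :=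
      curveDeg_generic_pos X hdim E hA
    have hNpos : (0 : ℤ) < N := by exact_mod_cast Nat.mul_pos hDpos (Nat.succ_pos _)
    positivity
  · constructor
    · rintro ⟨s⟩
      refine ⟨0, ?_⟩
      haveI := E.isClosedImmersion
      haveI := E'.isClosedImmersion
      by_contra hne
      have hη : Models.genPtOf R X E' ∉ (E.ι.ker.support : Set X.left) := fun h => hne (by
        have hk := eq_of_mem_support hX.1 hdim h
        have h' := congrArg (fun I : X.left.IdealSheafData => (I.support : Set X.left)) hk
        simp only [Scheme.Hom.support_ker] at h'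
        rwa [E'.ι.isClosedEmbedding.isClosed_range.closure_eq,
          E.ι.isClosedEmbedding.isClosed_range.closure_eq] at h')
      have h0 : ArSurf.inter R X (CohB1.tensorMod LH (CohB1.tensorPow LE r)) E' = 0 := by
        haveI := isProper_curve E'
        rw [ArSurf.inter, curveDeg_congr _ E'.dim_eq s]
        exact curveDeg_unit _ E'.dim_eq
      rw [inter_tensor E' hLHi (Groth.L18.Ample.isInvertible_tensorPow hLEi r), inter_tensorPow E' hA.1,
        inter_tensorPow E' hLEi, inter_eq_finrank E' hcart hη hLE] at h0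
      have hA' := inter_pos_of_ample X E' hA
      have hNpos : (0 : ℤ) < N := by exact_mod_cast Nat.mul_pos hDpos (Nat.succ_pos _)
      have hp : 0 < (N : ℤ) * ArSurf.inter R X A E' := mul_pos hNpos hA'
      have hq : (0 : ℤ) ≤ (r : ℤ) * (Module.finrank (IsLocalRing.ResidueField R)
        (Coh.HH E'.curve.left (ClSub.quotMod (E.ι.ker.comap E'.ι)) 0) : ℤ) := by positivity
      linarith
    · rintro ⟨-, hr'⟩
      obtain ⟨s⟩ := htrivE
      haveI := E.isClosedImmersion
      haveI := E'.isClosedImmersion
      have hk : E'.ι.ker = E.ι.ker := eq_of_mem_support hX.1 hdim (by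
        rw [Scheme.Hom.support_ker]
        exact subset_closure (hr'.le ⟨genericPoint E'.curve.left, rfl⟩))
      let θ := IsClosedImmersion.lift E.ι E'.ι hk.ge
      have hθ : θ ≫ E.ι = E'.ι := IsClosedImmersion.lift_fac _ _ _
      exact ⟨(Scheme.Modules.pullbackCongr hθ.symm).app _ ≪≫ ((Scheme.Modules.pullbackComp θ E.ι).app _).symm ≪≫
        (Scheme.Modules.pullback θ).mapIso s ≪≫ Groth.L29.LocFree.pullbackUnitIso θ⟩

end Groth.L13.CurveContr
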