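import Groth.Agent.L13.CurveContr.Main
import Groth.Agent.L13.CurveContr.Setup
import Groth.Agent.L13.CurveContr.Fibre
import Groth.Agent.L13.CurveContr.Dim

/-!
# Contraction of a projective line of negative self-intersection
-/

set_option autoImplicit false
set_option backward.isDefEq.respectTransparency false
set_option linter.style.haveILetI false
set_option linter.unusedSectionVars false
universe u

open CategoryTheory CategoryTheory.Limits AlgebraicGeometry TopologicalSpace

noncomputable section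

namespace Groth.L13.CurveContr

open Groth.L05.InterPair
open Groth.L17.BC (fV fV_fromSpec)
open Groth.L00.Tensor (tensorComm)

variable {R : Type u} [CommRing R] [IsDomain R] [IsDiscreteValuationRing R]
  (X : Over (Spec (CommRingCat.of R))) (hX : ArSurf.IsArithSurface R X) (E : ArSurf.VertComp R X)
  (k' : Type u) [Field k'] [Algebra (IsLocalRing.ResidueField R) k']
  [FiniteDimensional (IsLocalRing.ResidueField R) k']
  (e : E.curve.left ≅ CohB1.ProjSpace 1 k')
  (he : e.hom ≫ CohB1.ProjSpace.toSpec 1 k' ≫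
    Spec.map (CommRingCat.ofHom (algebraMap (IsLocalRing.ResidueField R) k')) = E.curve.hom)
  (LE : X.left.Modules) (hLE : ClSub.IsInverseOf LE (ClSub.idealMod E.ι.ker))
  (d : ℕ) (hd : 1 ≤ d)
  (hself : ArSurf.inter R X LE E = -((d : ℤ) * (Module.finrank (IsLocalRing.ResidueField R) k' : ℤ)))

set_option maxHeartbeats 1000000 in
include hX he hLE hd hself in
theorem exists_projLine_contraction :
    ∃ (Y : Over (Spec (CommRingCat.of R))) (f : X ⟶ Y) (y : Y.left) (hy : IsClosed ({y} : Set Y.left)),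
      IsIntegral Y.left ∧ (∀ q : Y.left, IsIntegrallyClosed (Y.left.presheaf.stalk q)) ∧
      topologicalKrullDim Y.left = 2 ∧ Flat Y.hom ∧ Neron.IsProjectiveOver R Y ∧ IsProper f.left ∧
      Set.range ((E.ι ≫ f.left).base : E.curve.left → Y.left) = {y} ∧
      (f.left ⁻¹ᵁ (⟨{y}ᶜ, hy.isOpen_compl⟩ : Y.left.Opens) : Set X.left) = (Set.range E.ι.base)ᶜ ∧
      IsIso (f.left ∣_ (⟨{y}ᶜ, hy.isOpen_compl⟩ : Y.left.Opens)) ∧
      Module.finrank (IsLocalRing.ResidueField (Y.left.presheaf.stalk y))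
        (IsLocalRing.CotangentSpace (Y.left.presheaf.stalk y)) = d + 1 := by
  classical
  haveI : IsProper X.hom := Groth.L05.RelMinExists.isProper_of_projective hX.2.2.2.2
  haveI : IsLocallyNoetherian X.left := LocallyOfFiniteType.isLocallyNoetherian X.hom
  haveI := hX.2.1
  haveI := hX.2.2.2.1
  haveI := E.isClosedImmersion
  haveI := E.isIntegral
  have hP1 : IsP1 E := ⟨k', inferInstance, ⟨e⟩⟩
  set c := Module.finrank (IsLocalRing.ResidueField R) k' with hc
  have hcpos : 0 < c := Module.finrank_pos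
  have hneg : ArSurf.inter R X LE E < 0 := by
    rw [hself]
    have : (0 : ℤ) < (d : ℤ) * (c : ℤ) := by positivity
    linarith
  have hdim := hX.2.2.1
  have hcart := isEffCartier_of_surface hX.1 hdim E
  have hIi := (Groth.Agent.L19.IdealInvertible.isEffCartier_iff _).2 hcart
  have hdegN : ArSurf.inter R X (ClSub.idealMod E.ι.ker) E = (d : ℤ) * (c : ℤ) := by
    have h := inter_tensor E (isInvertible_of_cartier hcart hLE) hIi
    rw [inter_congr E hLE.some, inter_unit E, hself] at h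
    linarith
  obtain ⟨L, hLi, hL1, hLgg, hdeg, htriv⟩ := exists_contracting_module hX E hP1 hLE hneg
  obtain ⟨Y, f, M, hYi, hYn, hYd, hYf, hYp, hfp, hO, hMa, ⟨τ⟩, himg, hpre, hiso⟩ :=
    exists_contraction X (fun x => haveI := hX.1 x; Groth.L03.RegularNormal.isIntegrallyClosed _) hdim
      (fun _ : Fin 1 => E) hLi hLgg hdeg htriv
  obtain ⟨y, hy, hEy⟩ := himg 0
  haveI := hYi
  haveI := hfp
  haveI : IsProper Y.hom := Groth.L05.RelMinExists.isProper_of_projective hYp
  haveI : IsLocallyNoetherian Y.left := LocallyOfFiniteType.isLocallyNoetherian Y.hom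
  simp only [Set.iUnion_const] at hpre hiso
  have himage : f.left.base '' Set.range E.ι.base = {y} := by
    rw [← hEy, ← Set.range_comp]
    rfl
  rw [himage] at hpre hiso
  haveI hiso' : IsIso (f.left ∣_ (⟨{y}ᶜ, hy.isOpen_compl⟩ : Y.left.Opens)) :=
    hiso _ (Set.compl_inter_self {y})
  refine ⟨Y, f, y, hy, hYi, hYn, hYd, hYf, hYp, hfp, hEy, ?_, hiso', ?_⟩
  · show f.left.base ⁻¹' ({y}ᶜ) = _
    rw [Set.preimage_compl]
    exact congrArg compl hpre
  -- the cotangent space
  obtain ⟨V, hV, hyV, l, hl, ⟨ρE⟩, hsurj, ψ, hψs, hψlin, hψker⟩ := exists_conormal hdim E hP1 hcart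
    (by rw [hdegN]; positivity) f y hy hpre hiso' hLi hL1 hMa.1 τ
  obtain ⟨hF, hcF⟩ := finrank_constants E e he
  let κE := Γ(E.curve.left, ⊤)
  letI := hF.toField
  letI : Algebra (IsLocalRing.ResidueField R) Γ(E.curve.left, ⊤) := (Coh.toGlobal E.curve.hom).toAlgebra
  let N := (Scheme.Modules.pullback l).obj (ClSub.idealMod l.ker)
  haveI : IsProper (E.curve.left ↘ Spec (CommRingCat.of (IsLocalRing.ResidueField R))) := isProper_curve E
  have hdegl : ArSurf.curveDeg (IsLocalRing.ResidueField R) E.curve.left N = (d : ℤ) * (c : ℤ) := by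
    rw [curveDeg_congr _ E.dim_eq ρE]
    exact hdegN
  have hNi : PicF.IsInvertible N :=
    Groth.L18.Ample.isInvertible_of_iso ρE.symm (Groth.L18.Ample.isInvertible_pullback E.ι hIi)
  have hdimG : Module.finrank Γ(E.curve.left, ⊤) Γ(N, ⊤) = d + 1 := by
    have h := finrank_sections_mul E hP1 hNi (by rw [hdegl]; positivity) hF
    rw [hdegl, hcF, ← hc] at h
    have h' : (c : ℤ) * (Module.finrank Γ(E.curve.left, ⊤) Γ(N, ⊤) : ℤ) = (c : ℤ) * ((d : ℤ) + 1) := by
      push_cast at h ⊢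
      linarith
    exact_mod_cast mul_left_cancel₀ (by positivity : (c : ℤ) ≠ 0) h'
  -- functions on the base
  let U := f.left ⁻¹ᵁ V
  let φ : Γ(Y.left, V) →+* Γ(U.toScheme, ⊤) := Coh.toGlobal (A := Γ(Y.left, V)) (fV f.left hV)
  have hφ : Function.Bijective φ := by
    haveI := hO V
    have hb := ConcreteCategory.bijective_of_isIso (f.left.app V)
    refine ⟨fun a b hab => hb.1 ?_, Groth.L12.GenusZero.surjective_toGlobal_fV f.left hV hb.2⟩
    have he' : ((f.left ⁻¹ᵁ V).ι ''ᵁ ⊤) = f.left ⁻¹ᵁ V := by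
      rw [Scheme.Hom.image_top_eq_opensRange, Scheme.Opens.opensRange_ι]
    exact (ConcreteCategory.bijective_of_isIso (X.left.presheaf.map (eqToHom he').op)).1
      (((Groth.L12.GenusZero.toGlobal_fV f.left hV a).symm.trans hab).trans
        (Groth.L12.GenusZero.toGlobal_fV f.left hV b))
  let ρ : Γ(Y.left, V) →+* Γ(E.curve.left, ⊤) := l.appTop.hom.comp φ
  have hρ : Function.Surjective ρ := hsurj.comp hφ.2
  let p : Ideal Γ(Y.left, V) := RingHom.ker ρ
  haveI : p.IsMaximal := RingHom.ker_isMaximal_of_surjective ρ hρ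
  have hp : p = (hV.primeIdealOf ⟨y, hyV⟩).asIdeal := by
    refine Ideal.IsMaximal.eq_of_le inferInstance (hV.primeIdealOf ⟨y, hyV⟩).2.ne_top fun a ha => ?_
    let η := genericPoint E.curve.left
    have hz : (l ≫ fV f.left hV) η = hV.primeIdealOf ⟨y, hyV⟩ := by
      refine hV.fromSpec.isOpenEmbedding.injective ?_
      rw [← Scheme.Hom.comp_apply, Category.assoc, fV_fromSpec, ← Category.assoc, hl,
        hV.fromSpec_primeIdealOf ⟨y, hyV⟩]
      exact hEy.le ⟨η, rfl⟩
    by_contra hna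
    have hmem : η ∈ (l ≫ fV f.left hV) ⁻¹ᵁ (PrimeSpectrum.basicOpen a : (Spec Γ(Y.left, V)).Opens) := by
      show (l ≫ fV f.left hV) η ∈ PrimeSpectrum.basicOpen a
      rw [hz]
      exact hna
    rw [← AlgebraicGeometry.basicOpen_eq_of_affine, Scheme.preimage_basicOpen_top] at hmem
    have h0 : (l ≫ fV f.left hV).appTop ((Scheme.ΓSpecIso Γ(Y.left, V)).inv a) = 0 := ha
    rw [h0, Scheme.basicOpen_zero] at hmem
    exact hmem
  letI := Y.left.presheaf.algebra_section_stalk (⟨y, hyV⟩ : V)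
  haveI : IsLocalization.AtPrime (Y.left.presheaf.stalk y) p := by
    rw [show IsLocalization.AtPrime (Y.left.presheaf.stalk y) p =
      IsLocalization (hV.primeIdealOf ⟨y, hyV⟩).asIdeal.primeCompl (Y.left.presheaf.stalk y) by simp only [hp]]
    exact hV.isLocalization_stalk ⟨y, hyV⟩
  have hmemφ : ∀ a, a ∈ p ↔ φ a ∈ RingHom.ker l.appTop.hom := fun a => Iff.rfl
  let ψ' : ↥p →+ Γ(N, ⊤) := AddMonoidHom.mk' (fun x => ψ ⟨φ x, (hmemφ _).1 x.2⟩) fun x y => by
    rw [← map_add]
    exact congrArg ψ (Subtype.ext (map_add φ _ _))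
  have hψ's : Function.Surjective ψ' := fun v => by
    obtain ⟨⟨b, hb⟩, rfl⟩ := hψs v
    obtain ⟨a, rfl⟩ := hφ.2 b
    exact ⟨⟨a, (hmemφ a).2 hb⟩, rfl⟩
  rw [← hdimG]
  refine finrank_cotangent_of_semilinear p ρ hρ rfl ψ' hψ's (fun a x => ?_) fun x => ?_
  · refine Eq.trans ?_ (hψlin (φ a) ⟨φ x, (hmemφ _).1 x.2⟩)
    exact congrArg ψ (Subtype.ext (map_mul φ a x))
  · refine (hψker _).trans ?_
    have hmap : Ideal.map φ p = RingHom.ker l.appTop.hom := by
      rw [show p = Ideal.comap φ (RingHom.ker l.appTop.hom) from rfl, Ideal.map_comap_of_surjective φ hφ.2]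
    show φ x ∈ RingHom.ker l.appTop.hom * RingHom.ker l.appTop.hom ↔ _
    rw [← hmap, ← Ideal.map_mul]
    refine ⟨fun h => ?_, fun h => Ideal.mem_map_of_mem _ h⟩
    obtain ⟨z, hz, hzx⟩ := (Ideal.mem_map_iff_of_surjective φ hφ.2).1 h
    exact hφ.1 hzx ▸ hz

end Groth.L13.CurveContr
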