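import Groth.Agent.L13.CurveContr.HenselContract
import Groth.Agent.L13.RatSing.Birat
import Groth.Agent.L16.Connected.Fibre
import Groth.Agent.L05.InterPair.Form
import Groth.Agent.L05.InterPair.Negative
import Groth.Agent.L05.InterPair.ClassApps

/-!
# Negative definiteness of exceptional configurations
-/

set_option autoImplicit false
set_option backward.isDefEq.respectTransparency false
set_option linter.style.haveILetI false
set_option linter.unusedSectionVars false
universe u

open CategoryTheory CategoryTheory.Limits AlgebraicGeometry TopologicalSpace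

noncomputable section

namespace Groth.L13.CurveContr

open Groth.L05.InterPair Groth.L05.FibreDecomp
open Groth.L00.Tensor (tensorIso tensorAssoc tensorComm tensorUnitRight tensorUnitLeft)

/-- A semi-definite Laplacian is definite on a set of indices every subset of which has an exit. -/
theorem quad_neg {ι : Type*} [Fintype ι] [DecidableEq ι] (A : ι → ι → ℝ) (m : ι → ℝ)
    (hsymm : ∀ i j, A i j = A j i) (hoff : ∀ i j, i ≠ j → 0 ≤ A i j) (hm : ∀ i, 0 < m i)
    (hAm : ∀ i, ∑ j, A i j * m j = 0) (T : Finset ι)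
    (hexit : ∀ B ⊆ T, B.Nonempty → ∃ i ∈ B, ∃ j ∉ B, A i j ≠ 0)
    (x : ι → ℝ) (hxT : ∀ i ∉ T, x i = 0) (hx : x ≠ 0) :
    ∑ i, ∑ j, x i * x j * A i j < 0 := by
  let y : ι → ℝ := fun i => x i / m i
  have hxy : ∀ i, x i = y i * m i := fun i => (div_mul_cancel₀ (x i) (hm i).ne').symm
  let F : ι → ι → ℝ := fun i j => A i j * m i * m j * (y i - y j) ^ 2
  have hF : ∀ i j, 0 ≤ F i j := fun i j => by
    rcases eq_or_ne i j with rfl | hij
    · simp [F]
    · exact mul_nonneg (mul_nonneg (mul_nonneg (hoff i j hij) (hm i).le) (hm j).le) (sq_nonneg _)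
  have h1 : ∑ i, ∑ j, A i j * m i * m j * y i ^ 2 = 0 :=
    Finset.sum_eq_zero fun i _ => by
      calc ∑ j, A i j * m i * m j * y i ^ 2 = m i * y i ^ 2 * ∑ j, A i j * m j := by
            rw [Finset.mul_sum]; exact Finset.sum_congr rfl fun j _ => by ring
        _ = 0 := by rw [hAm i, mul_zero]
  have h2 : ∑ i, ∑ j, A i j * m i * m j * y j ^ 2 = 0 := by
    rw [Finset.sum_comm]
    refine Eq.trans (Finset.sum_congr rfl fun i _ => Finset.sum_congr rfl fun j _ => ?_) h1
    rw [hsymm j i]; ring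
  have hsum : ∑ i, ∑ j, F i j = -2 * ∑ i, ∑ j, x i * x j * A i j := by
    calc ∑ i, ∑ j, F i j = ∑ i, ∑ j, (A i j * m i * m j * y i ^ 2 + A i j * m i * m j * y j ^ 2 +
          (-2) * (x i * x j * A i j)) := by
          refine Finset.sum_congr rfl fun i _ => Finset.sum_congr rfl fun j _ => ?_
          simp only [F, hxy i, hxy j]; ring
      _ = _ := by simp only [Finset.sum_add_distrib, h1, h2, ← Finset.mul_sum, zero_add]
  by_contra hge
  push Not at hge
  have hzero : ∀ i j, F i j = 0 := by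
    have hle : ∑ i, ∑ j, F i j ≤ 0 := by rw [hsum]; linarith
    have hi := (Finset.sum_eq_zero_iff_of_nonneg fun i _ => Finset.sum_nonneg fun j _ => hF i j).1
      (le_antisymm hle (Finset.sum_nonneg fun i _ => Finset.sum_nonneg fun j _ => hF i j))
    exact fun i j => (Finset.sum_eq_zero_iff_of_nonneg fun j _ => hF i j).1 (hi i (Finset.mem_univ _)) j
      (Finset.mem_univ _)
  obtain ⟨i₀, hi₀⟩ := Function.ne_iff.1 hx
  obtain ⟨i, hi, j, hj, hA⟩ := hexit (Finset.univ.filter fun i => x i ≠ 0)
    (fun i hi => by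
      by_contra h
      exact (Finset.mem_filter.1 hi).2 (hxT i h))
    ⟨i₀, Finset.mem_filter.2 ⟨Finset.mem_univ _, hi₀⟩⟩
  have hxi : x i ≠ 0 := (Finset.mem_filter.1 hi).2
  have hxj : x j = 0 := by
    by_contra h
    exact hj (Finset.mem_filter.2 ⟨Finset.mem_univ _, h⟩)
  have h := hzero i j
  simp only [F, mul_eq_zero, pow_eq_zero_iff, ne_eq, OfNat.ofNat_ne_zero, not_false_eq_true, sub_eq_zero,
    hA, (hm i).ne', (hm j).ne', false_or] at h
  refine hxi ?_
  rw [hxy i, h, show y j = 0 by simp [y, hxj], zero_mul]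

variable {R : Type u} [CommRing R] [IsDomain R] [IsDiscreteValuationRing R]

/-- The inverse of an ideal module is unique. -/
theorem nonempty_inverse_iso {X : Scheme.{u}} {I : X.IdealSheafData} {L L' : X.Modules}
    (hL : ClSub.IsInverseOf L (ClSub.idealMod I)) (hL' : ClSub.IsInverseOf L' (ClSub.idealMod I)) :
    Nonempty (L ≅ L') :=
  ⟨(tensorUnitRight L).symm ≪≫ tensorIso (Iso.refl _) hL'.some.symm ≪≫
    tensorIso (Iso.refl _) (tensorComm _ _) ≪≫ (tensorAssoc _ _ _).symm ≪≫ tensorIso hL.some (Iso.refl _) ≪≫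
    tensorUnitLeft _⟩

theorem exceptional_negDef (X : Over (Spec (CommRingCat.of R))) (hX : ArSurf.IsArithSurface R X)
    (Y : Over (Spec (CommRingCat.of R))) [IsIntegral Y.left]
    (hnor : ∀ q : Y.left, IsIntegrallyClosed (Y.left.presheaf.stalk q))
    (hdimY : topologicalKrullDim Y.left = 2) [Flat Y.hom] [IsProper Y.hom]
    (f : X ⟶ Y) (hbir : ∃ U : Y.left.Opens, (U : Set Y.left).Nonempty ∧ IsIso (f.left ∣_ U))
    (y : Y.left) (hy : IsClosed ({y} : Set Y.left)) {r : ℕ} (Γ : Fin r → ArSurf.VertComp R X)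
    (hΓ : Function.Injective fun i => Set.range ((Γ i).ι.base : (Γ i).curve.left → X.left))
    (hΓy : ∀ i, Set.range (((Γ i).ι ≫ f.left).base : (Γ i).curve.left → Y.left) = {y})
    (L : Fin r → X.left.Modules) (hL : ∀ j, ClSub.IsInverseOf (L j) (ClSub.idealMod (Γ j).ι.ker))
    (x : Fin r → ℤ) (hx : x ≠ 0) :
    (Finset.univ : Finset (Fin r × Fin r)).sum (fun p => x p.1 * x p.2 * ArSurf.inter R X (L p.2) (Γ p.1)) < 0 := by
  classical
  haveI : IsProper X.hom := Groth.L05.RelMinExists.isProper_of_projective hX.2.2.2.2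
  haveI : IsLocallyNoetherian X.left := LocallyOfFiniteType.isLocallyNoetherian X.hom
  haveI := hX.2.1
  haveI := hX.2.2.2.1
  have hdim := hX.2.2.1
  have hreg := hX.1
  haveI : IsProper (f.left ≫ Y.hom) := (Over.w f).symm ▸ inferInstanceAs (IsProper X.hom)
  haveI : IsProper f.left := IsProper.of_comp f.left Y.hom
  obtain ⟨V, hV, hViso⟩ := hbir
  haveI := hViso
  have hYn : Pi1.IsNormalScheme Y.left := fun q => ⟨inferInstance, hnor q⟩
  haveI := Groth.L16.Connected.geometricallyConnected_fiber f.left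
    (Groth.L13.RatSing.isIso_app_of_isIso_restrict f.left hYn V hV) y
  have hfib : _root_.IsPreconnected (f.left ⁻¹' {y}) := by
    haveI : ConnectedSpace (f.left.fiber y) :=
      GeometricallyConnected.connectedSpace_of_subsingleton (f.left.fiberToSpecResidueField y)
    rw [← f.left.range_fiberι]
    exact isPreconnected_range (f.left.fiberι y).continuous
  obtain ⟨n, Γs, hΓs, -⟩ := Groth.L05.GeomMult.exists_componentList (X := X) hdim
  obtain ⟨Ls, hLs⟩ := exists_inverses (Γs := Γs) hreg hΓs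
  have hspec : ∀ (W : Over (Spec (CommRingCat.of R))) (E : ArSurf.VertComp R W) (c : E.curve.left),
      E.ι c ∈ Models.specialFibreSet R W := fun W E c => by
    show W.hom (E.ι c) = _
    rw [← Scheme.Hom.comp_apply, E.w, Scheme.Hom.comp_apply]
    refine PrimeSpectrum.ext ?_
    generalize E.curve.hom c = q
    show Ideal.comap (IsLocalRing.residue R) q.asIdeal = IsLocalRing.maximalIdeal R
    rw [(Ideal.eq_bot_or_top q.asIdeal).resolve_right q.2.ne_top]
    exact Ideal.mk_ker
  have hkey : ∀ i, ∃ j, (Γ i).ι.ker = (Γs j).ι.ker := fun i => by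
    obtain ⟨j, hj⟩ := exists_component_mem hΓs (hspec X (Γ i) (genericPoint (Γ i).curve.left))
    exact ⟨j, eq_of_mem_support hreg hdim (by
      rw [Scheme.Hom.support_ker]
      exact subset_closure hj)⟩
  choose σ hσ using hkey
  have hrg : ∀ i, Set.range ((Γ i).ι.base : (Γ i).curve.left → X.left) = Set.range (Γs (σ i)).ι.base := fun i => by
    have h := congrArg (fun I : X.left.IdealSheafData => (I.support : Set X.left)) (hσ i)
    simp only [Scheme.Hom.support_ker] at h
    haveI := (Γ i).isClosedImmersion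
    haveI := (Γs (σ i)).isClosedImmersion
    rwa [(Γ i).ι.isClosedEmbedding.isClosed_range.closure_eq,
      (Γs (σ i)).ι.isClosedEmbedding.isClosed_range.closure_eq] at h
  have hσi : Function.Injective σ := fun a b h => hΓ ((hrg a).trans (h ▸ (hrg b).symm))
  let Q : Fin n → Fin n → ℤ := fun i j => ArSurf.inter R X (Ls j) (Γs i)
  have hQ : ∀ a b, ArSurf.inter R X (L b) (Γ a) = Q (σ a) (σ b) := fun a b => by
    obtain ⟨e⟩ := nonempty_inverse_iso (hL b) (L' := Ls (σ b)) (by rw [hσ b]; exact hLs (σ b))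
    rw [inter_congr _ e]
    exact inter_congr_curve (hσ a) (isInvertible_of_cartier (isEffCartier hreg hΓs _) (hLs _))
  let z : Fin n → ℝ := fun j => if h : ∃ a, σ a = j then (x h.choose : ℝ) else 0
  have hz : ∀ a, z (σ a) = x a := fun a => by
    have h : ∃ b, σ b = σ a := ⟨a, rfl⟩
    simp only [z, dif_pos h, hσi h.choose_spec]
  have hz0 : ∀ j, j ∉ Finset.univ.image σ → z j = 0 := fun j hj => dif_neg fun ⟨a, ha⟩ =>
    hj (Finset.mem_image.2 ⟨a, Finset.mem_univ _, ha⟩)
  have hexit : ∀ B ⊆ Finset.univ.image σ, B.Nonempty → ∃ i ∈ B, ∃ j ∉ B, ((Q i j : ℤ) : ℝ) ≠ 0 := by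
    intro B hB hBne
    by_contra h
    push Not at h
    let S : Fin n → Set X.left := fun i => Set.range ((Γs i).ι.base : (Γs i).curve.left → X.left)
    have hS : ∀ i, IsClosed (S i) := fun i => by
      haveI := (Γs i).isClosedImmersion
      exact (Γs i).ι.isClosedEmbedding.isClosed_range
    let C : Set X.left := ⋃ i ∈ B, S i
    let C' : Set X.left := ⋃ i ∈ Finset.univ \ B, S i
    have hC : IsClosed C := Set.Finite.isClosed_biUnion B.finite_toSet fun i _ => hS i
    have hC' : IsClosed C' := Set.Finite.isClosed_biUnion (Finset.univ \ B).finite_toSet fun i _ => hS i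
    have hdis : Disjoint C C' := Set.disjoint_left.2 fun p hp hp' => by
      obtain ⟨i, hi, hpi⟩ := Set.mem_iUnion₂.1 hp
      obtain ⟨j, hj, hpj⟩ := Set.mem_iUnion₂.1 hp'
      have hj' := (Finset.mem_sdiff.1 hj).2
      exact Set.disjoint_left.1 ((inter_nonneg_and_eq_zero_iff hreg hΓs hLs
        (fun e : i = j => hj' (e ▸ hi))).2.1 (by exact_mod_cast h i hi j hj')) hpi hpj
    have hCy : C ⊆ f.left ⁻¹' {y} := fun p hp => by
      obtain ⟨i, hi, hpi⟩ := Set.mem_iUnion₂.1 hp
      obtain ⟨a, -, rfl⟩ := Finset.mem_image.1 (hB hi)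
      obtain ⟨c, rfl⟩ : p ∈ Set.range (Γ a).ι.base := (hrg a).ge hpi
      exact (hΓy a).le ⟨c, rfl⟩
    obtain ⟨i₀, hi₀⟩ := hBne
    have hp₀ : (Γs i₀).ι (genericPoint (Γs i₀).curve.left) ∈ C := Set.mem_iUnion₂.2 ⟨i₀, hi₀, _, rfl⟩
    have hys : Y.hom y = IsLocalRing.closedPoint R := by
      rw [← (hCy hp₀ : f.left _ = y), ← Scheme.Hom.comp_apply, Over.w f]
      exact hspec X (Γs i₀) _
    have hsub : ∀ q : X.left, X.hom q = IsLocalRing.closedPoint R → q ∈ C ∪ C' := fun q hq => by
      obtain ⟨i, hi⟩ := exists_component_mem hΓs hq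
      by_cases hiB : i ∈ B
      · exact Or.inl (Set.mem_iUnion₂.2 ⟨i, hiB, hi⟩)
      · exact Or.inr (Set.mem_iUnion₂.2 ⟨i, by simp [hiB], hi⟩)
    have hfC : f.left ⁻¹' {y} ⊆ C := fun p hp => by
      by_contra hpC
      have hfs : f.left ⁻¹' {y} ⊆ C ∪ C' := fun q hq => hsub q (by
        rw [← Over.w f, Scheme.Hom.comp_apply, (hq : f.left q = y)]; exact hys)
      obtain ⟨q, -, hqC, hqC'⟩ := isPreconnected_closed_iff.1 hfib C C' hC hC' hfs ⟨_, hCy hp₀, hp₀⟩
        ⟨p, hp, (hfs hp).resolve_left hpC⟩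
      exact Set.disjoint_left.1 hdis hqC hqC'
    -- a component of the fibre of `Y` through `y`
    obtain ⟨mY, ΔY, hΔ, -⟩ := Groth.L05.GeomMult.exists_componentList (X := Y) hdimY
    obtain ⟨k, c, hc⟩ := exists_component_mem hΔ (show y ∈ Models.specialFibreSet R Y from hys)
    haveI := (ΔY k).isClosedImmersion
    haveI : Surjective f.left := by
      refine ⟨Set.range_eq_univ.1 (Set.eq_univ_of_univ_subset ?_)⟩
      rw [← genericPoint_closure (α := Y.left)]
      refine closure_minimal (Set.singleton_subset_iff.2 ?_) f.left.isClosedMap.isClosed_range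
      exact ⟨genericPoint X.left, (Groth.L13.RatSing.birational_of_isIso_restrict f.left V hV).1⟩
    obtain ⟨q, hq⟩ := f.left.surjective ((ΔY k).ι (genericPoint (ΔY k).curve.left))
    have hqs : X.hom q = IsLocalRing.closedPoint R := by
      rw [← Over.w f, Scheme.Hom.comp_apply, hq]
      exact hspec Y (ΔY k) _
    rcases hsub q hqs with hqC | hqC'
    · have hyw : (ΔY k).ι (genericPoint (ΔY k).curve.left) = y := hq.symm.trans (hCy hqC)
      haveI : Subsingleton (ΔY k).curve.left := ⟨fun a b => by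
        refine (ΔY k).ι.isClosedEmbedding.injective ?_
        rw [((genericPoint_specializes a).map (ΔY k).ι.continuous).mem_closed hy hyw,
          ((genericPoint_specializes b).map (ΔY k).ι.continuous).mem_closed hy hyw]⟩
      haveI : DiscreteTopology (ΔY k).curve.left := Subsingleton.discreteTopology
      have h0 := topologicalKrullDim_zero_of_discreteTopology (ΔY k).curve.left
      rw [(ΔY k).dim_eq] at h0
      exact absurd h0 (by norm_num)
    · have hyC : y ∈ f.left '' C' := by
        refine Specializes.mem_closed ?_ (f.left.isClosedMap _ hC') ⟨q, hqC', hq⟩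
        exact hc ▸ (genericPoint_specializes c).map (ΔY k).ι.continuous
      obtain ⟨p, hp, hpy⟩ := hyC
      exact Set.disjoint_left.1 hdis (hfC hpy) hp
  have hneg := quad_neg (fun i j => ((Q i j : ℤ) : ℝ)) (fun i => (Models.mult R X (Γs i) : ℝ))
    (fun i j => by simp only [Q]; rw [inter_symm hreg hΓs hLs])
    (fun i j hij => by exact_mod_cast (inter_nonneg_and_eq_zero_iff hreg hΓs hLs hij).1)
    (fun i => by exact_mod_cast mult_pos hreg hΓs i)
    (fun i => by
      have h := congrArg (Int.cast : ℤ → ℝ) (sum_mult_mul_inter hreg hΓs hLs (Γs i))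
      push_cast at h
      rw [← h]
      exact Finset.sum_congr rfl fun j _ => mul_comm _ _)
    (Finset.univ.image σ) hexit z hz0 (fun h0 => hx (funext fun a => by
      have h := hz a
      rw [h0, Pi.zero_apply] at h
      exact_mod_cast h.symm))
  have hsum : ((∑ p : Fin r × Fin r, x p.1 * x p.2 * ArSurf.inter R X (L p.2) (Γ p.1) : ℤ) : ℝ) =
      ∑ i, ∑ j, z i * z j * ((Q i j : ℤ) : ℝ) := by
    rw [Fintype.sum_prod_type]
    push_cast
    rw [← Finset.sum_subset (Finset.subset_univ (Finset.univ.image σ)) fun i _ hi => by simp [hz0 i hi],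
      Finset.sum_image hσi.injOn]
    refine Finset.sum_congr rfl fun a _ => ?_
    rw [← Finset.sum_subset (Finset.subset_univ (Finset.univ.image σ)) fun i _ hi => by simp [hz0 i hi],
      Finset.sum_image hσi.injOn]
    exact Finset.sum_congr rfl fun b _ => by rw [hz, hz, hQ]
  exact Int.cast_lt_zero.1 (hsum ▸ hneg)

end Groth.L13.CurveContr
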