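import Groth.Agent.L13.CurveContr.Degree
import Groth.Agent.L13.PairBlow.Basic
import Groth.Agent.L03.SurfAdj.DetIso
import Groth.Agent.L12.GenusZero.Basic
import Groth.Agent.L18.GlobGen
import Groth.Agent.L22.CurveAmple.Section

/-!
# Twisting by a projective line of negative self-intersection
-/

set_option autoImplicit false
set_option backward.isDefEq.respectTransparency false
set_option linter.style.haveILetI false
set_option linter.unusedSectionVars false
universe u

open CategoryTheory CategoryTheory.Limits AlgebraicGeometry TopologicalSpace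

noncomputable section

namespace Groth.L13.CurveContr

open Groth.L05.InterPair Groth.L21.RR
open Groth.L00.Tensor (tensorIso tensorAssoc tensorComm tensorUnitRight tensorUnitLeft)

variable {R : Type u} [CommRing R] [IsDomain R] [IsDiscreteValuationRing R]
  {X : Over (Spec (CommRingCat.of R))} [IsProper X.hom] [IsLocallyNoetherian X.left]
  (E : ArSurf.VertComp R X)

local notation "κ" => IsLocalRing.ResidueField R

theorem inter_tensorPow {L : X.left.Modules} (hL : PicF.IsInvertible L) (i : ℕ) :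
    ArSurf.inter R X (CohB1.tensorPow L i) E = i * ArSurf.inter R X L E := by
  induction i with
  | zero => rw [Nat.cast_zero, zero_mul]; exact inter_unit E
  | succ i ih =>
    rw [show CohB1.tensorPow L (i + 1) = CohB1.tensorMod (CohB1.tensorPow L i) L from rfl,
      inter_tensor E (Groth.L18.Ample.isInvertible_tensorPow hL i) hL, ih]
    push_cast
    ring

/-- The restriction of a module to the curve, seen on the surface. -/
theorem exists_seq_curve {N : X.left.Modules} (hN : PicF.IsInvertible N) :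
    ∃ S : ShortComplex X.left.Modules, S.ShortExact ∧
      Nonempty (S.X₁ ≅ CohB1.tensorMod (ClSub.idealMod E.ι.ker) N) ∧ Nonempty (S.X₂ ≅ N) ∧
      (∀ n, Subsingleton (Coh.HH E.curve.left ((Scheme.Modules.pullback E.ι).obj N) n) →
        Subsingleton (Coh.HH X.left S.X₃ n)) ∧
      (Nonempty ((Scheme.Modules.pullback E.ι).obj N ≅ Coh.structureModule E.curve.left) →
        Nonempty (S.X₃ ≅ ClSub.quotMod E.ι.ker)) ∧
      ∀ x ∉ (E.ι.ker.support : Set X.left), Subsingleton (S.X₃.presheaf.stalk x) := by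
  obtain ⟨S, hS, e₁, e₂, -, ⟨e₃⟩⟩ :=
    Groth.L13.PairBlow.exists_seq E.ι.ker (Groth.L16.Existence.isFinLocFree_of_isInvertible hN)
  haveI := E.isClosedImmersion
  let q₀ : E.curve.left ⟶ E.ι.ker.subscheme := E.ι.toImage
  haveI : IsIso q₀ := inferInstanceAs (IsIso E.ι.toImage)
  have hq : q₀ ≫ E.ι.ker.subschemeι = E.ι := Scheme.Hom.toImage_imageι E.ι
  let G := (Scheme.Modules.pullback E.ι.ker.subschemeι).obj N
  let eG : (Scheme.Modules.pullback q₀).obj G ≅ (Scheme.Modules.pullback E.ι).obj N :=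
    (Scheme.Modules.pullbackComp q₀ E.ι.ker.subschemeι).app N ≪≫ (Scheme.Modules.pullbackCongr hq).app N
  refine ⟨S, hS, ⟨e₁⟩, ⟨e₂⟩, fun n hn => ?_, fun ⟨t⟩ => ?_, fun x hx => ?_⟩
  · exact Groth.L14.LocHilbLift.subsingleton_HH_of_iso e₃.symm n
      (Groth.L14.LocHilbLift.subsingleton_HH_push E.ι.ker.subschemeι G n
        (subsingleton_HH_of_isIso q₀ G n (Groth.L14.LocHilbLift.subsingleton_HH_of_iso eG.symm n hn)))
  · obtain ⟨q⟩ := Groth.L05.EulerDiv.nonempty_push_curve E
    haveI := Groth.L07.DiffOpSheaf.isIso_unit_of_isIso q₀ G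
    exact ⟨e₃ ≪≫ (Scheme.Modules.pushforward E.ι.ker.subschemeι).mapIso
      (asIso ((Scheme.Modules.pullbackPushforwardAdjunction q₀).unit.app G) ≪≫
        (Scheme.Modules.pushforward q₀).mapIso (eG ≪≫ t)) ≪≫
      (Scheme.Modules.pushforwardComp q₀ E.ι.ker.subschemeι).app _ ≪≫
      (Scheme.Modules.pushforwardCongr hq).app _ ≪≫ q⟩
  · by_contra h
    refine hx ?_
    rw [← Scheme.IdealSheafData.range_subschemeι]
    refine Groth.L16.CohClosedPush.support_push_subset (i := E.ι.ker.subschemeι) G fun hs => h ?_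
    haveI := hs
    exact (Groth.L12.GenusZero.surjective_st_of_epi e₃.inv x).subsingleton

variable {LE : X.left.Modules} (hcart : BlowUp.IsEffCartierIdeal E.ι.ker)
  (hLE : ClSub.IsInverseOf LE (ClSub.idealMod E.ι.ker))

/-- Multiplying the twist by the ideal of the curve lowers the exponent. -/
def twistStep (L : X.left.Modules) (i : ℕ) :
    CohB1.tensorMod (ClSub.idealMod E.ι.ker) (CohB1.tensorMod L (CohB1.tensorPow LE (i + 1))) ≅
      CohB1.tensorMod L (CohB1.tensorPow LE i) :=
  tensorComm _ _ ≪≫ tensorAssoc L _ _ ≪≫ tensorIso (Iso.refl L)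
    (tensorAssoc (CohB1.tensorPow LE i) LE _ ≪≫ tensorIso (Iso.refl _) hLE.some ≪≫ tensorUnitRight _)

include hcart hLE in
theorem isInvertible_twist {L : X.left.Modules} (hL : PicF.IsInvertible L) (i : ℕ) :
    PicF.IsInvertible (CohB1.tensorMod L (CohB1.tensorPow LE i)) :=
  Groth.L18.GenLoc.isInvertible_tensor hL
    (Groth.L18.Ample.isInvertible_tensorPow (isInvertible_of_cartier hcart hLE) i)

include hcart hLE in
theorem inter_twist {L : X.left.Modules} (hL : PicF.IsInvertible L) (i : ℕ) :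
    ArSurf.inter R X (CohB1.tensorMod L (CohB1.tensorPow LE i)) E =
      ArSurf.inter R X L E + i * ArSurf.inter R X LE E := by
  have hi := isInvertible_of_cartier hcart hLE
  rw [inter_tensor E hL (Groth.L18.Ample.isInvertible_tensorPow hi i), inter_tensorPow E hi]

variable (hP1 : IsP1 E) (hneg : ArSurf.inter R X LE E ≤ 0)

include hcart hLE hP1 hneg in
theorem subsingleton_h1_twist {L : X.left.Modules} (hL : PicF.IsInvertible L)
    (h1 : Subsingleton (Coh.HH X.left L 1)) :
    ∀ i : ℕ, 0 ≤ ArSurf.inter R X L E + i * ArSurf.inter R X LE E →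
      Subsingleton (Coh.HH X.left (CohB1.tensorMod L (CohB1.tensorPow LE i)) 1)
  | 0, _ => Groth.L14.LocHilbLift.subsingleton_HH_of_iso (tensorUnitRight L).symm 1 h1
  | i + 1, hi => by
    have ih := subsingleton_h1_twist hL h1 i (by push_cast at hi; linarith)
    have hN := isInvertible_twist E hcart hLE hL (i + 1)
    obtain ⟨S, hS, ⟨e₁⟩, ⟨e₂⟩, h3, -, -⟩ := exists_seq_curve E hN
    haveI := Groth.L14.LocHilbLift.subsingleton_HH_of_iso (e₁ ≪≫ twistStep E hLE L i).symm 1 ih
    haveI := h3 1 (subsingleton_h1_of_nonneg E hP1 (Groth.L18.Ample.isInvertible_pullback E.ι hN)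
      (hi.trans (inter_twist E hcart hLE hL (i + 1)).ge)).1
    exact Groth.L14.LocHilbLift.subsingleton_HH_of_iso e₂ 1 (Groth.L12.GenusZero.subsingleton_of_shortExact hS)

theorem exists_comp_epi {Z : Scheme.{u}} {L M : Z.Modules} (φ : Coh.structureModule Z ⟶ L) (g : L ⟶ M) [Epi g]
    {x : Z} (h : Function.Surjective (st φ x)) :
    ∃ ψ : Coh.structureModule Z ⟶ M, Function.Surjective (st ψ x) := by
  refine ⟨φ ≫ g, fun v => ?_⟩
  obtain ⟨w, rfl⟩ := Groth.L12.GenusZero.surjective_st_of_epi g x v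
  obtain ⟨p, rfl⟩ := h w
  exact ⟨p, by rw [st_comp]⟩

variable [AlgebraicGeometry.IsIntegral X.left]

include hcart hLE in
/-- Off the curve, twisting keeps generating sections. -/
theorem exists_generating_off {L : X.left.Modules} (hL : PicF.IsInvertible L)
    (hgg : Curv2.IsGloballyGenerated L) {x : X.left} (hx : x ∉ (E.ι.ker.support : Set X.left)) :
    ∀ i : ℕ, ∃ φ : Coh.structureModule X.left ⟶ CohB1.tensorMod L (CohB1.tensorPow LE i),
      Function.Surjective (st φ x)
  | 0 => by
    obtain ⟨φ, hφ⟩ := Groth.L18.Ample.exists_genLocus_mem_of_gg hL hgg x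
    exact exists_comp_epi φ (tensorUnitRight L).inv ((mem_genLocus_iff hL φ x).1 hφ)
  | i + 1 => by
    obtain ⟨φ, hφ⟩ := exists_generating_off hL hgg hx i
    obtain ⟨S, hS, ⟨e₁⟩, ⟨e₂⟩, -, -, h0⟩ := exists_seq_curve E (isInvertible_twist E hcart hLE hL (i + 1))
    haveI := h0 x hx
    refine ⟨φ ≫ (e₁ ≪≫ twistStep E hLE L i).inv ≫ S.f ≫ e₂.hom, fun v => ?_⟩
    obtain ⟨w, hw⟩ := Groth.L12.GenusZero.surjective_st_of_epi e₂.hom x v
    obtain ⟨u', hu⟩ := ((Groth.L03.SurfAdj.exact_st hS x).1 w).1 (Subsingleton.elim _ _)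
    obtain ⟨t, ht⟩ := Groth.L12.GenusZero.surjective_st_of_epi (e₁ ≪≫ twistStep E hLE L i).inv x u'
    obtain ⟨p, hp⟩ := hφ t
    exact ⟨p, by simp only [st_comp, hp, ht, hu, hw]⟩

include hcart hLE hP1 hneg in
theorem isGloballyGenerated_twist {L : X.left.Modules} (hL : PicF.IsInvertible L)
    (h1 : Subsingleton (Coh.HH X.left L 1)) (hgg : Curv2.IsGloballyGenerated L) (r : ℕ)
    (hr : ArSurf.inter R X L E + r * ArSurf.inter R X LE E = 0) :
    Nonempty ((Scheme.Modules.pullback E.ι).obj (CohB1.tensorMod L (CohB1.tensorPow LE r)) ≅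
        Coh.structureModule E.curve.left) ∧
      Curv2.IsGloballyGenerated (CohB1.tensorMod L (CohB1.tensorPow LE r)) := by
  have hN := isInvertible_twist E hcart hLE hL r
  have htriv := nonempty_iso_of_deg_zero E hP1 (Groth.L18.Ample.isInvertible_pullback E.ι hN)
    ((inter_twist E hcart hLE hL r).trans hr)
  refine ⟨htriv, ?_⟩
  cases r with
  | zero => exact Groth.L18.Ample.isGloballyGenerated_of_iso (tensorUnitRight L).symm hgg
  | succ i =>
    refine isGloballyGenerated_of_sections fun x => ?_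
    by_cases hx : x ∈ (E.ι.ker.support : Set X.left)
    swap
    · exact exists_generating_off E hcart hLE hL hgg hx (i + 1)
    obtain ⟨S, hS, ⟨e₁⟩, ⟨e₂⟩, -, h3, -⟩ := exists_seq_curve E hN
    obtain ⟨e₃⟩ := h3 htriv
    haveI := Groth.L14.LocHilbLift.subsingleton_HH_of_iso (e₁ ≪≫ twistStep E hLE L i).symm 1
      (subsingleton_h1_twist E hcart hLE hP1 hneg hL h1 i (by push_cast at hr; linarith))
    obtain ⟨ψ, hψ⟩ := Groth.L12.GenusZero.exists_lift hS (ClSub.toSubscheme E.ι.ker ≫ e₃.inv)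
    haveI := hS.epi_g
    haveI : Epi (ClSub.toSubscheme E.ι.ker) := (Groth.L21.RR.shortExact_idealSeq E.ι.ker).epi_g
    have hπ := Groth.L12.GenusZero.surjective_st_of_epi (e₂.inv ≫ S.g) x
    haveI : Nontrivial (S.X₃.presheaf.stalk x) := by
      haveI : Nontrivial ((ClSub.quotMod E.ι.ker).presheaf.stalk x) :=
        not_subsingleton_iff_nontrivial.1 (Groth.L22.CurveAmple.mem_support_quotMod E.ι.ker hx)
      exact (Groth.L12.GenusZero.surjective_st_of_epi e₃.hom x).nontrivial
    obtain ⟨g, hg⟩ := exists_frame_stalk hN x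
    refine ⟨ψ ≫ e₂.hom, Groth.L12.GenusZero.surjective_st_of_quotient _ (e₂.inv ≫ S.g) g hg.2 hπ ?_⟩
    have heq : (ψ ≫ e₂.hom) ≫ e₂.inv ≫ S.g = ClSub.toSubscheme E.ι.ker ≫ e₃.inv := by
      rw [Category.assoc, e₂.hom_inv_id_assoc, hψ]
    rw [heq]
    exact Groth.L12.GenusZero.surjective_st_of_epi _ x

end Groth.L13.CurveContr
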