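import Groth.Agent.L05.InterPair.Main
import Groth.Agent.L05.EulerDiv.Chain
import Groth.Agent.L12.GenusZero.Apps
import Groth.Agent.S0023
import Groth.Agent.L03.SurfFib.H1P1
import Groth.Agent.L18.AmpleGG

/-!
# Invertible modules on a vertical curve isomorphic to the projective line
-/

set_option autoImplicit false
set_option backward.isDefEq.respectTransparency false
set_option linter.style.haveILetI false
set_option linter.unusedSectionVars false
universe u

open CategoryTheory CategoryTheory.Limits AlgebraicGeometry TopologicalSpace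

noncomputable section

namespace Groth.L13.CurveContr

open Groth.L05.InterPair Groth.L21.RR

variable {R : Type u} [CommRing R] [IsDomain R] [IsDiscreteValuationRing R]
  {X : Over (Spec (CommRingCat.of R))} [IsProper X.hom]

local notation "κ" => IsLocalRing.ResidueField R

theorem subsingleton_HH_of_isIso {Z W : Scheme.{u}} (f : Z ⟶ W) [IsIso f] (M : W.Modules) (n : ℕ)
    (h : Subsingleton (Coh.HH Z ((Scheme.Modules.pullback f).obj M) n)) : Subsingleton (Coh.HH W M n) := by
  haveI := Groth.L07.DiffOpSheaf.isIso_unit_of_isIso f M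
  exact Groth.L14.LocHilbLift.subsingleton_HH_of_iso
    (asIso ((Scheme.Modules.pullbackPushforwardAdjunction f).unit.app M)).symm n
    (Groth.L14.LocHilbLift.subsingleton_HH_push f _ n h)

/-- The curve is a projective line over some field. -/
def IsP1 (E : ArSurf.VertComp R X) : Prop :=
  ∃ (k' : Type u) (_ : Field k'), Nonempty (E.curve.left ≅ CohB1.ProjSpace 1 k')

variable [IsLocallyNoetherian X.left] (E : ArSurf.VertComp R X)

theorem subsingleton_h1_structure (hP1 : IsP1 E) :
    Subsingleton (Coh.HH E.curve.left (Coh.structureModule E.curve.left) 1) := by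
  obtain ⟨k', _, ⟨e⟩⟩ := hP1
  exact subsingleton_HH_of_isIso e.inv _ 1
    (Groth.L14.LocHilbLift.subsingleton_HH_of_iso (Groth.L29.LocFree.pullbackUnitIso e.inv).symm 1
      (Groth.Agent.S0023.result 1 k' 1 one_pos))

/-- An integral curve has no other integral curve in it. -/
theorem isIso_of_curve {C Y : Scheme.{u}} [IsIntegral Y] (hd : topologicalKrullDim Y = 1) (j : C ⟶ Y)
    [IsClosedImmersion j] (hC : IsIntegral C) (hdim : topologicalKrullDim C = 1) : IsIso j := by
  have hj : Function.Surjective j := by
    by_contra hns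
    have h := Groth.L03.SurfFib.krullDim_add_one_le j j.isClosedEmbedding fun h => hns (Set.range_eq_univ.1 h)
    rw [hdim, hd] at h
    exact absurd h (by decide)
  haveI : Surjective j := ⟨hj⟩
  exact isIso_of_isClosedImmersion_of_surjective j

/-- An invertible module of non-negative degree on the projective line has no first cohomology. -/
theorem subsingleton_h1_of_nonneg (hP1 : IsP1 E) {N : E.curve.left.Modules} (hN : PicF.IsInvertible N)
    (h : 0 ≤ ArSurf.curveDeg κ E.curve.left N) :
    Subsingleton (Coh.HH E.curve.left N 1) ∧ Curv2.IsGloballyGenerated N := by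
  haveI := E.isIntegral
  haveI := isProper_curve E
  haveI : E.curve.left.IsSeparated := ⟨by
    rw [← terminal.comp_from (E.curve.left ↘ Spec (CommRingCat.of κ))]; infer_instance⟩
  have hnef : Groth.L12.GenusZero.Nef κ N := fun C j _ hC hdim => by
    haveI := isIso_of_curve E.dim_eq j hC hdim
    letI : C.Over (Spec (CommRingCat.of κ)) := ⟨j ≫ (E.curve.left ↘ Spec (CommRingCat.of κ))⟩
    rw [Groth.L12.GenusZero.deg_pullback_of_isIso κ j rfl hN, Curv2.deg, Nat.cast_one, one_mul]
    rwa [curveDeg_eq_euler κ E.dim_eq] at h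
  have hfib := Groth.L12.GenusZero.fiber_dim_le κ (X := E.curve.left) E.dim_eq.le
  have h1 := subsingleton_h1_structure E hP1
  have hnef' := Groth.L12.GenusZero.nefOver_of_nef κ hnef
  exact ⟨Groth.L12.GenusZero.subsingleton_h1 hfib h1 hN hnef',
    Groth.L12.GenusZero.isGloballyGenerated_of_nef hfib h1 hN hnef'⟩

/-- An invertible module of degree zero on the projective line is trivial. -/
theorem nonempty_iso_of_deg_zero (hP1 : IsP1 E) {N : E.curve.left.Modules} (hN : PicF.IsInvertible N)
    (h : ArSurf.curveDeg κ E.curve.left N = 0) : Nonempty (N ≅ Coh.structureModule E.curve.left) := by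
  haveI := E.isIntegral
  haveI := isProper_curve E
  obtain ⟨ι, p, hp⟩ := (subsingleton_h1_of_nonneg E hP1 hN h.ge).2
  obtain ⟨φ, hη⟩ := Groth.L18.Ample.exists_genLocus_mem_of_gg hN ⟨ι, p, hp⟩ (genericPoint E.curve.left)
  by_cases htop : CohB1.genLocus _ φ = ⊤
  · exact Groth.L03.SurfAmple.nonempty_iso_of_genLocus_top φ htop
  · obtain ⟨z, hz⟩ : ∃ z, z ∉ CohB1.genLocus _ φ := by
      by_contra hall
      push Not at hall
      exact htop (top_le_iff.1 fun z _ => hall z)
    have h' := Groth.L03.SurfAmple.altT_pos_of_vanishing κ (E.dim_eq.trans Nat.cast_one.symm) hN φ hη hz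
    rw [← curveDeg_eq_altT κ E.dim_eq, h] at h'
    exact absurd h' (lt_irrefl _)

end Groth.L13.CurveContr
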