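import Groth.Agent.L13.CurveContr.Artin
import Groth.Agent.L16.ProperFinite
import Groth.Agent.L18.GlobGen
import Groth.Agent.L17.AffineVanishing
import Groth.Agent.L14.LocHilb.Lift.PushHom

/-!
# A divisor with affine support is semi-ample
-/

set_option autoImplicit false
set_option backward.isDefEq.respectTransparency false
set_option linter.style.haveILetI false
set_option linter.unusedSectionVars false
universe u

open CategoryTheory CategoryTheory.Limits AlgebraicGeometry TopologicalSpace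

noncomputable section

namespace Groth.L13.CurveContr

open Groth.L21.RR
open Groth.L16.CohLinear (hmap hmap_comp hmap_id overLin exact_hmap_hmap exact_hmap_delta exact_delta_hmap)
open Groth.L00.Tensor (tensorIso tensorAssoc tensorComm tensorUnitRight)

theorem isInvertible_inverse {X : Scheme.{u}} [IsLocallyNoetherian X] {D : X.IdealSheafData}
    (hD : BlowUp.IsEffCartierIdeal D) {L : X.Modules} (hL : ClSub.IsInverseOf L (ClSub.idealMod D)) :
    PicF.IsInvertible L :=
  Groth.L22.EnrSev.isInvertible_of_inverse ((Groth.Agent.L19.IdealInvertible.isEffCartier_iff D).2 hD)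
    (tensorComm _ _ ≪≫ hL.some)

theorem surjective_st_of_mem_genLocus {X : Scheme.{u}} {L : X.Modules} (hL : PicF.IsInvertible L)
    (φ : Coh.structureModule X ⟶ L) {x : X} (h : x ∈ CohB1.genLocus L φ) : Function.Surjective (st φ x) := by
  obtain ⟨W, ε, hx, hε⟩ := Groth.L18.Frame.exists_frame hL x
  obtain ⟨b, hb, hb'⟩ := exists_coeff_secOf hε φ
  rw [surjective_st_iff (bijective_germ_frame hε hx) φ (hb' x hx), ← X.mem_basicOpen b x hx,
    ← Groth.L18.GenLoc.genLocus_inf_eq φ hε hb]
  exact ⟨h, hx⟩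

/-- A chain of surjections starting from a Noetherian module is eventually injective. -/
theorem eventually_injective {A : Type u} [CommRing A] (H : ℕ → Type u) [∀ m, AddCommGroup (H m)]
    [∀ m, Module A (H m)] [IsNoetherian A (H 0)] (h : ∀ m, H m →ₗ[A] H (m + 1))
    (hs : ∀ m, Function.Surjective (h m)) : ∃ m₀, ∀ m, m₀ ≤ m → Function.Injective (h m) := by
  let G : ∀ m, H 0 →ₗ[A] H m := fun m => Nat.rec LinearMap.id (fun k g => (h k).comp g) m
  have hG : ∀ m, Function.Surjective (G m) := fun m => by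
    induction m with
    | zero => exact Function.surjective_id
    | succ k ih => exact (hs k).comp ih
  have hle : ∀ m, LinearMap.ker (G m) ≤ LinearMap.ker (G (m + 1)) := fun m x hx => by
    show h m (G m x) = 0
    rw [show G m x = 0 from hx, map_zero]
  obtain ⟨m₀, hm₀⟩ := monotone_stabilizes_iff_noetherian.2 (inferInstance : IsNoetherian A (H 0))
    ⟨fun m => LinearMap.ker (G m), monotone_nat_of_le_succ hle⟩
  refine ⟨m₀, fun m hm => (injective_iff_map_eq_zero (h m)).2 fun y hy => ?_⟩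
  obtain ⟨x, rfl⟩ := hG m y
  have hx : x ∈ LinearMap.ker (G (m + 1)) := hy
  have e1 : LinearMap.ker (G m₀) = LinearMap.ker (G m) := hm₀ m hm
  have e2 : LinearMap.ker (G m₀) = LinearMap.ker (G (m + 1)) := hm₀ (m + 1) (by omega)
  rw [← e2, e1] at hx
  exact hx

/-- Sections lift along an epimorphism when the kernel's first cohomology injects. -/
theorem exists_lift_of_injective {X : Scheme.{u}} {S : ShortComplex X.Modules} (hS : S.ShortExact)
    (hinj : Function.Injective (hmap S.f 1)) (φ : Coh.structureModule X ⟶ S.X₃) :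
    ∃ ψ : Coh.structureModule X ⟶ S.X₂, ψ ≫ S.g = φ := by
  obtain ⟨t, ht⟩ := (exact_hmap_delta hS 0 ((e0 S.X₃).symm (φ.app ⊤ (oneSec X)))).1 (hinj (by
    rw [map_zero]
    exact (exact_delta_hmap hS 0).apply_apply_eq_zero _))
  obtain ⟨ψ, hψ⟩ := Groth.L21.RR.exists_hom_of_hh0 t
  refine ⟨ψ, Groth.L21.RR.hom_ext_one ?_⟩
  have h := congrArg (e0 S.X₃) ht
  rw [AddEquiv.apply_symm_apply, e0_hmap, ← hψ] at h
  exact h

/-- A high power of a Cartier divisor with affine support on a proper scheme is generated by its sections. -/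
theorem exists_forall_gg_of_isAffine {A : Type u} [CommRing A] [IsNoetherianRing A] {X : Scheme.{u}}
    [IsLocallyNoetherian X] [X.Over (Spec (CommRingCat.of A))] [IsProper (X ↘ Spec (CommRingCat.of A))]
    (D : X.IdealSheafData) (hD : BlowUp.IsEffCartierIdeal D) [IsAffine D.subscheme]
    (L : X.Modules) (hL : ClSub.IsInverseOf L (ClSub.idealMod D)) :
    ∃ m₀ : ℕ, 1 ≤ m₀ ∧ ∀ m : ℕ, m₀ ≤ m → Curv2.IsGloballyGenerated (CohB1.tensorPow L m) := by
  have hLi : PicF.IsInvertible L := isInvertible_inverse hD hL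
  have hP : ∀ m, PicF.IsInvertible (CohB1.tensorPow L m) :=
    fun m => Groth.L18.Ample.isInvertible_tensorPow hLi m
  have hseq : ∀ m, ∃ (S : ShortComplex X.Modules) (_ : S.ShortExact) (_ : S.X₁ ≅ CohB1.tensorPow L m)
      (_ : S.X₂ ≅ CohB1.tensorPow L (m + 1)), Nonempty (S.X₃ ≅ (Scheme.Modules.pushforward D.subschemeι).obj
        ((Scheme.Modules.pullback D.subschemeι).obj (CohB1.tensorPow L (m + 1)))) := fun m => by
    obtain ⟨S, hS, e₁, e₂, -, e₃⟩ :=
      Groth.L13.PairBlow.exists_seq D (Groth.L16.Existence.isFinLocFree_of_isInvertible (hP (m + 1)))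
    exact ⟨S, hS, e₁ ≪≫ tensorComm _ _ ≪≫ tensorAssoc (CohB1.tensorPow L m) L _ ≪≫
      tensorIso (Iso.refl _) hL.some ≪≫ tensorUnitRight _, e₂, e₃⟩
  choose S hS e₁ e₂ e₃ using hseq
  let g : ∀ m, CohB1.tensorPow L m ⟶ CohB1.tensorPow L (m + 1) :=
    fun m => (e₁ m).inv ≫ (S m).f ≫ (e₂ m).hom
  haveI : IsLocallyNoetherian D.subscheme := LocallyOfFiniteType.isLocallyNoetherian D.subschemeι
  have hq : ∀ m, Coh.IsQCoh ((Scheme.Modules.pullback D.subschemeι).obj (CohB1.tensorPow L (m + 1))) :=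
    fun m => (Groth.L16.ProperFinite.isCoh_of_isInvertible
      (Groth.L18.Ample.isInvertible_pullback _ (hP (m + 1)))).1
  have hsurj : ∀ m, Function.Surjective (hmap (g m) 1) := fun m y => by
    haveI := hq m
    haveI : Subsingleton (Coh.HH X (S m).X₃ 1) := Groth.L14.LocHilbLift.subsingleton_HH_of_iso (e₃ m).some.symm 1
      (Groth.L14.LocHilbLift.subsingleton_HH_push D.subschemeι _ 1
        (Groth.L17.subsingleton_HH_of_isAffine D.subscheme _ 0))
    obtain ⟨w, hw⟩ := (exact_hmap_hmap (hS m) 1 (hmap (e₂ m).inv 1 y)).1 (Subsingleton.elim _ _)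
    refine ⟨hmap (e₁ m).hom 1 w, ?_⟩
    show hmap ((e₁ m).inv ≫ (S m).f ≫ (e₂ m).hom) 1 _ = y
    rw [← hmap_comp, Iso.hom_inv_id_assoc, hmap_comp, hw, ← hmap_comp, Iso.inv_hom_id, hmap_id]
  haveI : Module.Finite A (Coh.HH X (CohB1.tensorPow L 0) 1) :=
    Groth.L16.ProperFinite.finite_HH A (Groth.L16.ProperFinite.isCoh_of_isInvertible (hP 0)) 1
  haveI : IsNoetherian A (Coh.HH X (CohB1.tensorPow L 0) 1) := isNoetherian_of_isNoetherianRing_of_finite A _
  obtain ⟨m₁, hm₁⟩ := eventually_injective (fun m => Coh.HH X (CohB1.tensorPow L m) 1)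
    (fun m => overLin A (hmap (g m) 1)) hsurj
  -- off the support the canonical section generates
  have hoff : ∀ m, ∀ x ∉ (D.support : Set X),
      ∃ φ : Coh.structureModule X ⟶ CohB1.tensorPow L m, Function.Surjective (st φ x) := by
    intro m x hx
    induction m with
    | zero => exact ⟨𝟙 _, Groth.L12.GenusZero.surjective_st_of_epi (𝟙 _) x⟩
    | succ m ih =>
      obtain ⟨φ, hφ⟩ := ih
      haveI : Subsingleton ((S m).X₃.presheaf.stalk x) := by
        by_contra h
        refine hx ?_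
        rw [← Scheme.IdealSheafData.range_subschemeι]
        refine Groth.L16.CohClosedPush.support_push_subset (i := D.subschemeι)
          ((Scheme.Modules.pullback D.subschemeι).obj (CohB1.tensorPow L (m + 1))) fun hs => h ?_
        haveI := hs
        exact (Groth.L12.GenusZero.surjective_st_of_epi (e₃ m).some.inv x).subsingleton
      refine ⟨φ ≫ g m, fun v => ?_⟩
      obtain ⟨w, hw⟩ := Groth.L12.GenusZero.surjective_st_of_epi (e₂ m).hom x v
      obtain ⟨u', hu⟩ := ((Groth.L03.SurfAdj.exact_st (hS m) x).1 w).1 (Subsingleton.elim _ _)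
      obtain ⟨t, ht⟩ := Groth.L12.GenusZero.surjective_st_of_epi (e₁ m).inv x u'
      obtain ⟨p, hp⟩ := hφ t
      exact ⟨p, by simp only [g, st_comp, hp, ht, hu, hw]⟩
  refine ⟨m₁ + 1, by omega, fun m hm => ?_⟩
  obtain ⟨m, rfl⟩ : ∃ k, m = k + 1 := ⟨m - 1, by omega⟩
  refine isGloballyGenerated_of_sections fun x => ?_
  by_cases hx : x ∈ (D.support : Set X)
  swap
  · exact hoff (m + 1) x hx
  have hinj : Function.Injective (hmap (S m).f 1) := fun a b hab => by
    have h := hm₁ m (by omega) (a₁ := hmap (e₁ m).hom 1 a) (a₂ := hmap (e₁ m).hom 1 b) (by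
      show hmap ((e₁ m).inv ≫ (S m).f ≫ (e₂ m).hom) 1 _ = hmap ((e₁ m).inv ≫ (S m).f ≫ (e₂ m).hom) 1 _
      rw [← hmap_comp, ← hmap_comp, Iso.hom_inv_id_assoc, hmap_comp, hmap_comp, hab])
    have h' := congrArg (hmap (e₁ m).inv 1) h
    rwa [← hmap_comp, ← hmap_comp, Iso.hom_inv_id, hmap_id, hmap_id] at h'
  obtain ⟨d, rfl⟩ : x ∈ Set.range D.subschemeι := by rwa [Scheme.IdealSheafData.range_subschemeι]
  haveI := hq m
  have hNi := Groth.L18.Ample.isInvertible_pullback D.subschemeι (hP (m + 1))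
  obtain ⟨ψ, hψ⟩ := Groth.L18.Ample.exists_genLocus_mem_of_gg hNi
    (Groth.L18.Ample.isGloballyGenerated_of_isQuasiAffine _) d
  let χ : Coh.structureModule X ⟶ (S m).X₃ :=
    ClSub.toSubscheme D ≫ (Scheme.Modules.pushforward D.subschemeι).map ψ ≫ (e₃ m).some.inv
  have hχ : Function.Surjective (st χ (D.subschemeι d)) := by
    haveI : Epi (ClSub.toSubscheme D) := (Groth.L21.RR.shortExact_idealSeq D).epi_g
    have h1 := Groth.L12.GenusZero.surjective_st_of_epi (ClSub.toSubscheme D) (D.subschemeι d)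
    have h2 := Groth.L12.GenusZero.surjective_st_push D.subschemeι ψ d (surjective_st_of_mem_genLocus hNi ψ hψ)
    have h3 := Groth.L12.GenusZero.surjective_st_of_epi (e₃ m).some.inv (D.subschemeι d)
    intro v
    obtain ⟨c, hc⟩ := h3 v
    obtain ⟨b, hb⟩ := h2 c
    obtain ⟨a, ha⟩ := h1 b
    exact ⟨a, by simp only [χ, st_comp, ha, hb, hc]⟩
  obtain ⟨θ, hθ⟩ := exists_lift_of_injective (hS m) hinj χ
  haveI := (hS m).epi_g
  obtain ⟨γ, hγ⟩ := exists_frame_stalk (hP (m + 1)) (D.subschemeι d)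
  haveI : Nontrivial ((S m).X₃.presheaf.stalk (D.subschemeι d)) := by
    haveI : Nontrivial (Groth.L00.StalkTensor.St
        (Groth.L00.Tensor.pre ((Scheme.Modules.pullback D.subschemeι).obj (CohB1.tensorPow L (m + 1)))) d) := by
      obtain ⟨e, he⟩ := exists_frame_stalk hNi d
      exact he.1.nontrivial
    haveI : Nontrivial (((Scheme.Modules.pushforward D.subschemeι).obj ((Scheme.Modules.pullback D.subschemeι).obj
        (CohB1.tensorPow L (m + 1)))).presheaf.stalk (D.subschemeι d)) :=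
      (Groth.L17.ClosedPush.c₀_bijective D.subschemeι _ d).2.nontrivial
    exact (Groth.L12.GenusZero.surjective_st_of_epi (e₃ m).some.hom (D.subschemeι d)).nontrivial
  refine ⟨θ ≫ (e₂ m).hom, Groth.L12.GenusZero.surjective_st_of_quotient _ ((e₂ m).inv ≫ (S m).g) γ hγ.2
    (Groth.L12.GenusZero.surjective_st_of_epi _ _) ?_⟩
  rw [Category.assoc, Iso.hom_inv_id_assoc, hθ]
  exact hχ

end Groth.L13.CurveContr
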