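import Groth.Agent.L13.CurveContr.Curve
import Groth.Agent.L13.PairBlow.Contract
import Groth.Agent.L17.Strat.Hilbert
import Groth.Agent.L03.BlowPt.Factor
import Groth.Agent.L12.FinCov.Frame
import Groth.Agent.L18.SemiFact.AppIso
import Groth.Agent.L15.CohFlat
import Groth.Prelude.Def_Neron
import Groth.Prelude.Def_ArSurf

/-!
# The generic fibre of a contraction of a fibred surface
-/

set_option autoImplicit false
set_option backward.isDefEq.respectTransparency false
set_option linter.style.haveILetI false
set_option linter.unusedSectionVars false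
universe u

open CategoryTheory CategoryTheory.Limits AlgebraicGeometry TopologicalSpace

noncomputable section

namespace Groth.L13.CurveContr

variable {R : Type u} [CommRing R] [IsDomain R] [IsDiscreteValuationRing R]

theorem eq_closedPoint_or (p : Spec (CommRingCat.of R)) :
    p = IsLocalRing.closedPoint R ∨ p ∈ Set.range (Neron.genPt R) := by
  by_cases h : p.asIdeal = ⊥
  · refine Or.inr ⟨(⟨⊥, Ideal.isPrime_bot⟩ : PrimeSpectrum (FractionRing R)), PrimeSpectrum.ext ?_⟩
    show Ideal.comap (algebraMap R (FractionRing R)) ⊥ = p.asIdeal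
    rw [h, ← RingHom.ker_eq_comap_bot]
    exact (RingHom.injective_iff_ker_eq_bot _).1 (IsFractionRing.injective R (FractionRing R))
  · exact Or.inl (PrimeSpectrum.ext (IsLocalRing.eq_maximalIdeal (p.2.isMaximal h)))

theorem ne_closedPoint_of_mem {p : Spec (CommRingCat.of R)} (h : p ∈ Set.range (Neron.genPt R)) :
    p ≠ IsLocalRing.closedPoint R := by
  rintro rfl
  obtain ⟨t, ht⟩ := h
  have h' : Ideal.comap (algebraMap R (FractionRing R)) t.asIdeal = IsLocalRing.maximalIdeal R :=
    congrArg PrimeSpectrum.asIdeal ht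
  rw [(Ideal.eq_bot_or_top t.asIdeal).resolve_right t.2.ne_top, ← RingHom.ker_eq_comap_bot,
    (RingHom.injective_iff_ker_eq_bot _).1 (IsFractionRing.injective R (FractionRing R))] at h'
  exact IsDiscreteValuationRing.not_a_field R h'.symm

variable (X : Over (Spec (CommRingCat.of R))) [IsProper X.hom]

theorem exists_specializes_special (x : X.left) : ∃ d, x ⤳ d ∧ X.hom d = IsLocalRing.closedPoint R := by
  have hcl := X.hom.isClosedMap _ (isClosed_closure (s := ({x} : Set X.left)))
  have h : X.hom x ⤳ IsLocalRing.closedPoint R := IsLocalRing.specializes_closedPoint _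
  obtain ⟨d, hd, hd'⟩ := h.mem_closed hcl ⟨x, subset_closure rfl, rfl⟩
  exact ⟨d, specializes_iff_mem_closure.2 hd, hd'⟩

variable [IsIntegral X.left] [Flat X.hom]

theorem genericPoint_ne_closedPoint :
    X.hom (genericPoint X.left) ∈ Set.range (Neron.genPt R) := by
  refine (eq_closedPoint_or _).resolve_left fun h => ?_
  have hs : (⟨⊥, Ideal.isPrime_bot⟩ : Spec (CommRingCat.of R)) ⤳ X.hom (genericPoint X.left) :=
    (PrimeSpectrum.le_iff_specializes ⟨⊥, Ideal.isPrime_bot⟩ _).1 bot_le
  obtain ⟨x, hx, hx'⟩ := Flat.generalizingMap X.hom hs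
  rw [(hx.antisymm (genericPoint_specializes x)).eq, h] at hx'
  exact IsDiscreteValuationRing.not_a_field R (congrArg PrimeSpectrum.asIdeal hx')

/-- Points of the generic fibre other than the generic one are closed in it. -/
theorem isClosed_generic (hdim : topologicalKrullDim X.left = 2)
    [IsIntegral (pullback X.hom (Neron.genPt R) : Scheme.{u})]
    (c : ↥(pullback X.hom (Neron.genPt R) : Scheme.{u}))
    (hc : c ≠ genericPoint (↥(pullback X.hom (Neron.genPt R) : Scheme.{u}))) :
    IsClosed ({c} : Set ↥(pullback X.hom (Neron.genPt R) : Scheme.{u})) := by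
  obtain ⟨ϖ, hϖ⟩ := IsDiscreteValuationRing.exists_irreducible R
  haveI := Groth.L18.AppIso.isLocalizationAway_fractionRing hϖ
  haveI : IsOpenImmersion (Neron.genPt R) := IsOpenImmersion.of_isLocalization (S := FractionRing R) ϖ
  let XK := pullback X.hom (Neron.genPt R)
  let j : XK ⟶ X.left := pullback.fst X.hom (Neron.genPt R)
  haveI : IsOpenImmersion j := inferInstanceAs (IsOpenImmersion (pullback.fst _ _))
  have hrange : ∀ x, x ∈ Set.range j ↔ X.hom x ∈ Set.range (Neron.genPt R) := fun x => by
    rw [Scheme.Pullback.range_fst]; rfl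
  exact isClosed_of_closure_subset fun z hz => by
      by_contra hne
      obtain ⟨d, hd, hd'⟩ := exists_specializes_special X (j z)
      have h1 := Groth.L03.BlowPt.Factor.dim_add_one_le
        ((genericPoint_specializes c).map j.continuous) fun e => hc (j.isOpenEmbedding.injective e).symm
      have h2 := Groth.L03.BlowPt.Factor.dim_add_one_le
        ((specializes_iff_mem_closure.2 hz).map j.continuous) fun e => hne (j.isOpenEmbedding.injective e).symm
      have h3 := Groth.L03.BlowPt.Factor.dim_add_one_le hd fun e =>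
        ne_closedPoint_of_mem ((hrange _).1 ⟨z, rfl⟩) (e ▸ hd')
      have h0 : 0 ≤ ringKrullDim (X.left.presheaf.stalk (j (genericPoint XK))) := ringKrullDim_nonneg_of_nontrivial
      have h4 := h3.trans ((Groth.L15.CohFlat.ringKrullDim_stalk_le _).trans hdim.le)
      have h5 : (0 : WithBot ℕ∞) + 1 + 1 + 1 ≤ 2 := by
        refine le_trans ?_ h4
        gcongr
        refine le_trans ?_ h2
        gcongr
        refine le_trans ?_ h1
        gcongr
      exact absurd h5 (by decide)

/-- A morphism whose pullback of a module has positive degree on the generic fibre is finite there. -/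
theorem generic_fibre (hdim : topologicalKrullDim X.left = 2) {Y : Over (Spec (CommRingCat.of R))}
    [IsProper Y.hom] (f : X ⟶ Y) {M : Y.left.Modules} (hM : PicF.IsInvertible M) {L : X.left.Modules}
    (τ : (Scheme.Modules.pullback f.left).obj M ≅ L)
    (hdeg : 0 < ArSurf.curveDeg (FractionRing R) ((Neron.genericFibre R).obj X).left
      ((Scheme.Modules.pullback (pullback.fst X.hom (Neron.genPt R))).obj L)) :
    (∀ y, Y.hom y ≠ IsLocalRing.closedPoint R → (f.left ⁻¹' {y}).Finite) ∧
      ∃ a, X.hom a ≠ IsLocalRing.closedPoint R ∧ f.left a ≠ f.left (genericPoint X.left) := by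
  obtain ⟨ϖ, hϖ⟩ := IsDiscreteValuationRing.exists_irreducible R
  haveI := Groth.L18.AppIso.isLocalizationAway_fractionRing hϖ
  haveI : IsOpenImmersion (Neron.genPt R) := IsOpenImmersion.of_isLocalization (S := FractionRing R) ϖ
  let XK := pullback X.hom (Neron.genPt R)
  let j : XK ⟶ X.left := pullback.fst X.hom (Neron.genPt R)
  haveI : IsOpenImmersion j := inferInstanceAs (IsOpenImmersion (pullback.fst _ _))
  have hrange : ∀ x, x ∈ Set.range j ↔ X.hom x ∈ Set.range (Neron.genPt R) := fun x => by
    rw [Scheme.Pullback.range_fst]; rfl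
  obtain ⟨η', hη'⟩ := (hrange _).2 (genericPoint_ne_closedPoint X)
  haveI : Nonempty XK := ⟨η'⟩
  haveI : IsIntegral XK := isIntegral_of_isOpenImmersion j
  have hgp : j (genericPoint XK) = genericPoint X.left := genericPoint_eq_of_isOpenImmersion j
  haveI : IsProper (pullback.snd X.hom (Neron.genPt R)) :=
    MorphismProperty.pullback_snd (P := @IsProper) _ _ inferInstance
  haveI : IsLocallyNoetherian XK := LocallyOfFiniteType.isLocallyNoetherian (pullback.snd X.hom (Neron.genPt R))
  haveI : CompactSpace XK := QuasiCompact.compactSpace_of_compactSpace (pullback.snd X.hom (Neron.genPt R))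
  haveI : AlgebraicGeometry.IsNoetherian XK := {}
  have hcl := isClosed_generic X hdim
  let r : XK ⟶ pullback Y.hom (Neron.genPt R) := ((Neron.genericFibre R).map f).left
  have hr1 : r ≫ pullback.fst Y.hom (Neron.genPt R) = j ≫ f.left := pullback.lift_fst _ _ _
  have hr2 : r ≫ pullback.snd Y.hom (Neron.genPt R) = pullback.snd X.hom (Neron.genPt R) := pullback.lift_snd _ _ _
  haveI : IsProper r := by
    haveI : IsProper (r ≫ pullback.snd Y.hom (Neron.genPt R)) := by rw [hr2]; infer_instance
    exact IsProper.of_comp r (pullback.snd Y.hom (Neron.genPt R))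
  have hrj : ∀ c, pullback.fst Y.hom (Neron.genPt R) (r c) = f.left (j c) := fun c => by
    rw [← Scheme.Hom.comp_apply, hr1]; rfl
  have hnc : ¬ ∀ c, r c = r (genericPoint XK) := fun hc => by
    have hsub : Set.range (j ≫ f.left) ⊆ ({f.left (j (genericPoint XK))} : Set Y.left) := by
      rintro _ ⟨c, rfl⟩
      rw [Set.mem_singleton_iff, ← hrj, ← hc c, hrj]
      rfl
    obtain ⟨e⟩ := Groth.L13.PairBlow.nonempty_pullback_trivial hsub
      (Groth.L12.FinCov.isFinLocFreeOfRank_one_of_isInvertible hM)
    have e' : (Scheme.Modules.pullback j).obj L ≅ Coh.structureModule XK :=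
      (Scheme.Modules.pullback j).mapIso τ.symm ≪≫ (Scheme.Modules.pullbackComp j f.left).app M ≪≫ e
    refine hdeg.ne' ?_
    rw [ArSurf.curveDeg, sub_eq_zero]
    exact @Groth.L17.Strat.eulerCharLE_iso _ _ ((Neron.genericFibre R).obj X).left _ _ _ e' 1
  have hfin := (constant_or_finite hcl r r.isClosedMap).resolve_left hnc
  refine ⟨fun y hy => ?_, ?_⟩
  · obtain ⟨y', hy'⟩ : y ∈ Set.range (pullback.fst Y.hom (Neron.genPt R)) := by
      rw [Scheme.Pullback.range_fst]
      exact (eq_closedPoint_or _).resolve_left hy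
    refine ((hfin y').image j).subset fun x hx => ?_
    have hxm : X.hom x = Y.hom y := by
      rw [← show f.left x = y from hx, ← Scheme.Hom.comp_apply, Over.w f]
    obtain ⟨c, rfl⟩ := (hrange x).2 (hxm ▸ (eq_closedPoint_or _).resolve_left hy)
    exact ⟨c, (pullback.fst Y.hom (Neron.genPt R)).isOpenEmbedding.injective
      ((hrj c).trans ((show f.left (j c) = y from hx).trans hy'.symm)), rfl⟩
  · push Not at hnc
    obtain ⟨c, hc⟩ := hnc
    refine ⟨j c, ne_closedPoint_of_mem ((hrange _).1 ⟨c, rfl⟩), fun e => hc ?_⟩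
    refine (pullback.fst Y.hom (Neron.genPt R)).isOpenEmbedding.injective ?_
    rw [hrj, hrj, hgp]
    exact e

end Groth.L13.CurveContr
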