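import Groth.Agent.L13.CurveContr.HenselDivisor
import Groth.Agent.L13.CurveContr.Assemble
import Groth.Agent.L05.GeomMult.Components
import Groth.Agent.L22.Adjunction.ExtTop
import Groth.Agent.L05.InterPair.ClassApps

/-!
# Contraction of vertical curves over a Henselian discrete valuation ring
-/

set_option autoImplicit false
set_option backward.isDefEq.respectTransparency false
set_option linter.style.haveILetI false
set_option linter.unusedSectionVars false
universe u

open CategoryTheory CategoryTheory.Limits AlgebraicGeometry TopologicalSpace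

noncomputable section

namespace Groth.L13.CurveContr

open Groth.L05.InterPair Groth.L21.RR
open Groth.L00.Tensor (tensorIso tensorAssoc tensorComm tensorUnitRight tensorUnitLeft)

/-- The ideal module of the empty subscheme is trivial. -/
theorem nonempty_idealMod_iso_of_isEmpty {Z : Scheme.{u}} (J : Z.IdealSheafData) [IsEmpty J.subscheme] :
    Nonempty (ClSub.idealMod J ≅ Coh.structureModule Z) := by
  have hS := Groth.L21.RR.shortExact_idealSeq J
  haveI : IsIso (ClSub.idealModι J) := hS.isIso_f_iff.2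
    ((Scheme.Modules.pushforward J.subschemeι).map_isZero
      (Groth.L22.Adjunction.isZero_of_isEmpty (Coh.structureModule J.subscheme)))
  exact ⟨asIso (ClSub.idealModι J)⟩

/-- A non-empty closed subscheme of a proper scheme over a field has non-zero functions. -/
theorem finrank_quotMod_pos (k : Type u) [Field k] {Z : Scheme.{u}} [Z.Over (Spec (CommRingCat.of k))]
    [IsProper (Z ↘ Spec (CommRingCat.of k))] (J : Z.IdealSheafData) {z : Z} (hz : z ∈ (J.support : Set Z)) :
    0 < Module.finrank k (Coh.HH Z (ClSub.quotMod J) 0) := by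
  haveI := Groth.L21.RR.isNoetherian_of_proper (X := Z) k
  haveI : IsLocallyNoetherian J.subscheme := LocallyOfFiniteType.isLocallyNoetherian J.subschemeι
  have hfin := Groth.L21.RR.finite_HH' (k := k) (Groth.L16.CohClosedPush.isCoh_push J.subschemeι
    (Groth.L16.CohClosedPush.isCoh_structure (X := J.subscheme))) 0
  haveI : Module.Finite k (Coh.HH Z (ClSub.quotMod J) 0) := hfin
  haveI : Nontrivial ((ClSub.quotMod J).presheaf.stalk z) :=
    not_subsingleton_iff_nontrivial.1 (Groth.L22.CurveAmple.mem_support_quotMod J hz)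
  haveI : Epi (ClSub.toSubscheme J) := (Groth.L21.RR.shortExact_idealSeq J).epi_g
  have hne : ClSub.toSubscheme J ≠ 0 := fun h0 => by
    have hepi : Epi (0 : Coh.structureModule Z ⟶ ClSub.quotMod J) := h0 ▸ ‹Epi (ClSub.toSubscheme J)›
    have hzero := IsZero.of_epi_eq_zero (0 : Coh.structureModule Z ⟶ ClSub.quotMod J) rfl
    have := (Groth.L00.Stk.F Z z).map_isZero hzero
    exact not_subsingleton ((ClSub.quotMod J).presheaf.stalk z) (ModuleCat.subsingleton_of_isZero this)
  haveI : Nontrivial (Coh.HH Z (ClSub.quotMod J) 0) := by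
    refine not_subsingleton_iff_nontrivial.1 fun h => hne (Groth.L21.RR.hom_ext_one ?_)
    haveI := h
    exact (Groth.L21.RR.e0 (ClSub.quotMod J)).symm.injective (Subsingleton.elim _ _)
  exact Module.finrank_pos

/-- The degree of a divisor meeting an integral curve properly is positive. -/
theorem curveDeg_pullback_inverse_pos (k : Type u) [Field k] {Z X : Scheme.{u}} [Z.Over (Spec (CommRingCat.of k))]
    [IsProper (Z ↘ Spec (CommRingCat.of k))] [IsIntegral Z] [IsIntegral X] (hd : topologicalKrullDim Z = 1)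
    (j : Z ⟶ X) {C : X.IdealSheafData} (hC : BlowUp.IsEffCartierIdeal C) (hη : j (genericPoint Z) ∉ C.support)
    {z : Z} (hz : j z ∈ C.support) {L : X.Modules} (hL : ClSub.IsInverseOf L (ClSub.idealMod C)) :
    0 < ArSurf.curveDeg k Z ((Scheme.Modules.pullback j).obj L) := by
  obtain ⟨hC', ⟨α⟩⟩ := Groth.L03.BlowPt.nonempty_pullback_idealMod j hC hη
  obtain ⟨e⟩ := hL
  rw [curveDeg_inverse_idealMod k hd hC' ⟨tensorIso (Iso.refl _) α.symm ≪≫
    Groth.L29.DC.PullTensor.pullTensor j L (ClSub.idealMod C) ≪≫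
    (Scheme.Modules.pullback j).mapIso e ≪≫ Groth.L29.LocFree.pullbackUnitIso j⟩]
  exact_mod_cast finrank_quotMod_pos k (C.comap j) (z := z)
    (by rw [Scheme.IdealSheafData.support_comap]; exact hz)

/-- A twist by a divisor missing a curve is trivial on it. -/
theorem nonempty_pullback_inverse_iso {Z X : Scheme.{u}} [IsIntegral Z] [IsIntegral X] (j : Z ⟶ X)
    {C : X.IdealSheafData} (hC : BlowUp.IsEffCartierIdeal C) (hdis : ∀ z, j z ∉ C.support) {L : X.Modules}
    (hL : ClSub.IsInverseOf L (ClSub.idealMod C)) :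
    Nonempty ((Scheme.Modules.pullback j).obj L ≅ Coh.structureModule Z) := by
  obtain ⟨-, ⟨α⟩⟩ := Groth.L03.BlowPt.nonempty_pullback_idealMod j hC (hdis _)
  haveI : IsEmpty (C.comap j).subscheme := ⟨fun w => hdis ((C.comap j).subschemeι w) (by
    have h : (C.comap j).subschemeι w ∈ ((C.comap j).support : Set Z) := by
      rw [← (C.comap j).range_subschemeι]; exact ⟨w, rfl⟩
    rwa [Scheme.IdealSheafData.support_comap] at h)⟩
  obtain ⟨β⟩ := nonempty_idealMod_iso_of_isEmpty (C.comap j)
  obtain ⟨e⟩ := hL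
  exact ⟨(tensorUnitRight _).symm ≪≫ tensorIso (Iso.refl _) (β.symm ≪≫ α.symm) ≪≫
    Groth.L29.DC.PullTensor.pullTensor j L (ClSub.idealMod C) ≪≫
    (Scheme.Modules.pullback j).mapIso e ≪≫ Groth.L29.LocFree.pullbackUnitIso j⟩

theorem support_finset_prod {X : Scheme.{u}} {ι : Type*} (C : ι → X.IdealSheafData) (s : Finset ι) (x : X) :
    x ∈ ((∏ i ∈ s, C i).support : Set X) ↔ ∃ i ∈ s, x ∈ ((C i).support : Set X) := by
  classical
  induction s using Finset.induction_on with
  | empty => simp
  | insert i s hi ih =>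
    rw [Finset.prod_insert hi, Scheme.IdealSheafData.support_mul]
    simp only [TopologicalSpace.Closeds.coe_sup, Set.mem_union, ih, Finset.mem_insert, exists_eq_or_imp]

variable {R : Type u} [CommRing R] [IsDomain R] [IsDiscreteValuationRing R] [HenselianLocalRing R]
  (X : Over (Spec (CommRingCat.of R))) [IsIntegral X.left] [IsProper X.hom] [Flat X.hom]

theorem exists_henselian_module (hdim : topologicalKrullDim X.left = 2) {r : ℕ}
    (Γ : Fin r → ArSurf.VertComp R X) (Γ' : ArSurf.VertComp R X)
    (hΓ' : ∀ i, Set.range (Γ'.ι.base : Γ'.curve.left → X.left) ≠ Set.range (Γ i).ι.base) :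
    ∃ L : X.left.Modules, PicF.IsInvertible L ∧ Curv2.IsGloballyGenerated L ∧
      0 < ArSurf.curveDeg (FractionRing R) ((Neron.genericFibre R).obj X).left
        ((Scheme.Modules.pullback (pullback.fst X.hom (Neron.genPt R))).obj L) ∧
      ∀ E : ArSurf.VertComp R X, Nonempty ((Scheme.Modules.pullback E.ι).obj L ≅ Coh.structureModule E.curve.left) ↔
        ∃ i, Set.range (E.ι.base : E.curve.left → X.left) = Set.range (Γ i).ι.base := by
  classical
  haveI : IsLocallyNoetherian X.left := LocallyOfFiniteType.isLocallyNoetherian X.hom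
  obtain ⟨n, Γs, hΓs, -⟩ := Groth.L05.GeomMult.exists_componentList (X := X) hdim
  -- curves in a curve are equal
  have heq : ∀ E E' : ArSurf.VertComp R X, E.ι (genericPoint E.curve.left) ∈ Set.range E'.ι →
      Set.range (E.ι.base : E.curve.left → X.left) = Set.range E'.ι.base := fun E E' h => by
    haveI := E.isClosedImmersion
    haveI := E'.isClosedImmersion
    obtain ⟨c, hc⟩ := h
    by_cases hc' : c = genericPoint E'.curve.left
    · rw [← E.ι.isClosedEmbedding.isClosed_range.closure_eq, ← E'.ι.isClosedEmbedding.isClosed_range.closure_eq,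
        ← Set.image_univ, ← Set.image_univ, ← genericPoint_closure (α := E.curve.left),
        ← genericPoint_closure (α := E'.curve.left), closure_image_closure E.ι.continuous,
        closure_image_closure E'.ι.continuous, Set.image_singleton, Set.image_singleton, ← hc, hc']
    · exfalso
      haveI := isProper_curve E'
      have hcl : IsClosed ({c} : Set E'.curve.left) := isClosed_of_ne_genericPoint E'.dim_eq.le c hc'
      have hcl' : IsClosed ({E.ι (genericPoint E.curve.left)} : Set X.left) := by
        rw [← hc, ← Set.image_singleton]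
        exact E'.ι.isClosedEmbedding.isClosedMap _ hcl
      haveI : Subsingleton E.curve.left := ⟨fun a b => by
        refine E.ι.isClosedEmbedding.injective ?_
        rw [((genericPoint_specializes a).map E.ι.continuous).mem_closed hcl' rfl,
          ((genericPoint_specializes b).map E.ι.continuous).mem_closed hcl' rfl]⟩
      haveI : DiscreteTopology E.curve.left := Subsingleton.discreteTopology
      have h0 := topologicalKrullDim_zero_of_discreteTopology E.curve.left
      rw [E.dim_eq] at h0
      exact absurd h0 (by norm_num)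
  have hspec : ∀ (E : ArSurf.VertComp R X) (c : E.curve.left), E.ι c ∈ Models.specialFibreSet R X := fun E c => by
    show X.hom (E.ι c) = _
    rw [← Scheme.Hom.comp_apply, E.w, Scheme.Hom.comp_apply]
    refine PrimeSpectrum.ext ?_
    generalize E.curve.hom c = q
    show Ideal.comap (IsLocalRing.residue R) q.asIdeal = IsLocalRing.maximalIdeal R
    rw [(Ideal.eq_bot_or_top q.asIdeal).resolve_right q.2.ne_top]
    exact Ideal.mk_ker
  have hcomp : ∀ E : ArSurf.VertComp R X, ∃ j, Set.range (E.ι.base : E.curve.left → X.left) = Set.range (Γs j).ι.base :=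
    fun E => by
      obtain ⟨j, hj⟩ := exists_component_mem hΓs (hspec E (genericPoint E.curve.left))
      exact ⟨j, heq E (Γs j) hj⟩
  let S : Finset (Fin n) :=
    Finset.univ.filter fun j => ∀ i, Set.range ((Γs j).ι.base : (Γs j).curve.left → X.left) ≠ Set.range (Γ i).ι.base
  let U : Set X.left := ⋃ i, Set.range ((Γ i).ι.base : (Γ i).curve.left → X.left)
  have hU : IsClosed U := isClosed_iUnion_of_finite fun i => by
    haveI := (Γ i).isClosedImmersion
    exact (Γ i).ι.isClosedEmbedding.isClosed_range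
  have hpt : ∀ j ∈ S, ∃ p : X.left, IsClosed ({p} : Set X.left) ∧ p ∈ Set.range (Γs j).ι.base ∧ p ∉ U := by
    intro j hj
    haveI := (Γs j).isClosedImmersion
    haveI := isProper_curve (Γs j)
    haveI : JacobsonSpace (Γs j).curve.left :=
      LocallyOfFiniteType.jacobsonSpace ((Γs j).curve.left ↘ Spec (CommRingCat.of (IsLocalRing.ResidueField R)))
    let O : Set (Γs j).curve.left := (Γs j).ι ⁻¹' Uᶜ
    have hO : IsOpen O := hU.isOpen_compl.preimage (Γs j).ι.continuous
    have hne : O.Nonempty := by
      refine ⟨genericPoint (Γs j).curve.left, fun h => ?_⟩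
      obtain ⟨i, hi⟩ := Set.mem_iUnion.1 h
      exact (Finset.mem_filter.1 hj).2 i (heq _ _ hi)
    obtain ⟨c, hc, hcc⟩ := nonempty_inter_closedPoints hne hO.isLocallyClosed
    refine ⟨(Γs j).ι c, ?_, ⟨c, rfl⟩, hc⟩
    rw [← Set.image_singleton]
    exact (Γs j).ι.isClosedEmbedding.isClosedMap _ hcc
  choose p hpc hpr hpU using hpt
  have hdiv : ∀ j : S, ∃ C : X.left.IdealSheafData, BlowUp.IsEffCartierIdeal C ∧
      (∀ a ∈ (C.support : Set X.left), ∃ q, q ∈ (C.support : Set X.left) ∧ q ⤳ a ∧
        (X.hom q : PrimeSpectrum R).asIdeal = ⊥) ∧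
      (C.support : Set X.left) ∩ Models.specialFibreSet R X = {p j.1 j.2} := by
    rintro ⟨j, hj⟩
    obtain ⟨c, hc⟩ := hpr j hj
    obtain ⟨D, d, hdi, hD, hhor, hr⟩ :=
      exists_horizontal_divisor X hdim (p j hj) (hpc j hj) (hc ▸ hspec (Γs j) c)
    haveI := hdi
    have hsupp : ((d.ker.support : Set X.left)) = Set.range d := by
      rw [Scheme.Hom.support_ker]; exact d.isClosedEmbedding.isClosed_range.closure_eq
    refine ⟨d.ker, hD, fun a ha => ?_, by rw [hsupp]; exact hr⟩
    rw [hsupp] at ha ⊢
    obtain ⟨a', rfl⟩ := ha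
    obtain ⟨q, hq, hq0⟩ := hhor a'
    exact ⟨d q, ⟨q, rfl⟩, hq.map d.continuous, hq0⟩
  choose C hC hChor hCs using hdiv
  let I : X.left.IdealSheafData := ∏ j : S, C j
  have hI : BlowUp.IsEffCartierIdeal I := isEffCartier_prod _ fun j _ => hC j
  have hIsupp : ∀ a, a ∈ (I.support : Set X.left) ↔ ∃ j, a ∈ ((C j).support : Set X.left) := fun a =>
    (support_finset_prod C Finset.univ a).trans ⟨fun ⟨j, _, h⟩ => ⟨j, h⟩, fun ⟨j, h⟩ => ⟨j, Finset.mem_univ _, h⟩⟩
  have hIs : ∀ a, a ∈ (I.support : Set X.left) → a ∈ Models.specialFibreSet R X → a ∉ U := fun a ha hs => by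
    obtain ⟨j, hj⟩ := (hIsupp a).1 ha
    rw [show a = p j.1 j.2 from (hCs j).le ⟨hj, hs⟩]
    exact hpU _ _
  haveI : IsClosedImmersion I.subschemeι := inferInstance
  haveI := isFinite_of_horizontal (fun h => IsDiscreteValuationRing.not_a_field R
      (IsLocalRing.isField_iff_maximalIdeal_eq.1 h)) X hdim I.subschemeι
    (by rw [Scheme.IdealSheafData.ker_subschemeι]; exact hI) fun a => by
      obtain ⟨j, hj⟩ := (hIsupp (I.subschemeι a)).1 (I.range_subschemeι.le ⟨a, rfl⟩)
      obtain ⟨q, hq, hqa, hq0⟩ := hChor j _ hj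
      obtain ⟨q', rfl⟩ := I.range_subschemeι.ge ((hIsupp q).2 ⟨j, hq⟩)
      exact ⟨q', I.subschemeι.isClosedEmbedding.isInducing.specializes_iff.1 hqa, hq0⟩
  haveI : IsAffine I.subscheme := isAffine_of_isAffineHom (I.subschemeι ≫ X.hom)
  obtain ⟨L, hLi, ⟨eL⟩⟩ := Groth.L08.Cube.exists_inverse ((Groth.Agent.L19.IdealInvertible.isEffCartier_iff I).2 hI)
  have hL : ClSub.IsInverseOf L (ClSub.idealMod I) := ⟨tensorComm _ _ ≪≫ eL⟩
  letI : X.left.Over (Spec (CommRingCat.of R)) := ⟨X.hom⟩
  haveI : IsProper (X.left ↘ Spec (CommRingCat.of R)) := inferInstanceAs (IsProper X.hom)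
  obtain ⟨m, hm, hgg⟩ := exists_forall_gg_of_isAffine (A := R) I hI L hL
  refine ⟨CohB1.tensorPow L m, Groth.L18.Ample.isInvertible_tensorPow hLi m, hgg m le_rfl, ?_, fun E => ?_⟩
  · let Z := ((Neron.genericFibre R).obj X).left
    let g : Z ⟶ X.left := pullback.fst X.hom (Neron.genPt R)
    haveI : IsIntegral Z := isIntegral_genericFibre X
    haveI : IsProper (Z ↘ Spec (CommRingCat.of (FractionRing R))) :=
      MorphismProperty.pullback_snd (P := @IsProper) X.hom (Neron.genPt R) inferInstance
    have hd : topologicalKrullDim Z = 1 := dim_genericFibre X hdim Γ'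
    obtain ⟨j₀, hj₀⟩ := hcomp Γ'
    have hjS : j₀ ∈ S := Finset.mem_filter.2 ⟨Finset.mem_univ _, fun i h => hΓ' i (hj₀.trans h)⟩
    obtain ⟨q, hq, -, hq0⟩ := hChor ⟨j₀, hjS⟩ (p j₀ hjS) ((hCs ⟨j₀, hjS⟩).ge rfl).1
    obtain ⟨z, hz⟩ : q ∈ Set.range g := by
      show q ∈ Set.range (pullback.fst X.hom (Neron.genPt R))
      rw [Scheme.Pullback.range_fst]
      exact (eq_closedPoint_or _).resolve_left fun h =>
        IsDiscreteValuationRing.not_a_field R ((congrArg PrimeSpectrum.asIdeal h).symm.trans hq0)
    have hη : g (genericPoint Z) ∉ I.support := fun hmem => by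
      have hξ : g (genericPoint Z) = genericPoint X.left := by
        obtain ⟨ϖ, hϖ⟩ := IsDiscreteValuationRing.exists_irreducible R
        haveI := Groth.L18.AppIso.isLocalizationAway_fractionRing hϖ
        haveI : IsOpenImmersion (Neron.genPt R) := IsOpenImmersion.of_isLocalization (S := FractionRing R) ϖ
        haveI : IsOpenImmersion g := inferInstanceAs (IsOpenImmersion (pullback.fst _ _))
        exact genericPoint_eq_of_isOpenImmersion g
      refine Groth.L15.Ref.genericPoint_not_mem_range (D := I) hI ?_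
      rw [Scheme.IdealSheafData.range_subschemeι, ← hξ]
      exact hmem
    show 0 < ArSurf.curveDeg (FractionRing R) Z ((Scheme.Modules.pullback g).obj _)
    rw [curveDeg_pullback_tensorPow (FractionRing R) hd g hLi]
    exact mul_pos (by exact_mod_cast hm) (curveDeg_pullback_inverse_pos (FractionRing R) hd g hI hη
      (z := z) (hz.symm ▸ (hIsupp q).2 ⟨_, hq⟩) hL)
  · constructor
    · rintro ⟨s⟩
      by_contra hne
      push Not at hne
      obtain ⟨j₀, hj₀⟩ := hcomp E
      have hjS : j₀ ∈ S := Finset.mem_filter.2 ⟨Finset.mem_univ _, fun i h => hne i (hj₀.trans h)⟩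
      obtain ⟨c, hc⟩ : p j₀ hjS ∈ Set.range (E.ι.base : E.curve.left → X.left) := hj₀ ▸ hpr j₀ hjS
      haveI := isProper_curve E
      have hη : E.ι (genericPoint E.curve.left) ∉ I.support := fun hmem => by
        obtain ⟨j, hj⟩ := (hIsupp _).1 hmem
        obtain ⟨c', hc'⟩ := hpr j.1 j.2
        have he : E.ι (genericPoint E.curve.left) = p j.1 j.2 := (hCs j).le ⟨hj, hspec E _⟩
        have hcl : IsClosed ({E.ι (genericPoint E.curve.left)} : Set X.left) := he ▸ hpc _ _
        haveI := E.isClosedImmersion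
        haveI : Subsingleton E.curve.left := ⟨fun a b => by
          refine E.ι.isClosedEmbedding.injective ?_
          rw [((genericPoint_specializes a).map E.ι.continuous).mem_closed hcl rfl,
            ((genericPoint_specializes b).map E.ι.continuous).mem_closed hcl rfl]⟩
        haveI : DiscreteTopology E.curve.left := Subsingleton.discreteTopology
        have h0 := topologicalKrullDim_zero_of_discreteTopology E.curve.left
        rw [E.dim_eq] at h0
        exact absurd h0 (by norm_num)
      have hpos := curveDeg_pullback_inverse_pos (IsLocalRing.ResidueField R) E.dim_eq E.ι hI hη (z := c)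
        ((show E.ι c = p j₀ hjS from hc).symm ▸ (hIsupp _).2 ⟨⟨j₀, hjS⟩, ((hCs ⟨j₀, hjS⟩).ge rfl).1⟩) hL
      have h0 : ArSurf.inter R X (CohB1.tensorPow L m) E = 0 := by
        rw [ArSurf.inter, curveDeg_congr _ E.dim_eq s]
        exact curveDeg_unit _ E.dim_eq
      rw [inter_tensorPow E hLi] at h0
      have : (0 : ℤ) < (m : ℤ) * ArSurf.inter R X L E := mul_pos (by exact_mod_cast hm) hpos
      linarith
    · rintro ⟨i, hi⟩
      obtain ⟨t⟩ := nonempty_pullback_inverse_iso E.ι hI (fun c hc => hIs _ hc (hspec E c)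
        (Set.mem_iUnion.2 ⟨i, hi.le ⟨c, rfl⟩⟩)) hL
      clear hgg hm
      induction m with
      | zero => exact ⟨Groth.L29.LocFree.pullbackUnitIso E.ι⟩
      | succ m ih =>
        obtain ⟨σ⟩ := ih
        exact ⟨(Groth.L29.DC.PullTensor.pullTensor E.ι _ _).symm ≪≫ tensorIso σ t ≪≫ tensorUnitRight _⟩

end Groth.L13.CurveContr
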