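import Groth.Agent.L13.CurveContr.Horizontal
import Groth.Agent.L13.CurveContr.Generic
import Groth.Agent.L05.PointBlowArith.Numeric
import Groth.Agent.S17447

/-!
# Horizontal divisors through a point over a Henselian discrete valuation ring
-/

set_option autoImplicit false
set_option linter.style.haveILetI false
set_option linter.unusedSectionVars false
universe u

open CategoryTheory CategoryTheory.Limits AlgebraicGeometry TopologicalSpace

noncomputable section

namespace Groth.L13.CurveContr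

variable {R : Type u} [CommRing R] [IsDomain R] [IsDiscreteValuationRing R]
  (X : Over (Spec (CommRingCat.of R))) [IsIntegral X.left] [IsProper X.hom] [Flat X.hom]

/-- An equation at a closed point of the closed fibre whose zeros meet that fibre only there. -/
theorem exists_equation_isolated (hdim : topologicalKrullDim X.left = 2) (x : X.left)
    (hx : IsClosed ({x} : Set X.left)) (hxs : X.hom x = IsLocalRing.closedPoint R) :
    ∃ (V : X.left.Opens) (_ : IsAffineOpen V) (f : Γ(X.left, V)), f ≠ 0 ∧ x ∈ V ∧ x ∉ X.left.basicOpen f ∧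
      (∀ y ∈ V, y ∉ X.left.basicOpen f → X.hom y = IsLocalRing.closedPoint R → y = x) ∧
      ∃ y ∈ V, y ∉ X.left.basicOpen f ∧ y ≠ x ∧ y ⤳ x := by
  classical
  haveI : IsLocallyNoetherian X.left := LocallyOfFiniteType.isLocallyNoetherian X.hom
  obtain ⟨U, hU, hxU, -⟩ := exists_isAffineOpen_mem_and_subset (x := x) (U := (⊤ : X.left.Opens)) trivial
  haveI : Nonempty U := ⟨⟨x, hxU⟩⟩
  haveI : IsNoetherianRing Γ(X.left, U) := IsLocallyNoetherian.component_noetherian ⟨U, hU⟩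
  let s := hU.fromSpec
  have hinj : Function.Injective s := s.isOpenEmbedding.injective
  have hspec : ∀ a b : PrimeSpectrum Γ(X.left, U), a.asIdeal ≤ b.asIdeal → s a ⤳ s b :=
    fun a b h => ((PrimeSpectrum.le_iff_specializes a b).1 h).map s.continuous
  have hzero : ∀ (a : PrimeSpectrum Γ(X.left, U)) (g : Γ(X.left, U)),
      s a ∈ X.left.basicOpen g ↔ g ∉ a.asIdeal := fun a g => by
    show a ∈ s ⁻¹ᵁ X.left.basicOpen g ↔ _
    rw [hU.fromSpec_preimage_basicOpen]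
    exact PrimeSpectrum.mem_basicOpen g a
  obtain ⟨φ, hφ⟩ := Spec.map_surjective (s ≫ X.hom)
  obtain ⟨ϖ, hϖ⟩ := IsDiscreteValuationRing.exists_irreducible R
  let t : Γ(X.left, U) := φ.hom ϖ
  have hsp : ∀ a : PrimeSpectrum Γ(X.left, U), X.hom (s a) = IsLocalRing.closedPoint R ↔ t ∈ a.asIdeal := by
    intro a
    rw [← Scheme.Hom.comp_apply, ← hφ]
    show PrimeSpectrum.comap φ.hom a = IsLocalRing.closedPoint R ↔ φ.hom ϖ ∈ a.asIdeal
    rw [PrimeSpectrum.ext_iff, PrimeSpectrum.comap_asIdeal]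
    refine ⟨fun h => ?_, fun h => ?_⟩
    · have : ϖ ∈ (IsLocalRing.closedPoint R).asIdeal := (mem_nonunits_iff.2 hϖ.not_isUnit)
      rw [← h] at this
      exact this
    · refine ((IsLocalRing.maximalIdeal.isMaximal R).eq_of_le ((inferInstance : (a.asIdeal.comap φ.hom).IsPrime).ne_top) ?_).symm
      rw [hϖ.maximalIdeal_eq, Ideal.span_singleton_le_iff_mem]
      exact h
  have hξs : X.hom (genericPoint X.left) ≠ IsLocalRing.closedPoint R :=
    ne_closedPoint_of_mem (genericPoint_ne_closedPoint X)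
  obtain ⟨P, hP⟩ : x ∈ Set.range s := by rw [hU.range_fromSpec]; exact hxU
  have hξ : s ⟨⊥, Ideal.isPrime_bot⟩ = genericPoint X.left := by
    obtain ⟨a, ha⟩ : genericPoint X.left ∈ Set.range s := by
      rw [hU.range_fromSpec]; exact (genericPoint_specializes x).mem_open U.2 hxU
    refine ((hspec ⟨⊥, Ideal.isPrime_bot⟩ a bot_le).trans (ha.symm ▸ (specializes_refl _))).antisymm
      (genericPoint_specializes _) |>.eq
  have ht0 : t ≠ 0 := fun h => hξs (hξ ▸ (hsp _).2 (h ▸ (⊥ : Ideal Γ(X.left, U)).zero_mem))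
  have htP : t ∈ P.asIdeal := (hsp P).1 (hP ▸ hxs)
  -- principal ideals are too small to cut out the point
  have hmin : ∀ a : Γ(X.left, U), P.asIdeal ∉ (Ideal.span {a}).minimalPrimes := fun a h => by
    have h1 := Ideal.height_le_one_of_isPrincipal_of_mem_minimalPrimes _ _ h
    have h2 : ringKrullDim (X.left.presheaf.stalk x) = (2 : ℕ) :=
      Groth.L05.PointBlowArith.dim_stalk_eq_two X hdim x hx hxs
    rw [Groth.L22.LocalDim.dim_stalk_eq_height hU hxU, show hU.primeIdealOf ⟨x, hxU⟩ = P from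
      hinj ((hU.fromSpec_primeIdealOf ⟨x, hxU⟩).trans hP.symm)] at h2
    rw [show P.asIdeal.height = (2 : ℕ∞) from WithBot.coe_injective (h2.trans rfl)] at h1
    exact absurd h1 (by decide)
  have hPmax : ∀ Q : PrimeSpectrum Γ(X.left, U), P.asIdeal ≤ Q.asIdeal → Q = P := fun Q h =>
    hinj (((hspec P Q h).mem_closed hx hP).trans hP.symm)
  let Smin : Finset (Ideal Γ(X.left, U)) :=
    (Ideal.finite_minimalPrimes_of_isNoetherianRing _ (Ideal.span {t})).toFinset.filter (· ≤ P.asIdeal)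
  have hSmem : ∀ Q ∈ Smin, Q.IsPrime ∧ t ∈ Q ∧ Q ≤ P.asIdeal ∧ Q ≠ P.asIdeal := fun Q hQ => by
    rw [Finset.mem_filter, Set.Finite.mem_toFinset] at hQ
    exact ⟨hQ.1.1.1, hQ.1.1.2 (Ideal.mem_span_singleton_self t), hQ.2, fun e => hmin t (e ▸ hQ.1)⟩
  obtain ⟨Q₀, hQ₀, hQ₀P⟩ := Ideal.exists_minimalPrimes_le
    ((Ideal.span_singleton_le_iff_mem P.asIdeal).2 htP)
  have hQ₀S : Q₀ ∈ Smin := Finset.mem_filter.2 ⟨(Set.Finite.mem_toFinset _).2 hQ₀, hQ₀P⟩
  obtain ⟨f, hfP, hfS⟩ : ∃ f ∈ P.asIdeal, ∀ Q ∈ Smin, f ∉ Q := by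
    by_contra! hc
    have hsub : (P.asIdeal : Set Γ(X.left, U)) ⊆ ⋃ Q ∈ (Smin : Set (Ideal Γ(X.left, U))), (Q : Set Γ(X.left, U)) :=
      fun a ha => by
        obtain ⟨Q, hQ, haQ⟩ := hc a ha
        exact Set.mem_iUnion₂.2 ⟨Q, hQ, haQ⟩
    obtain ⟨Q, hQ, hPQ⟩ := (Ideal.subset_union_prime (f := id) Q₀ Q₀ fun Q hQ _ _ => (hSmem Q hQ).1).1 hsub
    exact (hSmem Q hQ).2.2.2 (le_antisymm (hSmem Q hQ).2.2.1 hPQ)
  have hf0 : f ≠ 0 := fun h => hfS Q₀ hQ₀S (h ▸ Q₀.zero_mem)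
  have hPmin : P.asIdeal ∈ (Ideal.span {f, t}).minimalPrimes := by
    obtain ⟨Q, hQ, hQP⟩ := Ideal.exists_minimalPrimes_le (I := Ideal.span {f, t}) (J := P.asIdeal)
      (Ideal.span_le.2 (by rintro a (rfl | rfl); exacts [hfP, htP]))
    haveI := hQ.1.1
    by_contra hne
    have hfQ : f ∈ Q := hQ.1.2 (Ideal.subset_span (by simp))
    have htQ : t ∈ Q := hQ.1.2 (Ideal.subset_span (by simp))
    obtain ⟨Q₁, hQ₁, hQ₁Q⟩ := Ideal.exists_minimalPrimes_le ((Ideal.span_singleton_le_iff_mem Q).2 htQ)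
    have hQ₁S : Q₁ ∈ Smin := Finset.mem_filter.2 ⟨(Set.Finite.mem_toFinset _).2 hQ₁, hQ₁Q.trans hQP⟩
    haveI := hQ₁.1.1
    have ne1 : s ⟨⊥, Ideal.isPrime_bot⟩ ≠ s ⟨Q₁, hQ₁.1.1⟩ := fun e => ht0 (Ideal.mem_bot.1 (by
      rw [show (⊥ : Ideal Γ(X.left, U)) = Q₁ from congrArg PrimeSpectrum.asIdeal (hinj e)]
      exact (hSmem Q₁ hQ₁S).2.1))
    exact false_of_chain hdim (hspec ⟨⊥, Ideal.isPrime_bot⟩ ⟨Q₁, hQ₁.1.1⟩ bot_le) ne1
      (hspec ⟨Q₁, hQ₁.1.1⟩ ⟨Q, hQ.1.1⟩ hQ₁Q)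
      (fun e => hfS Q₁ hQ₁S ((show Q = Q₁ from (congrArg PrimeSpectrum.asIdeal (hinj e)).symm) ▸ hfQ))
      (hspec ⟨Q, hQ.1.1⟩ P hQP) (fun e => hne ((congrArg PrimeSpectrum.asIdeal (hinj e) : Q = P.asIdeal) ▸ hQ))
  -- separate the point from the other isolated common zeros
  let T : Finset (Ideal Γ(X.left, U)) :=
    (Ideal.finite_minimalPrimes_of_isNoetherianRing _ (Ideal.span {f, t})).toFinset.erase P.asIdeal
  obtain ⟨g, hgT, hgP⟩ : ∃ g ∈ T.inf id, g ∉ P.asIdeal := by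
    rw [← SetLike.not_le_iff_exists]
    intro h
    obtain ⟨Q, hQ, hQP⟩ := (Ideal.IsPrime.inf_le' P.2).1 h
    rw [Finset.mem_erase, Set.Finite.mem_toFinset] at hQ
    exact hQ.1 (le_antisymm hQP (hPmin.2 hQ.2.1 hQP))
  obtain ⟨Qf, hQf, hQfP⟩ := Ideal.exists_minimalPrimes_le ((Ideal.span_singleton_le_iff_mem P.asIdeal).2 hfP)
  have hle : X.left.basicOpen g ≤ U := X.left.basicOpen_le g
  have hres : ∀ y ∈ X.left.basicOpen g, (y ∈ X.left.basicOpen (X.left.presheaf.map (homOfLE hle).op f) ↔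
      y ∈ X.left.basicOpen f) := fun y hy => by
    rw [Scheme.basicOpen_res]
    exact ⟨fun h => h.2, fun h => ⟨hy, h⟩⟩
  have hxg : x ∈ X.left.basicOpen g := hP ▸ (hzero P g).2 hgP
  haveI : Nonempty (X.left.basicOpen g) := ⟨⟨x, hxg⟩⟩
  refine ⟨X.left.basicOpen g, hU.basicOpen g, X.left.presheaf.map (homOfLE hle).op f, fun h => hf0 ?_, hxg,
    fun h => (hzero P f).1 (hP.symm ▸ (hres x hxg).1 h) hfP, ?_, s ⟨Qf, hQf.1.1⟩, ?_, ?_, ?_,
    hP ▸ hspec ⟨Qf, hQf.1.1⟩ P hQfP⟩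
  · refine germ_injective_of_isIntegral X.left x hxU ?_
    rw [← X.left.presheaf.germ_res_apply (homOfLE hle) x hxg f, h, map_zero, map_zero]
  · intro y hy hyf hys
    obtain ⟨Q, rfl⟩ : y ∈ Set.range s := by rw [hU.range_fromSpec]; exact hle hy
    have hfQ : f ∈ Q.asIdeal := by
      by_contra hc
      exact hyf ((hres _ hy).2 ((hzero Q f).2 hc))
    obtain ⟨Q', hQ', hQ'Q⟩ := Ideal.exists_minimalPrimes_le (I := Ideal.span {f, t}) (J := Q.asIdeal)
      (Ideal.span_le.2 (by rintro a (rfl | rfl); exacts [hfQ, (hsp Q).1 hys]))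
    by_cases he : Q' = P.asIdeal
    · rw [hPmax Q (he ▸ hQ'Q), hP]
    · exact absurd (hQ'Q (Finset.inf_le (f := id) (Finset.mem_erase.2 ⟨he, (Set.Finite.mem_toFinset _).2 hQ'⟩) hgT))
        ((hzero Q g).1 hy)
  · exact (hzero _ g).2 fun h => hgP (hQfP h)
  · exact fun h => (hzero ⟨Qf, hQf.1.1⟩ f).1 ((hres _ ((hzero _ g).2 fun h => hgP (hQfP h))).1 h)
      (hQf.1.2 (Ideal.mem_span_singleton_self f))
  · intro e
    exact hmin f ((congrArg PrimeSpectrum.asIdeal (hinj (e.trans hP.symm)) : Qf = P.asIdeal) ▸ hQf)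

/-- The kernel of the zero scheme of a function on an affine open, on that open. -/
theorem ker_ideal_zeros {Y : Scheme.{u}} [Y.IsSeparated] (V : Y.affineOpens) (f : Γ(Y, V.1)) :
    (Spec.map (CommRingCat.ofHom (Ideal.Quotient.mk (Ideal.span {f}))) ≫ V.2.fromSpec).ker.ideal V =
      Ideal.span {f} := by
  let mk := CommRingCat.ofHom (Ideal.Quotient.mk (Ideal.span {f}))
  let i := Spec.map mk ≫ V.2.fromSpec
  rw [Scheme.Hom.ker_apply]
  have htop : i ⁻¹ᵁ V.1 = ⊤ := top_le_iff.1 fun z _ => V.2.range_fromSpec.le ⟨_, rfl⟩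
  have h1 : i.appLE V.1 ⊤ htop.ge = mk ≫ (Scheme.ΓSpecIso _).inv := by
    rw [Scheme.Hom.comp_appLE, V.2.fromSpec_app_self, Category.assoc, Scheme.Hom.map_appLE,
      show (Spec.map mk).appLE ⊤ ⊤ _ = (Spec.map mk).appTop from (Spec.map mk).appLE_eq_app,
      ← Scheme.ΓSpecIso_inv_naturality]
  let e := (Spec (CommRingCat.of (Γ(Y, V.1) ⧸ Ideal.span {f}))).presheaf.map (homOfLE htop.ge).op
  haveI : IsIso e := by
    have : IsIso (homOfLE htop.ge) := ⟨homOfLE htop.le, Subsingleton.elim _ _, Subsingleton.elim _ _⟩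
    infer_instance
  have h2 : RingHom.ker (e.hom.comp (i.app V.1).hom) = RingHom.ker (i.app V.1).hom :=
    RingHom.ker_equiv_comp _ (asIso e).commRingCatIsoToRingEquiv
  refine h2.symm.trans ?_
  show RingHom.ker (i.appLE V.1 ⊤ htop.ge).hom = _
  rw [h1]
  show RingHom.ker ((Scheme.ΓSpecIso _).inv.hom.comp mk.hom) = _
  refine (RingHom.ker_equiv_comp _ (Scheme.ΓSpecIso (CommRingCat.of (Γ(Y, V.1) ⧸ Ideal.span {f}))).symm.commRingCatIsoToRingEquiv).trans ?_
  exact Ideal.mk_ker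

/-- A non-maximal point of a discrete valuation ring is the zero prime. -/
theorem asIdeal_eq_bot_of_ne {p : Spec (CommRingCat.of R)} (h : p ≠ IsLocalRing.closedPoint R) :
    p.asIdeal = ⊥ := by
  by_contra h0
  exact h (PrimeSpectrum.ext (IsLocalRing.eq_maximalIdeal (p.2.isMaximal h0)))

/-- A horizontal effective Cartier divisor meeting the closed fibre in a given point. -/
theorem exists_horizontal_divisor [HenselianLocalRing R] (hdim : topologicalKrullDim X.left = 2) (x : X.left)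
    (hx : IsClosed ({x} : Set X.left)) (hxs : X.hom x = IsLocalRing.closedPoint R) :
    ∃ (D : Scheme.{u}) (d : D ⟶ X.left), IsClosedImmersion d ∧ BlowUp.IsEffCartierIdeal d.ker ∧
      (∀ p : D, ∃ q : D, q ⤳ p ∧ ((d ≫ X.hom).base q).asIdeal = ⊥) ∧
      Set.range d.base ∩ Models.specialFibreSet R X = {x} := by
  classical
  haveI : IsLocallyNoetherian X.left := LocallyOfFiniteType.isLocallyNoetherian X.hom
  haveI : X.left.IsSeparated := ⟨by rw [← terminal.comp_from X.hom]; infer_instance⟩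
  obtain ⟨V, hV, f, hf0, hxV, hxf, hiso, y₁, hy₁V, hy₁f, hy₁x, hy₁⟩ := exists_equation_isolated X hdim x hx hxs
  haveI : IsNoetherianRing Γ(X.left, V) := IsLocallyNoetherian.component_noetherian ⟨V, hV⟩
  let mk := CommRingCat.ofHom (Ideal.Quotient.mk (Ideal.span {f}))
  haveI : IsClosedImmersion (Spec.map mk) :=
    IsClosedImmersion.spec_of_surjective mk Ideal.Quotient.mk_surjective
  let i := Spec.map mk ≫ hV.fromSpec
  have hrange : ∀ y, y ∈ Set.range i ↔ y ∈ V ∧ y ∉ X.left.basicOpen f := by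
    intro y
    constructor
    · rintro ⟨z, rfl⟩
      refine ⟨hV.range_fromSpec.le ⟨_, rfl⟩, fun h => ?_⟩
      have h' : Spec.map mk z ∈ hV.fromSpec ⁻¹ᵁ X.left.basicOpen f := h
      rw [hV.fromSpec_preimage_basicOpen] at h'
      refine h' ?_
      show Ideal.Quotient.mk (Ideal.span {f}) f ∈ z.asIdeal
      rw [Ideal.Quotient.eq_zero_iff_mem.2 (Ideal.mem_span_singleton_self f)]
      exact zero_mem _
    · rintro ⟨hy, hyf⟩
      obtain ⟨a, rfl⟩ : y ∈ Set.range hV.fromSpec := by rw [hV.range_fromSpec]; exact hy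
      have ha : f ∈ a.asIdeal := by
        by_contra hc
        refine hyf (show a ∈ hV.fromSpec ⁻¹ᵁ X.left.basicOpen f from ?_)
        rw [hV.fromSpec_preimage_basicOpen]
        exact hc
      obtain ⟨z, hz⟩ : a ∈ Set.range (PrimeSpectrum.comap (Ideal.Quotient.mk (Ideal.span {f}))) := by
        rw [range_comap_of_surjective _ _ Ideal.Quotient.mk_surjective, Ideal.mk_ker]
        show (Ideal.span {f} : Set Γ(X.left, V)) ⊆ a.asIdeal
        exact (Ideal.span_singleton_le_iff_mem _).2 ha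
      exact ⟨z, congrArg hV.fromSpec hz⟩
  have hij : Function.Injective i := hV.fromSpec.isOpenEmbedding.injective.comp (Spec.map mk).isClosedEmbedding.injective
  let π := i ≫ X.hom
  haveI : Nonempty V := ⟨⟨x, hxV⟩⟩
  have hξf : genericPoint X.left ∈ X.left.basicOpen f :=
    ((genericPoint_spec X.left).mem_open_set_iff (X.left.basicOpen f).2).2 (by
      rw [Set.univ_inter]
      exact (Opens.ne_bot_iff_nonempty _).1 fun h => hf0 ((basicOpen_eq_bot_iff f).1 h))
  have hgen : ∀ z z', π z ≠ IsLocalRing.closedPoint R → z' ⤳ z → z' = z := fun z z' hz hz' => by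
    by_contra hne
    obtain ⟨c, hc, hcs⟩ := exists_specializes_special X (i z)
    exact false_of_chain hdim (genericPoint_specializes (i z'))
      (fun e => ((hrange _).1 ⟨z', rfl⟩).2 (e ▸ hξf)) (hz'.map i.continuous)
      (fun e => hne (hij e)) hc fun e => hz ((congrArg X.hom e).trans hcs)
  haveI : LocallyQuasiFinite π := by
    refine LocallyQuasiFinite.of_finite_preimage_singleton π fun p => ?_
    by_cases hp : p = IsLocalRing.closedPoint R
    · refine Set.Subsingleton.finite fun z hz z' hz' => hij ?_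
      obtain ⟨h1, h2⟩ := (hrange _).1 ⟨z, rfl⟩
      obtain ⟨h1', h2'⟩ := (hrange _).1 ⟨z', rfl⟩
      rw [hiso _ h1 h2 (hp ▸ hz), hiso _ h1' h2' (hp ▸ hz')]
    · refine Set.Finite.subset (NoetherianSpace.finite_irreducibleComponents.dependent_image
        fun Z hZ => (hZ.1 : IsIrreducible Z).genericPoint) fun z hz => ?_
      refine ⟨irreducibleComponent z, irreducibleComponent_mem_irreducibleComponents z, ?_⟩
      refine hgen z _ ((hz : π z = p).trans_ne hp) ?_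
      rw [specializes_iff_mem_closure, IsIrreducible.genericPoint_closure_eq, isClosed_irreducibleComponent.closure_eq]
      exact mem_irreducibleComponent
  haveI : IsSeparated π := inferInstance
  obtain ⟨W, ⟨hWc, hWf, hWx⟩, -⟩ := Groth.Agent.S17447.result R π
  haveI := hWf
  let d := W.ι ≫ i
  haveI : IsProper (d ≫ X.hom) := by
    rw [show d ≫ X.hom = W.ι ≫ π from Category.assoc _ _ _]
    infer_instance
  haveI : IsProper d := IsProper.of_comp d X.hom
  haveI : IsClosedImmersion d := IsClosedImmersion.of_isPreimmersion _ d.isClosedMap.isClosed_range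
  obtain ⟨zx, hzx⟩ := (hrange x).2 ⟨hxV, hxf⟩
  have hzxW : zx ∈ W := hWx zx ((congrArg X.hom hzx).trans hxs)
  have hsp : ∀ p : W.toScheme, (d ≫ X.hom) p = IsLocalRing.closedPoint R → d p = x := fun p hp => by
    obtain ⟨h1, h2⟩ := (hrange _).1 ⟨p.1, rfl⟩
    exact hiso _ h1 h2 hp
  refine ⟨W, d, inferInstance, fun y => ?_, fun p => ?_, ?_⟩
  · by_cases hy : y ∈ Set.range d
    swap
    · obtain ⟨U, hU, hyU, hle⟩ := exists_isAffineOpen_mem_and_subset (x := y)
        (U := (⟨(Set.range d)ᶜ, d.isClosedMap.isClosed_range.isOpen_compl⟩ : X.left.Opens)) hy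
      refine ⟨⟨U, hU⟩, hyU, 1, one_mem _, ?_⟩
      rw [Ideal.span_singleton_one, Scheme.Hom.ker_apply]
      haveI : Subsingleton Γ(W.toScheme, d ⁻¹ᵁ U) := by
        rw [show d ⁻¹ᵁ U = ⊥ from bot_unique fun z hz => hle hz ⟨z, rfl⟩]
        infer_instance
      exact (Ideal.eq_top_iff_one _).2 (Subsingleton.elim _ _)
    obtain ⟨p, rfl⟩ := hy
    obtain ⟨O, hO, hOeq⟩ := (Spec.map mk ≫ hV.fromSpec).isEmbedding.isInducing.isOpen_iff.1 W.2
    obtain ⟨h, hhle, hhy⟩ := hV.exists_basicOpen_le (V := V ⊓ ⟨O, hO⟩)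
      ⟨d p, hV.range_fromSpec.le ⟨_, rfl⟩, hOeq.ge p.2⟩ (hV.range_fromSpec.le ⟨_, rfl⟩)
    let U : X.left.affineOpens := ⟨X.left.basicOpen h, hV.basicOpen h⟩
    have hUV : U.1 ≤ V := X.left.basicOpen_le h
    haveI : Nonempty U.1 := ⟨⟨_, hhy⟩⟩
    refine ⟨U, hhy, X.left.presheaf.map (homOfLE hUV).op f, mem_nonZeroDivisors_of_ne_zero fun h0 => hf0 ?_, ?_⟩
    · refine germ_injective_of_isIntegral X.left (d p) (hUV hhy) ?_
      rw [← X.left.presheaf.germ_res_apply (homOfLE hUV) (d p) hhy f, h0, map_zero, map_zero]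
    · have hpre : i ⁻¹ᵁ U.1 ≤ W := fun z hz => hOeq.le (hhle hz).2
      haveI : IsIso (W.ι.app (i ⁻¹ᵁ U.1)) := W.ι.isIso_app _ (by simpa using hpre)
      rw [Scheme.Hom.ker_apply, show RingHom.ker (d.app U.1).hom = RingHom.ker (i.app U.1).hom from ?_,
        ← Scheme.Hom.ker_apply, ← i.ker.map_ideal (U := U) (V := ⟨V, hV⟩) hUV, ker_ideal_zeros ⟨V, hV⟩ f,
        Ideal.map_span, Set.image_singleton]
      · rfl
      show RingHom.ker ((W.ι.app (i ⁻¹ᵁ U.1)).hom.comp (i.app U.1).hom) = _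
      exact RingHom.ker_equiv_comp _ (asIso (W.ι.app (i ⁻¹ᵁ U.1))).commRingCatIsoToRingEquiv
  · by_cases hp : (d ≫ X.hom) p = IsLocalRing.closedPoint R
    swap
    · exact ⟨p, specializes_rfl, asIdeal_eq_bot_of_ne hp⟩
    obtain ⟨z₁, hz₁⟩ := (hrange y₁).2 ⟨hy₁V, hy₁f⟩
    have hs : z₁ ⤳ zx := (Spec.map mk ≫ hV.fromSpec).isEmbedding.isInducing.specializes_iff.1 (by
      rw [hzx, hz₁]; exact hy₁)
    let q : W.toScheme := ⟨z₁, hs.mem_open W.2 hzxW⟩
    refine ⟨q, d.isClosedEmbedding.isInducing.specializes_iff.1 ?_, ?_⟩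
    · rw [hsp p hp]; exact hz₁.symm ▸ hy₁
    · refine asIdeal_eq_bot_of_ne fun hq => hy₁x ?_
      exact hz₁.symm.trans (hsp q hq)
  · refine Set.Subset.antisymm ?_ (Set.singleton_subset_iff.2 ⟨⟨⟨zx, hzxW⟩, hzx⟩, hxs⟩)
    rintro _ ⟨⟨p, rfl⟩, hp⟩
    exact hsp p hp

end Groth.L13.CurveContr
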