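import Groth.Agent.L13.CurveContr.AffineSupport
import Groth.Agent.L15.Ref.InvDiv
import Groth.Agent.L18.CurveBasic
import Groth.Agent.L03.BlowPt.Factor
import Groth.Agent.L15.CohFlat
import Mathlib.AlgebraicGeometry.ZariskisMainTheorem

/-!
# Horizontal divisors on fibred surfaces are finite over the base
-/

set_option autoImplicit false
set_option linter.style.haveILetI false
set_option linter.unusedSectionVars false
universe u

open CategoryTheory CategoryTheory.Limits AlgebraicGeometry TopologicalSpace

noncomputable section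

namespace Groth.L13.CurveContr

/-- No chain of four points in a two-dimensional scheme. -/
theorem false_of_chain {X : Scheme.{u}} (hdim : topologicalKrullDim X = 2) {a b c d : X}
    (h₁ : a ⤳ b) (n₁ : a ≠ b) (h₂ : b ⤳ c) (n₂ : b ≠ c) (h₃ : c ⤳ d) (n₃ : c ≠ d) : False := by
  have k₁ := Groth.L03.BlowPt.Factor.dim_add_one_le h₁ n₁
  have k₂ := Groth.L03.BlowPt.Factor.dim_add_one_le h₂ n₂
  have k₃ := Groth.L03.BlowPt.Factor.dim_add_one_le h₃ n₃
  have h0 : 0 ≤ ringKrullDim (X.presheaf.stalk a) := ringKrullDim_nonneg_of_nontrivial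
  have h5 : (0 : WithBot ℕ∞) + 1 + 1 + 1 ≤ 2 := by
    refine le_trans ?_ ((k₃.trans (Groth.L15.CohFlat.ringKrullDim_stalk_le _)).trans hdim.le)
    gcongr
    refine le_trans ?_ k₂
    gcongr
    refine le_trans ?_ k₁
    gcongr
  exact absurd h5 (by decide)

/-- A horizontal divisor on a fibred surface is finite over the base. -/
theorem isFinite_of_horizontal {R : Type u} [CommRing R] [IsDomain R] (hR : ¬ IsField R) [Ring.DimensionLEOne R]
    [IsNoetherianRing R] (X : Over (Spec (CommRingCat.of R))) [IsIntegral X.left] [IsProper X.hom]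
    (hdim : topologicalKrullDim X.left = 2) {D : Scheme.{u}} (d : D ⟶ X.left) [IsClosedImmersion d]
    (hD : BlowUp.IsEffCartierIdeal d.ker)
    (hhor : ∀ p : D, ∃ q : D, q ⤳ p ∧ ((d ≫ X.hom).base q).asIdeal = ⊥) :
    IsFinite (d ≫ X.hom) := by
  haveI : IsLocallyNoetherian X.left := LocallyOfFiniteType.isLocallyNoetherian X.hom
  haveI : IsLocallyNoetherian D := LocallyOfFiniteType.isLocallyNoetherian (d ≫ X.hom)
  haveI : CompactSpace D := QuasiCompact.compactSpace_of_compactSpace (d ≫ X.hom)
  haveI : IsNoetherian D := {}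
  let π := d ≫ X.hom
  have hξ : ∀ p : D, genericPoint X.left ≠ d p := fun p he =>
    Groth.L15.Ref.genericPoint_not_mem_range (D := d.ker) hD (by
      rw [Scheme.IdealSheafData.range_subschemeι, Scheme.Hom.support_ker, he]
      exact subset_closure ⟨p, rfl⟩)
  -- every point over a non-zero prime specialises nowhere else
  have hinj := d.isClosedEmbedding.injective
  have hclosed : ∀ p : D, (π.base p).asIdeal ≠ ⊥ → IsClosed ({p} : Set D) := fun p hp =>
    isClosed_of_closure_subset fun p' hp' => by
      by_contra hne
      obtain ⟨q, hq, hq0⟩ := hhor p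
      exact false_of_chain hdim (genericPoint_specializes (d q)) (hξ q) (hq.map d.continuous)
        (fun e => hp (hinj e ▸ hq0)) ((specializes_iff_mem_closure.2 hp').map d.continuous)
        (fun e => hne (hinj e).symm)
  -- points over the zero prime are maximal
  have hmax : ∀ p p' : D, (π.base p).asIdeal = ⊥ → p' ⤳ p → p' = p := fun p p' hp hp' => by
    by_contra hne
    obtain ⟨m, hm⟩ := Ideal.exists_maximal R
    have hm0 : m ≠ ⊥ := fun e => hR ((Ring.isField_iff_maximal_bot).2 (e ▸ hm))
    have hsp : π.base p ⤳ (⟨m, hm.isPrime⟩ : PrimeSpectrum R) :=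
      (PrimeSpectrum.le_iff_specializes _ _).1 (show (π.base p).asIdeal ≤ m from hp.le.trans bot_le)
    obtain ⟨z, hz, hzm⟩ : (⟨m, hm.isPrime⟩ : PrimeSpectrum R) ∈ π.base '' closure {p} :=
      hsp.mem_closed (π.isClosedMap _ isClosed_closure) ⟨p, subset_closure rfl, rfl⟩
    exact false_of_chain hdim (genericPoint_specializes (d p')) (hξ p') (hp'.map d.continuous)
      (fun e => hne (hinj e)) ((specializes_iff_mem_closure.2 hz).map d.continuous)
      (fun e => hm0 ((congrArg PrimeSpectrum.asIdeal (hinj e ▸ hzm : π.base p = _)).symm.trans hp))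
  haveI : LocallyQuasiFinite π := by
    refine LocallyQuasiFinite.of_finite_preimage_singleton π fun s => ?_
    by_cases hs : s.asIdeal = ⊥
    · refine Set.Finite.subset (NoetherianSpace.finite_irreducibleComponents.dependent_image
        fun Z hZ => (hZ.1 : IsIrreducible Z).genericPoint) fun p hp => ?_
      have hZ := irreducibleComponent_mem_irreducibleComponents p
      refine ⟨irreducibleComponent p, hZ, ?_⟩
      refine hmax p _ ((congrArg PrimeSpectrum.asIdeal hp).trans hs) ?_
      rw [specializes_iff_mem_closure, IsIrreducible.genericPoint_closure_eq, isClosed_irreducibleComponent.closure_eq]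
      exact mem_irreducibleComponent
    · haveI : s.asIdeal.IsMaximal := s.2.isMaximal hs
      exact Groth.L18.Curve.finite_of_forall_isClosed
        (((PrimeSpectrum.isClosed_singleton_iff_isMaximal s).2 inferInstance).preimage π.continuous)
        fun p hp => hclosed p fun h => hs ((congrArg PrimeSpectrum.asIdeal (hp : π.base p = s)).symm.trans h)
  exact IsFinite.of_isProper_of_locallyQuasiFinite π

end Groth.L13.CurveContr
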