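import Groth.Agent.L12.GenusZero.Main
import Groth.Agent.L07.DiffOpSheaf
import Groth.Agent.L13.CurveContr.Degree
import Groth.Agent.L24.GrpdField.SubGrpd

/-!
# Nef modules when only one curve is contracted
-/

set_option autoImplicit false
set_option backward.isDefEq.respectTransparency false
set_option linter.style.haveILetI false
set_option linter.unusedSectionVars false
universe u

open CategoryTheory CategoryTheory.Limits AlgebraicGeometry TopologicalSpace

noncomputable section

namespace Groth.L13.CurveContr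

/-- A nonzero section survives pullback along an isomorphism. -/
theorem nontrivial_h0_pullback_iso {C E : Scheme.{u}} (k₀ : C ⟶ E) [IsIso k₀] {G : E.Modules}
    (ψ : Coh.structureModule E ⟶ G) (hψ : ψ ≠ 0) :
    Nontrivial (Coh.HH C ((Scheme.Modules.pullback k₀).obj G) 0) := by
  let σ : Coh.structureModule C ⟶ (Scheme.Modules.pullback k₀).obj G :=
    (Groth.L29.LocFree.pullbackUnitIso k₀).inv ≫ (Scheme.Modules.pullback k₀).map ψ
  refine ⟨(Groth.L21.RR.e0 _).symm (σ.app ⊤ (Groth.L21.RR.oneSec C)), 0, fun h => hψ ?_⟩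
  have h0 : σ = 0 := Groth.L21.RR.hom_ext_one (by
    have h' := congrArg (Groth.L21.RR.e0 _) h
    rw [AddEquiv.apply_symm_apply, map_zero] at h'
    exact h'.trans rfl)
  have h1 : (Scheme.Modules.pullback k₀).map ψ = 0 := by
    rw [← cancel_epi (Groth.L29.LocFree.pullbackUnitIso k₀).inv, comp_zero]; exact h0
  haveI := Groth.L07.DiffOpSheaf.isIso_unit_of_isIso k₀ G
  have h2 := (Scheme.Modules.pullbackPushforwardAdjunction k₀).unit.naturality ψ
  simp only [Functor.id_map, Functor.comp_map, h1, Functor.map_zero, comp_zero] at h2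
  exact (cancel_mono ((Scheme.Modules.pullbackPushforwardAdjunction k₀).unit.app G)).1
    (h2.trans zero_comp.symm)

/-- A module is nef relative to a map contracting only one curve, if it has a section on that curve. -/
theorem nefOver_of_contracted {E U : Scheme.{u}} {A : Type u} [CommRing A] [U.Over (Spec (CommRingCat.of A))]
    [IsProper (U ↘ Spec (CommRingCat.of A))] (l : E ⟶ U) [IsClosedImmersion l] [IsIntegral E]
    (hdE : topologicalKrullDim E = 1) {N : U.Modules} (hN : PicF.IsInvertible N)
    (ψ : Coh.structureModule E ⟶ (Scheme.Modules.pullback l).obj N) (hψ : ψ ≠ 0) (z : Spec (CommRingCat.of A))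
    (hfib : ∀ p, p ≠ z → ((U ↘ Spec (CommRingCat.of A)) ⁻¹' {p}).Subsingleton)
    (hz : ∀ x, (U ↘ Spec (CommRingCat.of A)) x = z → x ∈ Set.range l) :
    Groth.L12.GenusZero.NefOver A N := by
  intro K _ q hq C j _ t hC hdim ht
  haveI := hC
  letI : C.Over (Spec (CommRingCat.of K)) := ⟨t⟩
  haveI : IsProper (C ↘ Spec (CommRingCat.of K)) := by
    haveI : IsProper (t ≫ Spec.map (CommRingCat.ofHom q)) := by
      rw [ht]; infer_instance
    exact IsProper.of_comp t (Spec.map (CommRingCat.ofHom q))
  haveI : Subsingleton (Spec (CommRingCat.of K)) := inferInstanceAs (Subsingleton (PrimeSpectrum K))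
  set p₀ := (U ↘ Spec (CommRingCat.of A)) (j (genericPoint C))
  have hp : ∀ c, (U ↘ Spec (CommRingCat.of A)) (j c) = p₀ := fun c => by
    rw [← Scheme.Hom.comp_apply, ← ht, Scheme.Hom.comp_apply, Subsingleton.elim (t c) (t (genericPoint C)),
      ← Scheme.Hom.comp_apply, ht, Scheme.Hom.comp_apply]
  have hp₀ : p₀ = z := by
    by_contra hne
    haveI : Subsingleton C := ⟨fun a b => j.isClosedEmbedding.injective (hfib p₀ hne (hp a) (hp b))⟩
    have h0 : topologicalKrullDim C ≤ 0 := by
      refine Order.krullDim_nonpos_iff_forall_isMax.2 fun P Q hPQ => ?_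
      obtain ⟨a, ha⟩ := P.isIrreducible.1
      exact fun b _ => (Subsingleton.elim b a) ▸ ha
    rw [hdim] at h0
    exact not_lt.2 h0 (by norm_num)
  obtain ⟨k₀, hk₀⟩ := Groth.L24.GrpdField.exists_lift_of_range_subset l j (by
    rintro _ ⟨c, rfl⟩
    exact hz _ ((hp c).trans hp₀))
  haveI : IsClosedImmersion (k₀ ≫ l) := hk₀ ▸ inferInstanceAs (IsClosedImmersion j)
  haveI : IsClosedImmersion k₀ := IsClosedImmersion.of_comp k₀ l
  haveI := isIso_of_curve hdE k₀ hC hdim
  let e : (Scheme.Modules.pullback k₀).obj ((Scheme.Modules.pullback l).obj N) ≅ (Scheme.Modules.pullback j).obj N :=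
    (Scheme.Modules.pullbackComp k₀ l).app N ≪≫ (Scheme.Modules.pullbackCongr hk₀).app N
  refine le_of_le_of_eq ?_ (Groth.L21.RR.deg_congr K e 1)
  exact Groth.L21.RR.deg_nonneg K hdim.le
    (Groth.L18.Ample.isInvertible_pullback k₀ (Groth.L18.Ample.isInvertible_pullback l hN))
    (nontrivial_h0_pullback_iso k₀ ψ hψ)

end Groth.L13.CurveContr
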